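import Mathlib.GroupTheory.SpecificGroups.Alternating
import Mathlib.GroupTheory.GroupAction.Basic
import Mathlib.Data.Fin.VecNotation
import Mathlib.Tactic.FinCases

/-!
# Facts on the alternating group of degree six
-/

set_option autoImplicit false

namespace Cfsg.Agent.Lib.ThreeNine.SixFacts

open Equiv

def c1 : Perm (Fin 6) := swap 0 1 * swap 1 2
def c2 : Perm (Fin 6) := swap 0 3 * swap 3 4

def step (l : List (List (Fin 6))) : List (List (Fin 6)) :=
  (l ++ l.map (fun t => t.map c1) ++ l.map (fun t => t.map c2)).eraseDups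

def words : List (List (Fin 6)) := (step^[8]) [[0, 1, 2, 3, 4, 5]]

theorem words_count : words.length = 60 ∧ words.Nodup := by decide +kernel

def tup (σ : Perm (Fin 6)) : List (Fin 6) := [σ 0, σ 1, σ 2, σ 3, σ 4, σ 5]

theorem tup_injective : Function.Injective tup := by
  intro σ τ h
  simp only [tup, List.cons.injEq, and_true] at h
  obtain ⟨h0, h1, h2, h3, h4, h5⟩ := h
  ext i
  fin_cases i <;> simp_all

theorem mem_A6_c1 : c1 ∈ alternatingGroup (Fin 6) := by
  simp [c1, Perm.mem_alternatingGroup]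

theorem mem_A6_c2 : c2 ∈ alternatingGroup (Fin 6) := by
  simp [c2, Perm.mem_alternatingGroup]

abbrev A6 := alternatingGroup (Fin 6)

def g1 : A6 := ⟨c1, mem_A6_c1⟩
def g2 : A6 := ⟨c2, mem_A6_c2⟩

theorem words_mem : ∀ t ∈ words, ∃ σ ∈ Subgroup.closure ({g1, g2} : Set A6),
    tup (σ : Perm (Fin 6)) = t := by
  suffices ∀ n, ∀ t ∈ (step^[n]) [[0, 1, 2, 3, 4, 5]],
      ∃ σ ∈ Subgroup.closure ({g1, g2} : Set A6), tup (σ : Perm (Fin 6)) = t from this 8
  intro n
  induction n with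
  | zero =>
    intro t ht
    rw [Function.iterate_zero, id, List.mem_singleton] at ht
    exact ⟨1, one_mem _, ht ▸ rfl⟩
  | succ n ih =>
    intro t ht
    rw [Function.iterate_succ_apply'] at ht
    simp only [step, List.mem_eraseDups, List.mem_append, List.mem_map] at ht
    rcases ht with (ht | ⟨s, hs, rfl⟩) | ⟨s, hs, rfl⟩
    · exact ih t ht
    · obtain ⟨σ, hσ, rfl⟩ := ih s hs
      exact ⟨g1 * σ, mul_mem (Subgroup.subset_closure (by simp)) hσ, rfl⟩
    · obtain ⟨σ, hσ, rfl⟩ := ih s hs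
      exact ⟨g2 * σ, mul_mem (Subgroup.subset_closure (by simp)) hσ, rfl⟩

theorem exists_move (i : Fin 6) : ∃ k : A6, (k : Perm (Fin 6)) 5 = i := by
  have h : ∀ i : Fin 6, i = 5 ∨ ∃ a b : Fin 6, a ≠ b ∧ (5 : Fin 6) ≠ i ∧
      (swap (5 : Fin 6) i * swap a b) 5 = i := by
    decide +kernel
  rcases h i with rfl | ⟨a, b, hab, hi, h5⟩
  · exact ⟨1, rfl⟩
  · exact ⟨⟨swap 5 i * swap a b, by
      simp [Perm.mem_alternatingGroup, Perm.sign_swap, hab, hi]⟩, h5⟩

instance pretransA6 : MulAction.IsPretransitive A6 (Fin 6) := ⟨fun x y => by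
  obtain ⟨k, hk⟩ := exists_move x
  obtain ⟨l, hl⟩ := exists_move y
  refine ⟨l * k⁻¹, ?_⟩
  show (l : Perm (Fin 6)) ((k : Perm (Fin 6))⁻¹ x) = y
  rw [← hk]
  simp [hl]⟩

theorem card_A6 : Nat.card A6 = 360 := by
  have h : 2 * Nat.card A6 = Nat.card (Perm (Fin 6)) := two_mul_nat_card_alternatingGroup
  rw [Nat.card_perm, Nat.card_fin, show (6 : ℕ).factorial = 720 from rfl] at h
  omega

theorem card_stab (i : Fin 6) : Nat.card (MulAction.stabilizer A6 i) = 60 := by
  have h := (MulAction.stabilizer A6 i).index_mul_card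
  rw [MulAction.index_stabilizer_of_transitive, Nat.card_fin, card_A6] at h
  omega

/-- Two standard three-cycles generate the stabiliser of the last point. -/
theorem closure_eq : Subgroup.closure ({g1, g2} : Set A6) = MulAction.stabilizer A6 (5 : Fin 6) := by
  refine Subgroup.eq_of_le_of_card_ge ((Subgroup.closure_le _).mpr ?_) ?_
  · rintro x (rfl | rfl) <;>
      · show (_ : Perm (Fin 6)) 5 = 5
        decide +kernel
  · rw [card_stab]
    choose σ hσ hσt using words_mem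
    let F : {t // t ∈ words.toFinset} → Subgroup.closure ({g1, g2} : Set A6) := fun t =>
      ⟨σ t.1 (List.mem_toFinset.mp t.2), hσ _ _⟩
    have hF : Function.Injective F := fun s t h => Subtype.ext (by
      rw [← hσt s.1 (List.mem_toFinset.mp s.2), ← hσt t.1 (List.mem_toFinset.mp t.2)]
      exact congrArg (fun x : Subgroup.closure ({g1, g2} : Set A6) =>
        tup ((x : A6) : Perm (Fin 6))) h)
    have h := Nat.card_le_card_of_injective F hF
    rwa [Nat.card_eq_fintype_card, Fintype.card_coe, List.toFinset_card_of_nodup words_count.2,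
      words_count.1] at h

theorem stab_injective : Function.Injective fun i : Fin 6 => MulAction.stabilizer A6 i := by
  intro i j h
  by_contra hne
  have key : ∀ i j : Fin 6, i ≠ j → ∃ a b c : Fin 6, a ≠ b ∧ b ≠ c ∧
      (swap a b * swap b c) i = i ∧ (swap a b * swap b c) j ≠ j := by decide +kernel
  obtain ⟨a, b, c, hab, hbc, hi, hj⟩ := key i j hne
  have hm : (⟨swap a b * swap b c, by
      simp [Perm.mem_alternatingGroup, Perm.sign_swap, hab, hbc]⟩ : A6) ∈
      MulAction.stabilizer A6 i := hi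
  rw [show MulAction.stabilizer A6 i = MulAction.stabilizer A6 j from h] at hm
  exact hj hm

/-- Two three-cycles with a product of order five fix a common point. -/
theorem pair_common {σ τ : Perm (Fin 6)} {p q : Perm (Fin 6)} (hp : p = σ * c1 * σ⁻¹)
    (hq : q = τ * c1 * τ⁻¹) (h5 : (p * q) ^ 5 = 1) (hne : p * q ≠ 1) :
    ∃ i, p i = i ∧ q i = i := by
  have key : ∀ x y z : Fin 6, x ≠ y → x ≠ z → y ≠ z →
      (c1 * (swap x y * swap y z)) ^ 5 = 1 → c1 * (swap x y * swap y z) ≠ 1 →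
      ∃ i, c1 i = i ∧ (swap x y * swap y z) i = i := by decide +kernel
  set ρ := σ⁻¹ * τ with hρ
  have hc : swap (ρ 0) (ρ 1) * swap (ρ 1) (ρ 2) = ρ * c1 * ρ⁻¹ := by
    rw [Equiv.swap_apply_apply, Equiv.swap_apply_apply, c1]
    group
  have hpq : p * q = σ * (c1 * (ρ * c1 * ρ⁻¹)) * σ⁻¹ := by
    rw [hp, hq, hρ]; group
  rw [hpq, conj_pow] at h5
  rw [hpq] at hne
  have h5' : (c1 * (ρ * c1 * ρ⁻¹)) ^ 5 = 1 := conj_eq_one_iff.mp h5
  have hne' : c1 * (ρ * c1 * ρ⁻¹) ≠ 1 := fun h => hne (by rw [h]; group)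
  have hi : ∀ u v : Fin 6, u ≠ v → ρ u ≠ ρ v := fun u v h h' => h (ρ.injective h')
  obtain ⟨i, hi1, hi2⟩ := key (ρ 0) (ρ 1) (ρ 2) (hi _ _ (by decide)) (hi _ _ (by decide))
    (hi _ _ (by decide)) (hc ▸ h5') (hc ▸ hne')
  rw [hc] at hi2
  refine ⟨σ i, ?_, ?_⟩
  · rw [hp]
    simp [hi1]
  · have : q = σ * (ρ * c1 * ρ⁻¹) * σ⁻¹ := by rw [hq, hρ]; group
    rw [this]
    simp only [Perm.mul_apply] at hi2 ⊢
    simp
    exact hi2

/-- No involution of the alternating group centralises a three-cycle. -/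
theorem no_invol {t : A6} (h2 : t * t = 1) (hc : t * g1 = g1 * t) : t = 1 := by
  have key : ∀ x d e g : Fin 6,
      let s : Fin 6 → Fin 6 := ![x, c1 x, c1 (c1 x), d, e, g]
      (∀ i, s (s i) = i) → (∀ i, s (c1 i) = c1 (s i)) →
      (∀ i, s i = i) ∨ (∀ i, s i = swap (3 : Fin 6) 4 i) ∨ (∀ i, s i = swap (3 : Fin 6) 5 i) ∨
        (∀ i, s i = swap (4 : Fin 6) 5 i) := by decide +kernel
  set σ : Perm (Fin 6) := (t : Perm (Fin 6)) with hσ
  have hc' : ∀ i, σ (c1 i) = c1 (σ i) := fun i =>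
    Perm.congr_fun (congrArg Subtype.val hc) i
  have h2' : ∀ i, σ (σ i) = i := fun i => Perm.congr_fun (congrArg Subtype.val h2) i
  have hs : (![σ 0, c1 (σ 0), c1 (c1 (σ 0)), σ 3, σ 4, σ 5] : Fin 6 → Fin 6) = σ := by
    have h1 : σ 1 = c1 (σ 0) := by rw [← hc']; rfl
    have h2 : σ 2 = c1 (c1 (σ 0)) := by rw [← hc', ← hc']; rfl
    funext i
    fin_cases i <;> simp [h1, h2]
  have h := key (σ 0) (σ 3) (σ 4) (σ 5)
  simp only [hs] at h
  rcases h h2' hc' with h | h | h | h
  · exact Subtype.ext (Equiv.ext h)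
  all_goals
    exfalso
    have ht : Perm.sign σ = 1 := Perm.mem_alternatingGroup.mp t.2
    rw [show σ = swap _ _ from Equiv.ext h, Perm.sign_swap (by decide)] at ht
    exact absurd ht (by decide)

end Cfsg.Agent.Lib.ThreeNine.SixFacts
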