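import Cfsg.Agent.Lib.ThreeNine.Main
import Cfsg.Agent.Lib.ThreeNine.SixFacts
import Cfsg.Agent.Lib.CharSimple
import Cfsg.Agent.Lib.Subnormality.UniqueMaximal
import Cfsg.Agent.S0496
import Cfsg.Agent.S0497

/-!
# A group of order 720 with the local hypotheses is the symmetric group of degree six
-/

set_option autoImplicit false

namespace Cfsg.Agent.Lib.ThreeNine.Six

open Model Main
open scoped Classical

universe u

variable {G : Type u} [Group G] [Fintype G] {e : W →* G} {M : Sylow 3 G}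

theorem cent_eq (L : Local e M) {x : G} (hx : ∀ m ∈ (M : Subgroup G), m * x = x * m) :
    x ∈ (M : Subgroup G) := by
  obtain ⟨-, -, -, -, -, ha3, ha1, -, -⟩ := basic_orders
  have hm := (L.mem ea).mp ha3
  obtain ⟨w, rfl⟩ := L.cent _ hm (fun h => ha1 (L.inj (by rw [h, map_one])))
    (Subgroup.mem_centralizer_singleton_iff.mpr (hx _ hm).symm)
  have key : ∀ w : W, (∀ v : W, v * v * v = 1 → v * w = w * v) → w * w * w = 1 := by
    decide +kernel
  exact (L.mem w).mp (key w fun v hv => L.inj (by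
    rw [map_mul, map_mul]; exact hx _ ((L.mem v).mp hv)))

/-- A nontrivial normal subgroup contains the Sylow subgroup. -/
theorem le_of_normal (L : Local e M) (hM9 : Nat.card (M : Subgroup G) = 9)
    (hG : Nat.card G = 720) {K : Subgroup G} (hK : K.Normal) (hK1 : K ≠ ⊥) :
    (M : Subgroup G) ≤ K := by
  by_cases h : ∃ m ∈ (M : Subgroup G), m ∈ K ∧ m ≠ 1
  · obtain ⟨m, hm, hmK, hm1⟩ := h
    obtain ⟨u, rfl⟩ := L.M_le hm
    intro x hx
    obtain ⟨v, rfl⟩ := L.M_le hx
    have key : ∀ u v : W, u * u * u = 1 → u ≠ 1 → v * v * v = 1 →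
        v = 1 ∨ ∃ g : W, v = g * u * g⁻¹ ∨ ∃ g' : W, v = g * u * g⁻¹ * (g' * u * g'⁻¹) := by
      decide +kernel
    have hu1 : u ≠ 1 := fun h => hm1 (by rw [h, map_one])
    rcases key u v ((L.mem u).mpr hm) hu1 ((L.mem v).mpr hx) with rfl | ⟨g, rfl | ⟨g', rfl⟩⟩
    · rw [map_one]; exact one_mem _
    · rw [map_mul, map_mul, map_inv]; exact hK.conj_mem _ hmK _
    · rw [map_mul, map_mul e (g * u), map_mul e (g' * u), map_mul, map_mul, map_inv, map_inv]
      exact mul_mem (hK.conj_mem _ hmK _) (hK.conj_mem _ hmK _)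
  exfalso
  push Not at h
  have h3 : ¬ 3 ∣ Nat.card K := by
    intro hd
    have : Fact (Nat.Prime 3) := ⟨Nat.prime_three⟩
    obtain ⟨k, hk⟩ := exists_prime_orderOf_dvd_card' 3 hd
    have hk3 : (k : G) ^ 3 = 1 := by
      rw [← hk, ← Subgroup.orderOf_coe, pow_orderOf_eq_one]
    obtain ⟨g, hg⟩ := exists_conj_mem M hk3
    have h1 := h _ hg (hK.conj_mem _ k.2 _)
    have hk1 : (k : G) = 1 := conj_eq_one_iff.mp h1
    rw [← Subgroup.orderOf_coe, hk1, orderOf_one] at hk
    exact absurd hk (by norm_num)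
  have hKN : ∀ k ∈ K, k ∈ e.range → k = 1 := by
    intro k hk hkN
    have hkM : k ∈ (M : Subgroup G) := cent_eq L fun m hm => by
      have hN := (L.range ▸ hkN : k ∈ Subgroup.normalizer ((M : Subgroup G) : Set G))
      have hc : m * k * m⁻¹ * k⁻¹ = 1 := h _ (by
        rw [mul_assoc m, mul_assoc m]
        exact mul_mem hm ((Subgroup.mem_normalizer_iff.mp hN m⁻¹).mp (inv_mem hm))) (by
        exact mul_mem (hK.conj_mem _ hk m) (inv_mem hk))
      have := congrArg (· * (k * m)) hc
      simpa [mul_assoc] using this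
    exact h k hkM hk
  obtain ⟨k, hk, hk1⟩ := K.bot_or_exists_ne_one.resolve_left hK1
  -- the Sylow subgroup acts semiregularly on `K`
  have hcard : 10 ≤ Nat.card K := by
    have hinj : Function.Injective fun o : Option (M : Subgroup G) =>
        o.elim (1 : K) (fun m => ⟨(m : G) * k * (m : G)⁻¹, hK.conj_mem _ hk _⟩) := by
      rintro (_ | m) (_ | m') hh
      · rfl
      · exact absurd (conj_eq_one_iff.mp (congrArg Subtype.val hh).symm) hk1
      · exact absurd (conj_eq_one_iff.mp (congrArg Subtype.val hh)) hk1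
      · simp only [Option.elim, Subtype.mk.injEq] at hh
        congr 1
        by_contra hne
        set z : G := ((m' : G))⁻¹ * m with hz
        have hz1 : z ≠ 1 := fun h1 => hne (Subtype.ext (inv_mul_eq_one.mp h1).symm)
        refine hk1 (hKN k hk (L.cent z (mul_mem (inv_mem m'.2) m.2) hz1 ?_))
        rw [Subgroup.mem_centralizer_singleton_iff, hz]
        calc k * ((m' : G)⁻¹ * m) = (m' : G)⁻¹ * ((m' : G) * k * (m' : G)⁻¹) * m := by group
          _ = (m' : G)⁻¹ * ((m : G) * k * (m : G)⁻¹) * m := by rw [hh]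
          _ = _ := by group
    have hc := Nat.card_le_card_of_injective _ hinj
    rwa [Finite.card_option, hM9] at hc
  have hle : Nat.card K * 72 ≤ 720 := by
    have hinj : Function.Injective fun p : K × W => (p.1 : G) * e p.2 := by
      rintro ⟨a, v⟩ ⟨b, w⟩ hh
      have h1 : (b : G)⁻¹ * a = e (w * v⁻¹) := by
        rw [map_mul, map_inv, eq_mul_inv_iff_mul_eq, mul_assoc, inv_mul_eq_iff_eq_mul]
        exact hh
      have h2 := hKN _ (mul_mem (inv_mem b.2) a.2) ⟨_, h1.symm⟩
      have h3 : (b : G) = a := inv_mul_eq_one.mp h2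
      rw [h2] at h1
      have h4 : w * v⁻¹ = 1 := L.inj (by rw [map_one]; exact h1.symm)
      exact Prod.ext (Subtype.ext h3.symm) (mul_inv_eq_one.mp h4).symm
    have hc := Nat.card_le_card_of_injective _ hinj
    rwa [Nat.card_prod, Setup.W_card, hG] at hc
  have h10 : Nat.card K = 10 := by omega
  -- all nonidentity elements of `K` are conjugate
  have hinjM : Function.Injective fun m : (M : Subgroup G) =>
      (⟨⟨(m : G) * k * (m : G)⁻¹, hK.conj_mem _ hk _⟩, fun h1 => hk1
        (conj_eq_one_iff.mp (congrArg Subtype.val h1))⟩ : {x : K // x ≠ 1}) := by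
    intro m m' hh
    by_contra hne
    have hh' : (m : G) * k * (m : G)⁻¹ = (m' : G) * k * (m' : G)⁻¹ :=
      congrArg (fun x : {x : K // x ≠ 1} => ((x : K) : G)) hh
    set z : G := ((m' : G))⁻¹ * m with hz
    have hz1 : z ≠ 1 := fun h1 => hne (Subtype.ext (inv_mul_eq_one.mp h1).symm)
    refine hk1 (hKN k hk (L.cent z (mul_mem (inv_mem m'.2) m.2) hz1 ?_))
    rw [Subgroup.mem_centralizer_singleton_iff, hz]
    calc k * ((m' : G)⁻¹ * m) = (m' : G)⁻¹ * ((m' : G) * k * (m' : G)⁻¹) * m := by group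
      _ = (m' : G)⁻¹ * ((m : G) * k * (m : G)⁻¹) * m := by rw [hh']
      _ = _ := by group
  have hsurj := ((Nat.bijective_iff_injective_and_card _).mpr ⟨hinjM, by
    rw [hM9, Nat.card_eq_fintype_card, Fintype.card_subtype_compl, Fintype.card_subtype_eq,
      ← Nat.card_eq_fintype_card, h10]⟩).2
  have hord : ∀ x : K, x ≠ 1 → orderOf x = orderOf k := by
    intro x hx
    obtain ⟨m, hm⟩ := hsurj ⟨x, hx⟩
    have hxv : (m : G) * k * (m : G)⁻¹ = x :=
      congrArg (fun x : {x : K // x ≠ 1} => ((x : K) : G)) hm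
    rw [← Subgroup.orderOf_coe, ← hxv, ← MulAut.conj_apply, MulEquiv.orderOf_eq]
  have : Fact (Nat.Prime 2) := ⟨Nat.prime_two⟩
  have : Fact (Nat.Prime 5) := ⟨Nat.prime_five⟩
  obtain ⟨x, hx⟩ := exists_prime_orderOf_dvd_card' 2 (G := K) (by rw [h10]; norm_num)
  obtain ⟨y, hy⟩ := exists_prime_orderOf_dvd_card' 5 (G := K) (by rw [h10]; norm_num)
  have e1 := hord x (fun h => by rw [h, orderOf_one] at hx; omega)
  have e2 := hord y (fun h => by rw [h, orderOf_one] at hy; omega)
  omega

/-- There is a normal subgroup of index two which is the alternating group. -/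
theorem exists_alt (L : Local e M) (hM9 : Nat.card (M : Subgroup G) = 9)
    (hnn : ¬ (M : Subgroup G).Normal) (hG : Nat.card G = 720) :
    ∃ K : Subgroup G, K.Normal ∧ K.index = 2 ∧ Nonempty (K ≃* SixFacts.A6) ∧
      ∀ V : Subgroup G, V.Normal → V ≤ K → V ≠ ⊥ → V = K := by
  have : Nontrivial G := Finite.one_lt_card_iff_nontrivial.mp (by omega)
  obtain ⟨K, hKn, hK1, hKmin⟩ := Subnormality.UniqueMaximal.exists_minimal_normal (G := G)
  have hMK := le_of_normal L hM9 hG hKn hK1
  have h9 : 9 ∣ Nat.card K := hM9 ▸ Subgroup.card_dvd_of_le hMK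
  have hKd : Nat.card K ∣ 720 := hG ▸ Subgroup.card_subgroup_dvd_card K
  have hne9 : Nat.card K ≠ 9 := fun h => hnn
    ((Subgroup.eq_of_le_of_card_ge hMK (by rw [h, hM9])) ▸ hKn)
  have : Nontrivial K := (Subgroup.nontrivial_iff_ne_bot K).mpr hK1
  obtain ⟨S, n, -, hS, hn, ⟨φ⟩⟩ := CharSimple.exists_mulEquiv_pi_of_charSimple K fun H hH => by
    by_cases hb : H = ⊥
    · exact Or.inl hb
    refine Or.inr ?_
    have hmap : (H.map K.subtype).Normal := ConjAct.normal_of_characteristic_of_normal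
    have := hKmin _ hmap (Subgroup.map_subtype_le H)
      (fun h => hb ((Subgroup.map_eq_bot_iff_of_injective _ K.subtype_injective).mp h))
    rw [eq_top_iff]
    rintro x -
    obtain ⟨y, hy, hyx⟩ := this.symm.le x.2
    exact Subtype.ext hyx ▸ hy
  have := hS
  have hpow : Nat.card K = Nat.card S ^ n := by
    rw [Nat.card_congr φ.toEquiv, Nat.card_pi, Finset.prod_const, Finset.card_univ,
      Fintype.card_fin]
  have h360 : Nat.card K = 360 ∧ n = 1 := by
    rw [hpow] at h9 hKd hne9 ⊢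
    by_cases hp : (Nat.card S).Prime
    · exfalso
      have h3 : Nat.card S = 3 := by
        have := (Nat.prime_three.dvd_of_dvd_pow (dvd_trans (by norm_num) h9) : 3 ∣ Nat.card S)
        exact ((Nat.prime_dvd_prime_iff_eq Nat.prime_three hp).mp this).symm
      rw [h3] at h9 hKd hne9
      have hn2 : n ≤ 2 := by
        by_contra hcon
        have : (27 : ℕ) ∣ 720 := dvd_trans (Nat.pow_dvd_pow 3 (show 3 ≤ n by omega)) hKd
        norm_num at this
      interval_cases n <;> revert h9 hne9 <;> norm_num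
    have hS720 : Nat.card S ∣ 720 := dvd_trans (dvd_pow_self _ (by omega)) hKd
    have hle := Nat.le_of_dvd (by norm_num) hS720
    have hlist := S0496.result (SmallGroups.Sylow.not_comm_of_card hp) (by omega)
    have hn1 : n = 1 := by
      by_contra hcon
      have hsq : Nat.card S ^ 2 ∣ 720 := dvd_trans (Nat.pow_dvd_pow _ (show 2 ≤ n by omega)) hKd
      rcases hlist with h | h | h | h | h | h <;> rw [h] at hsq <;> norm_num at hsq
    subst hn1
    rw [pow_one] at h9 hKd ⊢
    rcases hlist with h | h | h | h | h | h <;> rw [h] at h9 hKd <;>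
      first
        | exact ⟨h, rfl⟩
        | (exfalso; revert h9 hKd; norm_num)
  obtain ⟨h360, rfl⟩ := h360
  have hKsimple : IsSimpleGroup K := by
    have hS1 : Nontrivial S := inferInstance
    exact (φ.trans (MulEquiv.piUnique fun _ : Fin 1 => (S : Type u))).isSimpleGroup
  refine ⟨K, hKn, ?_, S0497.result h360, hKmin⟩
  have := K.card_mul_index
  rw [h360, hG] at this
  omega

theorem card_centralizer_of_order_three (L : Local e M) {a : G} (ha : a ^ 3 = 1) (ha1 : a ≠ 1) :
    Nat.card (Subgroup.centralizer ({a} : Set G)) = 18 := by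
  obtain ⟨g, hg⟩ := exists_conj_mem M ha
  obtain ⟨u, hu⟩ := L.M_le hg
  have hu3 : u * u * u = 1 := (L.mem u).mpr (hu ▸ hg)
  have hne : g * a * g⁻¹ ≠ 1 := fun h => ha1 (conj_eq_one_iff.mp h)
  have key : ∀ u : W, u * u * u = 1 → u ≠ 1 →
      (Finset.univ.filter fun w : W => w * u = u * w).card = 18 := by decide +kernel
  rw [← card_centralizer_map L.inj (u := u) (hu ▸ L.cent _ hg hne)
    (key u hu3 fun h => hne (by rw [← hu, h, map_one])), hu]
  refine Nat.card_congr
    { toFun := fun x => ⟨g * x * g⁻¹, Subgroup.mem_centralizer_singleton_iff.mpr ?_⟩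
      invFun := fun x => ⟨g⁻¹ * x * g, Subgroup.mem_centralizer_singleton_iff.mpr ?_⟩
      left_inv := fun x => Subtype.ext (by simp [mul_assoc])
      right_inv := fun x => Subtype.ext (by simp [mul_assoc]) }
  · have := Subgroup.mem_centralizer_singleton_iff.mp x.2
    calc g * x * g⁻¹ * (g * a * g⁻¹) = g * (x * a) * g⁻¹ := by group
      _ = g * (a * x) * g⁻¹ := by rw [this]
      _ = _ := by group
  · have := Subgroup.mem_centralizer_singleton_iff.mp x.2
    calc g⁻¹ * x * g * a = g⁻¹ * (x * (g * a * g⁻¹)) * g := by group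
      _ = g⁻¹ * ((g * a * g⁻¹) * x) * g := by rw [this]
      _ = _ := by group

/-- The group is the symmetric group of degree six. -/
theorem sym_of_local (L : Local e M) (hM9 : Nat.card (M : Subgroup G) = 9)
    (hnn : ¬ (M : Subgroup G).Normal) : Nonempty (G ≃* Equiv.Perm (Fin 6)) := by
  have hG := order_of_local L hM9 hnn
  obtain ⟨K, hKn, hK2, ⟨f⟩, hKmin⟩ := exists_alt L hM9 hnn hG
  set ι : SixFacts.A6 →* G := K.subtype.comp f.symm.toMonoidHom with hι
  have ιinj : Function.Injective ι := K.subtype_injective.comp f.symm.injective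
  have ιrange : ∀ x ∈ K, ∃ k, ι k = x := fun x hx => ⟨f ⟨x, hx⟩, by simp [hι]⟩
  set a := ι SixFacts.g1 with ha
  have ha1 : a ≠ 1 := fun h => by
    have h' : SixFacts.g1 = 1 := ιinj (by rw [map_one]; exact h)
    exact absurd (congrArg (fun x : SixFacts.A6 => (x : Equiv.Perm (Fin 6)) 0) h') (by decide +kernel)
  have hg13 : SixFacts.g1 ^ 3 = 1 := Subtype.ext (by
    show SixFacts.c1 ^ 3 = 1
    decide +kernel)
  have ha3 : a ^ 3 = 1 := by rw [ha, ← map_pow, hg13, map_one]
  -- an element outside `K` centralising `a`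
  obtain ⟨c, hc, hcK⟩ : ∃ c : G, c * a = a * c ∧ c ∉ K := by
    by_contra hcon
    push Not at hcon
    have h18 := card_centralizer_of_order_three L ha3 ha1
    have : Fact (Nat.Prime 2) := ⟨Nat.prime_two⟩
    obtain ⟨t, ht⟩ := exists_prime_orderOf_dvd_card' 2
      (G := Subgroup.centralizer ({a} : Set G)) (by rw [h18]; norm_num)
    have htc := Subgroup.mem_centralizer_singleton_iff.mp t.2
    obtain ⟨s, hs⟩ := ιrange _ (hcon _ htc)
    have hs2 : s * s = 1 := ιinj (by
      rw [map_mul, hs, map_one, ← pow_two, ← ht, ← Subgroup.orderOf_coe, pow_orderOf_eq_one])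
    have hs1 : s = 1 := SixFacts.no_invol hs2 (ιinj (by rw [map_mul, map_mul, hs, ← ha]; exact htc))
    rw [hs1, map_one] at hs
    rw [← Subgroup.orderOf_coe, ← hs, orderOf_one] at ht
    omega
  -- every conjugate of `a` is a `K`-conjugate
  have hconj : ∀ g : G, ∃ k : SixFacts.A6, g * a * g⁻¹ = ι (k * SixFacts.g1 * k⁻¹) := by
    intro g
    by_cases hg : g ∈ K
    · obtain ⟨k, hk⟩ := ιrange g hg
      exact ⟨k, by rw [map_mul, map_mul, map_inv, hk]⟩
    · have hgc : g * c⁻¹ ∈ K :=
        (Subgroup.mul_mem_iff_of_index_two hK2).mpr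
          (iff_of_false hg fun h => hcK (inv_mem_iff.mp h))
      obtain ⟨k, hk⟩ := ιrange _ hgc
      refine ⟨k, ?_⟩
      rw [map_mul, map_mul, map_inv, hk, ← ha]
      calc g * a * g⁻¹ = g * (c⁻¹ * (c * a)) * g⁻¹ := by group
        _ = g * (c⁻¹ * (a * c)) * g⁻¹ := by rw [hc]
        _ = _ := by group
  let P : Fin 6 → Subgroup G := fun i => (MulAction.stabilizer SixFacts.A6 i).map ι
  have hPinj : Function.Injective P := fun i j h =>
    SixFacts.stab_injective (Subgroup.map_injective ιinj h)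
  have hPcard : ∀ i, Nat.card (P i) = 60 := fun i => by
    rw [Subgroup.card_map_of_injective ιinj, SixFacts.card_stab]
  -- conjugates of the stabiliser
  have hbase : ∀ g : G, ∃ i, (P 5).map (MulAut.conj g).toMonoidHom = P i := by
    intro g
    obtain ⟨σ0, hσ0⟩ : ∃ k : SixFacts.A6, SixFacts.g2 = k * SixFacts.g1 * k⁻¹ :=
      ⟨⟨Equiv.swap 1 3 * Equiv.swap 2 4, by simp [Equiv.Perm.mem_alternatingGroup]⟩,
        Subtype.ext (by
          show SixFacts.c2 = (Equiv.swap 1 3 * Equiv.swap 2 4) * SixFacts.c1 *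
            (Equiv.swap 1 3 * Equiv.swap 2 4)⁻¹
          decide +kernel)⟩
    obtain ⟨k1, hk1⟩ := hconj g
    obtain ⟨k2, hk2⟩ := hconj (g * ι σ0)
    have hk2' : g * ι SixFacts.g2 * g⁻¹ = ι (k2 * SixFacts.g1 * k2⁻¹) := by
      rw [← hk2, hσ0, map_mul, map_mul, map_inv, ha]; group
    set p := k1 * SixFacts.g1 * k1⁻¹ with hp
    set q := k2 * SixFacts.g1 * k2⁻¹ with hq
    have hpq : ι (p * q) = g * ι (SixFacts.g1 * SixFacts.g2) * g⁻¹ := by
      rw [map_mul ι p q, map_mul ι SixFacts.g1 SixFacts.g2, ← hk1, ← hk2', ha]; group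
    have h12 : (SixFacts.g1 * SixFacts.g2) ^ 5 = 1 ∧
        (SixFacts.g1 * SixFacts.g2 : SixFacts.A6) ≠ 1 := by
      refine ⟨Subtype.ext ?_, fun h => ?_⟩
      · show (SixFacts.c1 * SixFacts.c2) ^ 5 = 1
        decide +kernel
      · have h' : SixFacts.c1 * SixFacts.c2 = 1 := congrArg Subtype.val h
        revert h'
        decide +kernel
    have h5 : (p * q) ^ 5 = 1 := ιinj (by
      rw [map_pow, hpq, conj_pow, ← map_pow, h12.1]; simp)
    have hne : p * q ≠ 1 := fun h => h12.2 (ιinj (by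
      rw [h, map_one] at hpq
      rw [map_one]
      exact conj_eq_one_iff.mp hpq.symm))
    obtain ⟨i, hi1, hi2⟩ := SixFacts.pair_common (p := (p : Equiv.Perm (Fin 6)))
      (q := (q : Equiv.Perm (Fin 6))) (σ := (k1 : Equiv.Perm (Fin 6)))
      (τ := (k2 : Equiv.Perm (Fin 6))) rfl rfl (congrArg Subtype.val h5)
      (fun h => hne (Subtype.ext h))
    refine ⟨i, Subgroup.eq_of_le_of_card_ge ?_ (by
      rw [Subgroup.card_map_of_injective (f := (MulAut.conj g).toMonoidHom) (MulAut.conj g).injective, hPcard, hPcard])⟩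
    show ((MulAction.stabilizer SixFacts.A6 (5 : Fin 6)).map ι).map _ ≤ _
    rw [← SixFacts.closure_eq, MonoidHom.map_closure, MonoidHom.map_closure,
      Subgroup.closure_le]
    rintro _ ⟨_, ⟨x, rfl | rfl, rfl⟩, rfl⟩
    · exact ⟨p, hi1, by rw [← hk1, ha]; rfl⟩
    · exact ⟨q, hi2, by rw [← hk2']; rfl⟩
  have hstep : ∀ g : G, ∀ i, ∃ j, (P i).map (MulAut.conj g).toMonoidHom = P j := by
    intro g i
    obtain ⟨k, hk⟩ := SixFacts.exists_move i
    have hPi : (P 5).map (MulAut.conj (ι k)).toMonoidHom = P i := by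
      refine Subgroup.eq_of_le_of_card_ge ?_ (by
        rw [Subgroup.card_map_of_injective (f := (MulAut.conj (ι k)).toMonoidHom) (MulAut.conj (ι k)).injective, hPcard, hPcard])
      rintro _ ⟨_, ⟨x, hx, rfl⟩, rfl⟩
      refine ⟨k * x * k⁻¹, ?_, by simp [map_mul, map_inv]⟩
      show (k * x * k⁻¹ : Equiv.Perm (Fin 6)) i = i
      have hx' : (x : Equiv.Perm (Fin 6)) 5 = 5 := hx
      rw [← hk]
      simp [hx']
    obtain ⟨j, hj⟩ := hbase (g * ι k)
    refine ⟨j, ?_⟩
    rw [← hj, ← hPi, Subgroup.map_map]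
    congr 1
    ext x
    simp [mul_assoc]
  choose π hπ using hstep
  have hπ1 : ∀ i, π 1 i = i := fun i => hPinj (by
    rw [← hπ 1 i]
    ext x
    simp [Subgroup.mem_map])
  have hπmul : ∀ g g' i, π (g * g') i = π g (π g' i) := fun g g' i => hPinj (by
    rw [← hπ, ← hπ, ← hπ,
      show (MulAut.conj (g * g')).toMonoidHom =
        (MulAut.conj g).toMonoidHom.comp (MulAut.conj g').toMonoidHom from
        MonoidHom.ext fun x => by simp [mul_assoc]]
    exact (Subgroup.map_map (P i) _ _).symm)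
  let ψ : G →* Equiv.Perm (Fin 6) :=
    { toFun := fun g =>
        { toFun := π g
          invFun := π g⁻¹
          left_inv := fun i => by rw [← hπmul, inv_mul_cancel, hπ1]
          right_inv := fun i => by rw [← hπmul, mul_inv_cancel, hπ1] }
      map_one' := Equiv.ext fun i => hπ1 i
      map_mul' := fun g g' => Equiv.ext fun i => hπmul g g' i }
  have hψ : Function.Injective ψ := by
    rw [← MonoidHom.ker_eq_bot_iff]
    by_contra hne
    have hMker := le_of_normal L hM9 hG inferInstance hne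
    have hK1 : K ≠ ⊥ := fun h => by rw [h, Subgroup.index_bot, hG] at hK2; omega
    have hMK := le_of_normal L hM9 hG hKn hK1
    have hinf : ψ.ker ⊓ K = K := hKmin _ inferInstance inf_le_right (fun h => by
      have hM1 : (M : Subgroup G) ≤ ⊥ := h ▸ le_inf hMker hMK
      rw [le_bot_iff] at hM1
      rw [hM1, Subgroup.card_bot] at hM9
      omega)
    obtain ⟨k, hk⟩ := SixFacts.exists_move (0 : Fin 6)
    have hk' : ι k ∈ K := by simp [hι]
    have hfix : π (ι k) 5 = 5 := by
      have := (inf_eq_right.mp hinf) hk'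
      exact Equiv.Perm.congr_fun (MonoidHom.mem_ker.mp this) 5
    have hmove : P (π (ι k) 5) = P 0 := by
      rw [← hπ]
      refine Subgroup.eq_of_le_of_card_ge ?_ (by
        rw [Subgroup.card_map_of_injective (f := (MulAut.conj (ι k)).toMonoidHom) (MulAut.conj (ι k)).injective, hPcard, hPcard])
      rintro _ ⟨_, ⟨x, hx, rfl⟩, rfl⟩
      refine ⟨k * x * k⁻¹, ?_, by simp [map_mul, map_inv]⟩
      show (k * x * k⁻¹ : Equiv.Perm (Fin 6)) 0 = 0
      have hx' : (x : Equiv.Perm (Fin 6)) 5 = 5 := hx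
      rw [← hk]
      simp [hx']
    have := hPinj hmove
    rw [hfix] at this
    exact absurd this (by decide)
  refine ⟨MulEquiv.ofBijective ψ ((Nat.bijective_iff_injective_and_card ψ).mpr ⟨hψ, ?_⟩)⟩
  rw [hG, Nat.card_perm, Nat.card_fin]
  rfl

end Cfsg.Agent.Lib.ThreeNine.Six
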