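import Cfsg.Agent.Lib.ThreeNine.Model
import Mathlib.GroupTheory.Sylow
import Mathlib.GroupTheory.NoncommCoprod

/-!
# Identification of the normaliser with the model
-/

set_option autoImplicit false

namespace Cfsg.Agent.Lib.ThreeNine.Setup

open Model

universe u

variable {G : Type u} [Group G]

theorem pow_val_add {a : G} (ha : a ^ 3 = 1) (i j : ZMod 3) :
    a ^ (i + j).val = a ^ i.val * a ^ j.val := by
  rw [← pow_add, ZMod.val_add]
  exact (pow_eq_pow_mod _ ha).symm

/-- The map from the dihedral group given by its relations. -/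
def dihFun (a t : G) : D → G
  | .r i => a ^ i.val
  | .sr i => t * a ^ i.val

theorem dihFun_mul {a t : G} (ha : a ^ 3 = 1) (ht : t * t = 1) (hat : t * a * t = a⁻¹) :
    ∀ x y : D, dihFun a t (x * y) = dihFun a t x * dihFun a t y := by
  have key : ∀ i : ZMod 3, a ^ i.val * t = t * (a ^ i.val)⁻¹ := by
    intro i
    have h1 : a * t = t * a⁻¹ := by
      rw [← hat, ← mul_assoc, ← mul_assoc, ht, one_mul]
    have h2 : ∀ n : ℕ, a ^ n * t = t * (a⁻¹) ^ n := by
      intro n
      induction n with
      | zero => simp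
      | succ n ih => rw [pow_succ', pow_succ, mul_assoc, ih, ← mul_assoc, h1, mul_assoc,
          (Commute.pow_self a⁻¹ n).eq]
    rw [h2, inv_pow]
  have hsub : ∀ i j : ZMod 3, a ^ (j - i).val = (a ^ i.val)⁻¹ * a ^ j.val := by
    intro i j
    rw [eq_inv_mul_iff_mul_eq, ← pow_val_add ha]
    congr 2
    abel
  rintro (i | i) (j | j)
  · exact pow_val_add ha i j
  · show t * a ^ (j - i).val = a ^ i.val * (t * a ^ j.val)
    rw [hsub, ← mul_assoc, ← mul_assoc, key]
  · show t * a ^ (i + j).val = t * a ^ i.val * a ^ j.val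
    rw [pow_val_add ha, mul_assoc]
  · show a ^ (j - i).val = t * a ^ i.val * (t * a ^ j.val)
    rw [hsub, mul_assoc t, ← mul_assoc (a ^ i.val), key, ← mul_assoc, ← mul_assoc, ht, one_mul]

/-- The homomorphism from the dihedral group given by its relations. -/
def dihHom {a t : G} (ha : a ^ 3 = 1) (ht : t * t = 1) (hat : t * a * t = a⁻¹) : D →* G where
  toFun := dihFun a t
  map_one' := by
    show a ^ (0 : ZMod 3).val = 1
    rw [ZMod.val_zero, pow_zero]
  map_mul' := dihFun_mul ha ht hat

/-- The relations among the five generators. -/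
structure Gens (G : Type u) [Group G] where
  a : G
  b : G
  p : G
  q : G
  s : G
  ha : a ^ 3 = 1
  hb : b ^ 3 = 1
  hp : p * p = 1
  hq : q * q = 1
  hs : s * s = 1
  hpa : p * a * p = a⁻¹
  hqb : q * b * q = b⁻¹
  hab : Commute a b
  hpb : Commute p b
  haq : Commute a q
  hpq : Commute p q
  hsa : s * a * s = b
  hsp : s * p * s = q

namespace Gens

variable (g : Gens G)

theorem hsb : g.s * g.b * g.s = g.a := by
  rw [← g.hsa]
  calc g.s * (g.s * g.a * g.s) * g.s = g.s * g.s * g.a * (g.s * g.s) := by group
    _ = g.a := by rw [g.hs, one_mul, mul_one]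

theorem hsq : g.s * g.q * g.s = g.p := by
  rw [← g.hsp]
  calc g.s * (g.s * g.p * g.s) * g.s = g.s * g.s * g.p * (g.s * g.s) := by group
    _ = g.p := by rw [g.hs, one_mul, mul_one]

def left : D →* G := dihHom g.ha g.hp g.hpa

def right : D →* G := dihHom g.hb g.hq g.hqb

theorem commute_lr (x y : D) : Commute (g.left x) (g.right y) := by
  have ca : ∀ y : D, Commute g.a (g.right y) := by
    rintro (j | j)
    · exact g.hab.pow_right _
    · exact g.haq.mul_right (g.hab.pow_right _)
  have cp : ∀ y : D, Commute g.p (g.right y) := by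
    rintro (j | j)
    · exact g.hpb.pow_right _
    · exact g.hpq.mul_right (g.hpb.pow_right _)
  rcases x with i | i
  · exact (ca y).pow_left _
  · exact (cp y).mul_left ((ca y).pow_left _)

def pair : D × D →* G := MonoidHom.noncommCoprod g.left g.right g.commute_lr

def swapMap : Multiplicative (ZMod 2) →* G where
  toFun e := if e = 1 then 1 else g.s
  map_one' := by simp
  map_mul' := by
    intro x y
    have key : ∀ x : Multiplicative (ZMod 2), x = 1 ∨ x = Multiplicative.ofAdd 1 := by decide
    have hn : (Multiplicative.ofAdd 1 : Multiplicative (ZMod 2)) ≠ 1 := by decide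
    have hm : (Multiplicative.ofAdd 1 : Multiplicative (ZMod 2)) * Multiplicative.ofAdd 1 = 1 := by
      decide
    rcases key x with rfl | rfl <;> rcases key y with rfl | rfl <;>
      simp only [one_mul, mul_one, hm, hn, if_true, if_false, g.hs]

theorem s_left (x : D) : g.s * g.left x * g.s = g.right x := by
  have hc : ∀ u v : G, g.s * (u * v) * g.s = (g.s * u * g.s) * (g.s * v * g.s) := fun u v => by
    calc g.s * (u * v) * g.s = g.s * u * 1 * v * g.s := by rw [mul_one]; group
      _ = g.s * u * (g.s * g.s) * v * g.s := by rw [g.hs]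
      _ = _ := by group
  have hpow : ∀ n : ℕ, g.s * g.a ^ n * g.s = g.b ^ n := by
    intro n
    induction n with
    | zero => rw [pow_zero, pow_zero, mul_one, g.hs]
    | succ n ih => rw [pow_succ, pow_succ, hc, ih, g.hsa]
  rcases x with i | i
  · exact hpow _
  · show g.s * (g.p * g.a ^ i.val) * g.s = g.q * g.b ^ i.val
    rw [hc, g.hsp, hpow]

/-- The homomorphism from the model. -/
def hom : W →* G :=
  SemidirectProduct.lift g.pair g.swapMap (by
    intro e
    refine MonoidHom.ext fun xy => ?_
    simp only [MonoidHom.comp_apply, MulEquiv.coe_toMonoidHom, MulAut.conj_apply]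
    have key : ∀ x : Multiplicative (ZMod 2), x = 1 ∨ x = Multiplicative.ofAdd 1 := by decide
    rcases key e with rfl | rfl
    · simp [flipHom, swapMap]
    · have hsi : g.s⁻¹ = g.s := inv_eq_of_mul_eq_one_right g.hs
      show g.pair (xy.2, xy.1) = g.s * g.pair xy * g.s⁻¹
      rw [hsi]
      show g.left xy.2 * g.right xy.1 = g.s * (g.left xy.1 * g.right xy.2) * g.s
      rw [← g.s_left xy.1, ← g.s_left xy.2]
      calc g.left xy.2 * (g.s * g.left xy.1 * g.s)
          = (g.s * g.left xy.1 * g.s) * g.left xy.2 := by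
            rw [g.s_left]; exact (g.commute_lr _ _).eq
        _ = g.s * (g.left xy.1 * (g.s * g.left xy.2 * g.s)) * g.s := by
          calc g.s * g.left xy.1 * g.s * g.left xy.2
              = g.s * g.left xy.1 * g.s * g.left xy.2 * (g.s * g.s) := by rw [g.hs, mul_one]
            _ = _ := by group)

theorem hom_ea : g.hom ea = g.a := by
  show g.left (.r 1) * g.right (.r 0) * g.swapMap 1 = g.a
  rw [map_one, mul_one, show (DihedralGroup.r 0 : D) = 1 from rfl, map_one, mul_one]
  show g.a ^ (1 : ZMod 3).val = g.a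
  rw [show (1 : ZMod 3).val = 1 from rfl, pow_one]

theorem hom_ta : g.hom ta = g.p := by
  show g.left (.sr 0) * g.right (.r 0) * g.swapMap 1 = g.p
  rw [map_one, mul_one, show (DihedralGroup.r 0 : D) = 1 from rfl, map_one, mul_one]
  show g.p * g.a ^ (0 : ZMod 3).val = g.p
  rw [ZMod.val_zero, pow_zero, mul_one]

theorem hom_sw : g.hom sw = g.s := by
  show g.left (.r 0) * g.right (.r 0) * g.swapMap (Multiplicative.ofAdd 1) = g.s
  rw [show (DihedralGroup.r 0 : D) = 1 from rfl, map_one, map_one, one_mul, one_mul]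
  show (if (Multiplicative.ofAdd 1 : Multiplicative (ZMod 2)) = 1 then (1 : G) else g.s) = g.s
  rw [if_neg (by decide)]

theorem hom_tb : g.hom tb = g.q := by
  show g.left (.r 0) * g.right (.sr 0) * g.swapMap 1 = g.q
  rw [map_one, mul_one, show (DihedralGroup.r 0 : D) = 1 from rfl, map_one, one_mul]
  show g.q * g.b ^ (0 : ZMod 3).val = g.q
  rw [ZMod.val_zero, pow_zero, mul_one]

theorem hom_eb : g.hom eb = g.b := by
  show g.left (.r 0) * g.right (.r 1) * g.swapMap 1 = g.b
  rw [map_one, mul_one, show (DihedralGroup.r 0 : D) = 1 from rfl, map_one, one_mul]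
  show g.b ^ (1 : ZMod 3).val = g.b
  rw [show (1 : ZMod 3).val = 1 from rfl, pow_one]

end Gens

theorem W_card : Nat.card W = 72 := by
  rw [Nat.card_eq_fintype_card]
  decide +kernel

section exists_equiv

variable [Finite G]

/-- The normaliser is the model. -/
theorem exists_equiv (M : Sylow 3 G) (hM9 : Nat.card (M : Subgroup G) = 9)
    (hMel : ∀ m ∈ (M : Subgroup G), m ^ 3 = 1)
    (hCM : Subgroup.centralizer ((M : Subgroup G) : Set G) = (M : Subgroup G))
    (hS : ∀ S : Sylow 2 (Subgroup.normalizer ((M : Subgroup G) : Set G)),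
      Nonempty ((S : Subgroup (Subgroup.normalizer ((M : Subgroup G) : Set G))) ≃*
        DihedralGroup 4)) :
    ∃ e : W →* G, Function.Injective e ∧
      e.range = Subgroup.normalizer ((M : Subgroup G) : Set G) ∧
      ∀ w : W, w * w * w = 1 ↔ e w ∈ (M : Subgroup G) := by
  classical
  have h3 : Fact (Nat.Prime 3) := ⟨Nat.prime_three⟩
  have h2 : Fact (Nat.Prime 2) := ⟨Nat.prime_two⟩
  set N := Subgroup.normalizer ((M : Subgroup G) : Set G) with hN
  have hMN : (M : Subgroup G) ≤ N := Subgroup.le_normalizer
  obtain ⟨S⟩ : Nonempty (Sylow 2 N) := inferInstance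
  obtain ⟨ψ⟩ := hS S
  let σ : DihedralGroup 4 →* G :=
    (N.subtype.comp (S : Subgroup N).subtype).comp ψ.symm.toMonoidHom
  have σinj : Function.Injective σ := by
    intro x y h
    exact ψ.symm.injective (Subtype.ext (Subtype.ext h))
  have σN : ∀ x, σ x ∈ N := fun x => ((ψ.symm x : (S : Subgroup N)) : N).2
  have conjM : ∀ g ∈ N, ∀ m ∈ (M : Subgroup G), g * m * g⁻¹ ∈ (M : Subgroup G) :=
    fun g hg m hm => (Subgroup.mem_normalizer_iff.mp hg m).mp hm
  have Mcomm : ∀ x ∈ (M : Subgroup G), ∀ y ∈ (M : Subgroup G), x * y = y * x := by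
    intro x hx y hy
    have : y ∈ Subgroup.centralizer ((M : Subgroup G) : Set G) := by rw [hCM]; exact hy
    exact Subgroup.mem_centralizer_iff.mp this x hx
  have faithful : ∀ x : DihedralGroup 4,
      (∀ m ∈ (M : Subgroup G), σ x * m * (σ x)⁻¹ = m) → x = 1 := by
    intro x hx
    have hmem : σ x ∈ (M : Subgroup G) := by
      rw [← hCM, Subgroup.mem_centralizer_iff]
      intro m hm
      exact (mul_inv_eq_iff_eq_mul.mp (hx m hm)).symm
    apply σinj
    rw [map_one]
    have h4 : ∀ y : DihedralGroup 4, y ^ 4 = 1 := by decide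
    have e3 : (σ x) ^ 3 = 1 := hMel _ hmem
    have e4 : (σ x) ^ 4 = 1 := by rw [← map_pow, h4 x, map_one]
    rw [pow_succ, e3, one_mul] at e4
    exact e4
  have inv2 : ∀ x : DihedralGroup 4, x * x = 1 → (σ x)⁻¹ = σ x := fun x hx =>
    inv_eq_of_mul_eq_one_right (by rw [← map_mul, hx, map_one])
  set p := σ (.sr 0) with hp
  set q := σ (.sr 2) with hq
  set s := σ (.sr 1) with hs
  have hpp : p * p = 1 := by rw [hp, ← map_mul]; exact map_one σ
  have hqq : q * q = 1 := by rw [hq, ← map_mul]; exact map_one σ
  have hss : s * s = 1 := by rw [hs, ← map_mul]; exact map_one σ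
  have hpq : Commute p q := by
    show σ _ * σ _ = σ _ * σ _
    rw [← map_mul, ← map_mul]
    rfl
  have hsp : s * p * s = q := by
    show σ _ * σ _ * σ _ = σ _
    rw [← map_mul, ← map_mul]
    rfl
  -- `p` fixes a nontrivial element of `M`
  have hzinv : ∀ m ∈ (M : Subgroup G), p * q * m * (p * q)⁻¹ = m → m = 1 := by
    intro m hm hfix
    by_contra hm1
    -- the centraliser of the central involution is invariant and must be all of `M`
    set C := (M : Subgroup G) ⊓ Subgroup.centralizer ({p * q} : Set G) with hC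
    have hmC : m ∈ C :=
      ⟨hm, Subgroup.mem_centralizer_singleton_iff.mpr (mul_inv_eq_iff_eq_mul.mp hfix).symm⟩
    have hCdvd : Nat.card C ∣ 9 := hM9 ▸ Subgroup.card_dvd_of_le inf_le_left
    have hzc : ∀ x : DihedralGroup 4, Commute (σ x) (p * q) := by
      intro x
      show σ x * (σ _ * σ _) = σ _ * σ _ * σ x
      simp only [← map_mul]
      congr 1
      revert x
      decide
    have hCinv : ∀ x : DihedralGroup 4, ∀ c ∈ C, σ x * c * (σ x)⁻¹ ∈ C := by
      intro x c hc
      refine ⟨conjM _ (σN x) c hc.1, Subgroup.mem_centralizer_singleton_iff.mpr ?_⟩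
      have h1 : Commute c (p * q) := Subgroup.mem_centralizer_singleton_iff.mp hc.2
      exact (((hzc x).mul_left h1).mul_left (hzc x).inv_left).eq
    have hC3 : Nat.card C ≠ 9 := by
      intro h9
      have heq : C = (M : Subgroup G) := Subgroup.eq_of_le_of_card_ge inf_le_left (by omega)
      have : (DihedralGroup.sr 0 * DihedralGroup.sr 2 : DihedralGroup 4) = 1 := by
        apply faithful
        intro x hx
        rw [map_mul]
        rw [← heq] at hx
        exact mul_inv_eq_iff_eq_mul.mpr (Subgroup.mem_centralizer_singleton_iff.mp hx.2).symm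
      exact absurd this (by decide)
    have hCne : Nat.card C ≠ 1 := by
      intro h1
      have := Subgroup.eq_bot_of_card_eq C h1
      exact hm1 (Subgroup.mem_bot.mp (this ▸ hmC))
    have hC' : Nat.card C = 3 := by
      have h9 : Nat.card C ≤ 9 := Nat.le_of_dvd (by norm_num) hCdvd
      interval_cases h : Nat.card C <;> omega
    -- so the square of the element of order four centralises both invariant pieces
    have hpm : ∀ c ∈ C, ∀ x : DihedralGroup 4, σ x * c * (σ x)⁻¹ = c ∨
        σ x * c * (σ x)⁻¹ = c⁻¹ := by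
      intro c hc x
      by_cases hc1 : c = 1
      · left; rw [hc1]; group
      have hgen : C = Subgroup.zpowers c := by
        refine (Subgroup.eq_of_le_of_card_ge (Subgroup.zpowers_le.mpr hc) ?_).symm
        rw [Nat.card_zpowers, hC', orderOf_eq_prime (hMel c hc.1) hc1]
      have h1 := hCinv x c hc
      rw [hgen] at h1
      obtain ⟨k, hk⟩ := Subgroup.mem_zpowers_iff.mp h1
      have hk2 : c ^ k = c ^ (k % 3) := by
        conv_lhs => rw [← Int.mul_ediv_add_emod k 3]
        rw [zpow_add, zpow_mul, show c ^ (3 : ℤ) = 1 by exact_mod_cast hMel c hc.1, one_zpow,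
          one_mul]
      rcases (show k % 3 = 0 ∨ k % 3 = 1 ∨ k % 3 = 2 by omega) with h | h | h <;> rw [h] at hk2
      · exfalso
        rw [zpow_zero] at hk2
        rw [hk2] at hk
        apply hc1
        have := congrArg (fun y => (σ x)⁻¹ * y * σ x) hk.symm
        simpa [mul_assoc] using this
      · left; rw [← hk, hk2, zpow_one]
      · right
        rw [← hk, hk2]
        exact eq_inv_of_mul_eq_one_left (by
          rw [zpow_two, ← pow_two, ← pow_succ]; exact hMel c hc.1)
    -- the elements inverted by the central involution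
    have key : ∀ y ∈ (M : Subgroup G),
        σ (.r 2) * y * (σ (.r 2))⁻¹ = p * q * y * (p * q)⁻¹ := by
      intro y _
      rw [hp, hq, ← map_mul]
      rfl
    obtain ⟨y, hy, hyC⟩ : ∃ y ∈ (M : Subgroup G), y ∉ C := by
      by_contra hcon
      push Not at hcon
      have := Subgroup.card_le_of_le (show (M : Subgroup G) ≤ C from hcon)
      omega
    set w := y * (p * q * y * (p * q)⁻¹)⁻¹ with hw
    have hz2 : p * q * (p * q) = 1 := by
      calc p * q * (p * q) = p * (q * p) * q := by group
        _ = p * (p * q) * q := by rw [hpq.eq]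
        _ = p * p * (q * q) := by group
        _ = 1 := by rw [hpp, hqq, one_mul]
    have hzi : (p * q)⁻¹ = p * q := inv_eq_of_mul_eq_one_right hz2
    have hyz : p * q * y * (p * q)⁻¹ ∈ (M : Subgroup G) :=
      conjM _ (N.mul_mem (σN _) (σN _)) y hy
    have hwM : w ∈ (M : Subgroup G) := mul_mem hy (inv_mem hyz)
    have hwinv : p * q * w * (p * q)⁻¹ = w⁻¹ := by
      have h1 : p * q * (p * q * y * (p * q)⁻¹) * (p * q)⁻¹ = y := by
        calc _ = (p * q * (p * q)) * y * (p * q * (p * q))⁻¹ := by group
          _ = y := by rw [hz2]; group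
      rw [hw]
      calc p * q * (y * (p * q * y * (p * q)⁻¹)⁻¹) * (p * q)⁻¹
          = (p * q * y * (p * q)⁻¹) * (p * q * (p * q * y * (p * q)⁻¹) * (p * q)⁻¹)⁻¹ := by group
        _ = (y * (p * q * y * (p * q)⁻¹)⁻¹)⁻¹ := by rw [h1]; group
    have hw1 : w ≠ 1 := by
      intro h
      apply hyC
      refine ⟨hy, Subgroup.mem_centralizer_singleton_iff.mpr ?_⟩
      rw [hw, mul_inv_eq_one] at h
      exact (mul_inv_eq_iff_eq_mul.mp h.symm).symm
    have hwpm : ∀ x : DihedralGroup 4, σ x * w * (σ x)⁻¹ = w ∨ σ x * w * (σ x)⁻¹ = w⁻¹ := by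
      intro x
      set v := σ x * w * (σ x)⁻¹ with hv
      have hvM : v ∈ (M : Subgroup G) := conjM _ (σN x) w hwM
      have hvinv : p * q * v * (p * q)⁻¹ = v⁻¹ := by
        have hc := (hzc x).eq
        calc p * q * v * (p * q)⁻¹ = (p * q * σ x) * w * (p * q * σ x)⁻¹ := by rw [hv]; group
          _ = σ x * (p * q * w * (p * q)⁻¹) * (σ x)⁻¹ := by rw [← hc]; group
          _ = v⁻¹ := by rw [hwinv, hv]; group
      set I : Subgroup G :=
        { carrier := {u | u ∈ (M : Subgroup G) ∧ p * q * u * (p * q)⁻¹ = u⁻¹}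
          one_mem' := ⟨one_mem _, by group⟩
          mul_mem' := fun {u u'} hu hu' => ⟨mul_mem hu.1 hu'.1, by
            calc p * q * (u * u') * (p * q)⁻¹
                = (p * q * u * (p * q)⁻¹) * (p * q * u' * (p * q)⁻¹) := by group
              _ = u⁻¹ * u'⁻¹ := by rw [hu.2, hu'.2]
              _ = (u * u')⁻¹ := by rw [← mul_inv_rev, Mcomm _ hu'.1 _ hu.1]⟩
          inv_mem' := fun {u} hu => ⟨inv_mem hu.1, by
            calc p * q * u⁻¹ * (p * q)⁻¹ = (p * q * u * (p * q)⁻¹)⁻¹ := by group
              _ = u⁻¹⁻¹ := by rw [hu.2]⟩ }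
      have hI3 : Nat.card I = 3 := by
        have hId : Nat.card I ∣ 9 := hM9 ▸ Subgroup.card_dvd_of_le fun u hu => hu.1
        have hIC : I ⊓ C = ⊥ := by
          rw [eq_bot_iff]
          rintro u ⟨⟨huM, hu⟩, -, huz⟩
          rw [mul_inv_eq_iff_eq_mul.mpr (Subgroup.mem_centralizer_singleton_iff.mp huz).symm] at hu
          have h3' := hMel u huM
          rw [pow_succ, pow_two] at h3'
          rw [eq_inv_iff_mul_eq_one] at hu
          rw [hu, one_mul] at h3'
          exact h3'
        have hIle : Nat.card I ≤ 9 := Nat.le_of_dvd (by norm_num) hId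
        have hI1 : Nat.card I ≠ 1 := fun h1 => hw1 (Subgroup.mem_bot.mp
          (Subgroup.eq_bot_of_card_eq I h1 ▸ (show w ∈ I from ⟨hwM, hwinv⟩)))
        have hI9 : Nat.card I ≠ 9 := fun h9 => by
          have : I = (M : Subgroup G) :=
            Subgroup.eq_of_le_of_card_ge (fun u hu => hu.1) (by omega)
          apply hCne
          rw [Subgroup.card_eq_one, eq_bot_iff, ← hIC, this]
          exact le_inf inf_le_left le_rfl
        interval_cases h : Nat.card I <;> omega
      have hgen : I = Subgroup.zpowers w := by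
        refine (Subgroup.eq_of_le_of_card_ge (Subgroup.zpowers_le.mpr (show w ∈ I from ⟨hwM, hwinv⟩)) ?_).symm
        rw [Nat.card_zpowers, hI3, orderOf_eq_prime (hMel w hwM) hw1]
      have h1 : v ∈ I := ⟨hvM, hvinv⟩
      rw [hgen] at h1
      obtain ⟨k, hk⟩ := Subgroup.mem_zpowers_iff.mp h1
      have hk2 : w ^ k = w ^ (k % 3) := by
        conv_lhs => rw [← Int.mul_ediv_add_emod k 3]
        rw [zpow_add, zpow_mul, show w ^ (3 : ℤ) = 1 by exact_mod_cast hMel w hwM, one_zpow,
          one_mul]
      rcases (show k % 3 = 0 ∨ k % 3 = 1 ∨ k % 3 = 2 by omega) with h | h | h <;> rw [h] at hk2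
      · exfalso
        rw [zpow_zero] at hk2
        rw [hk2] at hk
        apply hw1
        have := congrArg (fun y => (σ x)⁻¹ * y * σ x) hk.symm
        simpa [hv, mul_assoc] using this
      · left; rw [← hk, hk2, zpow_one]
      · right
        rw [← hk, hk2]
        exact eq_inv_of_mul_eq_one_left (by
          rw [zpow_two, ← pow_two, ← pow_succ]; exact hMel w hwM)
    have hsq : σ (.r 2) * w * (σ (.r 2))⁻¹ = w := by
      have e2 : (DihedralGroup.r 2 : DihedralGroup 4) = .r 1 * .r 1 := rfl
      rw [e2, map_mul]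
      have : σ (.r 1) * σ (.r 1) * w * (σ (.r 1) * σ (.r 1))⁻¹ =
          σ (.r 1) * (σ (.r 1) * w * (σ (.r 1))⁻¹) * (σ (.r 1))⁻¹ := by group
      rw [this]
      rcases hwpm (.r 1) with h | h
      · rw [h, h]
      · rw [h, show σ (.r 1) * w⁻¹ * (σ (.r 1))⁻¹ = (σ (.r 1) * w * (σ (.r 1))⁻¹)⁻¹ by group,
          h, inv_inv]
    rw [key w hwM, hwinv] at hsq
    have h3' := hMel w hwM
    rw [pow_succ, pow_two] at h3'
    rw [inv_eq_iff_mul_eq_one] at hsq
    rw [hsq, one_mul] at h3'
    exact hw1 h3'
  -- `p` fixes some nontrivial element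
  obtain ⟨b, hbM, hb1, hbp⟩ : ∃ b ∈ (M : Subgroup G), b ≠ 1 ∧ p * b * p⁻¹ = b := by
    by_contra hcon
    push Not at hcon
    -- otherwise `p` inverts `M`, as does `p * q`
    have hinvp : ∀ m ∈ (M : Subgroup G), p * m * p⁻¹ = m⁻¹ := by
      intro m hm
      set v := p * m * p⁻¹ with hv
      have hvM : v ∈ (M : Subgroup G) := conjM _ (σN _) m hm
      have hfix : p * (m * v) * p⁻¹ = m * v := by
        have h1 : p * v * p⁻¹ = m := by
          rw [hv]
          calc p * (p * m * p⁻¹) * p⁻¹ = (p * p) * m * (p * p)⁻¹ := by group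
            _ = m := by rw [hpp]; group
        calc p * (m * v) * p⁻¹ = (p * m * p⁻¹) * (p * v * p⁻¹) := by group
          _ = v * m := by rw [h1]
          _ = m * v := Mcomm _ hvM _ hm
      exact eq_inv_of_mul_eq_one_right (by
        by_contra h
        exact hcon _ (mul_mem hm hvM) h hfix)
    have hzz : ∀ m ∈ (M : Subgroup G), p * q * m * (p * q)⁻¹ = m⁻¹ := by
      intro m hm
      set v := p * q * m * (p * q)⁻¹ with hv
      have hvM : v ∈ (M : Subgroup G) := conjM _ (N.mul_mem (σN _) (σN _)) m hm
      have hz2 : p * q * (p * q) = 1 := by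
        calc p * q * (p * q) = p * (q * p) * q := by group
          _ = p * (p * q) * q := by rw [hpq.eq]
          _ = p * p * (q * q) := by group
          _ = 1 := by rw [hpp, hqq, one_mul]
      have h1 : p * q * v * (p * q)⁻¹ = m := by
        rw [hv]
        calc _ = (p * q * (p * q)) * m * (p * q * (p * q))⁻¹ := by group
          _ = m := by rw [hz2]; group
      refine eq_inv_of_mul_eq_one_right (hzinv _ (mul_mem hm hvM) ?_)
      calc p * q * (m * v) * (p * q)⁻¹ = (p * q * m * (p * q)⁻¹) * (p * q * v * (p * q)⁻¹) := by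
            group
        _ = v * m := by rw [h1]
        _ = m * v := Mcomm _ hvM _ hm
    have : (DihedralGroup.sr 2 : DihedralGroup 4) = 1 := by
      apply faithful
      intro m hm
      calc σ (.sr 2) * m * (σ (.sr 2))⁻¹ = q * m * q⁻¹ := rfl
        _ = p⁻¹ * (p * q * m * (p * q)⁻¹) * p := by group
        _ = p⁻¹ * m⁻¹ * p := by rw [hzz m hm]
        _ = p⁻¹ * (p * m * p⁻¹) * p := by rw [hinvp m hm]
        _ = m := by group
    exact absurd this (by decide)
  have hsi : s⁻¹ = s := inv_eq_of_mul_eq_one_right hss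
  have hpi : p⁻¹ = p := inv_eq_of_mul_eq_one_right hpp
  have hqi : q⁻¹ = q := inv_eq_of_mul_eq_one_right hqq
  -- `q` inverts `b`
  have hqb : q * b * q = b⁻¹ := by
    set v := q * b * q with hv
    have hvM : v ∈ (M : Subgroup G) := by
      have := conjM q (σN _) b hbM
      rwa [hqi] at this
    refine eq_inv_of_mul_eq_one_right (hzinv _ (mul_mem hbM hvM) ?_)
    have hqv : q * v * q = b := by
      rw [hv]
      calc q * (q * b * q) * q = (q * q) * b * (q * q) := by group
        _ = b := by rw [hqq, one_mul, mul_one]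
    have hpb' : p * b = b * p := mul_inv_eq_iff_eq_mul.mp hbp
    rw [mul_inv_rev, hpi, hqi]
    calc p * q * (b * v) * (q * p) = p * (q * b * q * (q * v * q)) * p := by
          calc p * q * (b * v) * (q * p) = p * q * b * 1 * v * q * p := by rw [mul_one]; group
            _ = p * q * b * (q * q) * v * q * p := by rw [hqq]
            _ = _ := by group
      _ = p * (v * b) * p := by rw [hqv, hv]
      _ = p * (b * v) * p := by rw [Mcomm _ hvM _ hbM]
      _ = b * (p * v * p) := by
          calc p * (b * v) * p = (p * b) * v * p := by group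
            _ = _ := by rw [hpb']; group
      _ = b * v := by
          congr 1
          rw [hv]
          calc p * (q * b * q) * p = (p * q) * b * (q * p) := by group
            _ = q * (p * b) * (p * q) := by rw [hpq.eq]; group
            _ = q * b * (p * p) * q := by rw [hpb']; group
            _ = q * b * q := by rw [hpp, mul_one]
  have haM : s * b * s ∈ (M : Subgroup G) := by
    have := conjM s (σN _) b hbM
    rwa [hsi] at this
  have hqs : s * q * s = p := by
    rw [← hsp]
    calc s * (s * p * s) * s = (s * s) * p * (s * s) := by group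
      _ = p := by rw [hss, one_mul, mul_one]
  have hsc : ∀ u v : G, s * (u * v) * s = (s * u * s) * (s * v * s) := fun u v => by
    calc s * (u * v) * s = s * u * 1 * v * s := by rw [mul_one]; group
      _ = s * u * (s * s) * v * s := by rw [hss]
      _ = _ := by group
  let gens : Gens G :=
    { a := s * b * s
      b := b
      p := p
      q := q
      s := s
      ha := hMel _ haM
      hb := hMel _ hbM
      hp := hpp
      hq := hqq
      hs := hss
      hpa := by
        rw [← hqs, ← hsc, ← hsc, hqb]
        nth_rewrite 1 [← hsi]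
        nth_rewrite 3 [← hsi]
        group
      hqb := hqb
      hab := Mcomm _ haM _ hbM
      hpb := mul_inv_eq_iff_eq_mul.mp hbp
      haq := by
        show s * b * s * q = q * (s * b * s)
        rw [← hsp, ← hsc, ← hsc, mul_inv_eq_iff_eq_mul.mp hbp]
      hpq := hpq
      hsa := by
        calc s * (s * b * s) * s = (s * s) * b * (s * s) := by group
          _ = b := by rw [hss, one_mul, mul_one]
      hsp := hsp }
  refine ⟨gens.hom, ?_⟩
  have hgen : ∀ x : DihedralGroup 4, ∃ w : W, gens.hom w = σ x := by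
    intro x
    have hr : gens.hom (ta * sw) = σ (.r 1) := by
      rw [map_mul, gens.hom_ta, gens.hom_sw]
      show σ _ * σ _ = σ _
      rw [← map_mul]
      rfl
    rcases x with i | i
    · refine ⟨(ta * sw) ^ i.val, ?_⟩
      rw [map_pow, hr, ← map_pow, DihedralGroup.r_one_pow, ZMod.natCast_zmod_val]
    · refine ⟨ta * (ta * sw) ^ i.val, ?_⟩
      rw [map_mul, map_pow, hr, gens.hom_ta]
      show σ _ * _ = _
      rw [← map_pow, ← map_mul, DihedralGroup.r_one_pow, ZMod.natCast_zmod_val,
        DihedralGroup.sr_mul_r, zero_add]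
  have hb3 : orderOf b = 3 := orderOf_eq_prime (hMel b hbM) hb1
  have hMr : (M : Subgroup G) ≤ gens.hom.range := by
    set L := gens.hom.range ⊓ (M : Subgroup G) with hL
    have hbL : b ∈ L := ⟨⟨eb, gens.hom_eb⟩, hbM⟩
    have haL : s * b * s ∈ L := ⟨⟨ea, gens.hom_ea⟩, haM⟩
    have hd : Nat.card L ∣ 9 := hM9 ▸ Subgroup.card_dvd_of_le inf_le_right
    have h9 : Nat.card L = 9 := by
      by_contra hne
      have hle : Nat.card L ≤ 3 := by
        have := Nat.le_of_dvd (by norm_num) hd
        interval_cases h : Nat.card L <;> omega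
      have hgenb : L = Subgroup.zpowers b := by
        refine (Subgroup.eq_of_le_of_card_ge (Subgroup.zpowers_le.mpr hbL) ?_).symm
        rw [Nat.card_zpowers, hb3]; exact hle
      rw [hgenb] at haL
      obtain ⟨k, hk⟩ := Subgroup.mem_zpowers_iff.mp haL
      have hc : Commute p (s * b * s) :=
        hk ▸ (show Commute p b from mul_inv_eq_iff_eq_mul.mp hbp).zpow_right k
      have := gens.hpa
      change p * (s * b * s) * p = (s * b * s)⁻¹ at this
      rw [hc.eq, mul_assoc, hpp, mul_one, eq_inv_iff_mul_eq_one] at this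
      have h3' := hMel _ haM
      rw [pow_succ, pow_two, this, one_mul] at h3'
      apply hb1
      calc b = s * (s * b * s) * s := gens.hsa.symm
        _ = 1 := by rw [h3', mul_one, hss]
    have := Subgroup.eq_of_le_of_card_ge (inf_le_right : L ≤ (M : Subgroup G))
      (by rw [h9, hM9])
    exact this ▸ inf_le_left
  -- the order of the normaliser
  have hrangeN : gens.hom.range ≤ N := by
    rintro _ ⟨w, rfl⟩
    have hl : ∀ x : D, gens.left x ∈ N := by
      rintro (i | i)
      · exact pow_mem (hMN haM) _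
      · exact mul_mem (σN _) (pow_mem (hMN haM) _)
    have hr : ∀ x : D, gens.right x ∈ N := by
      rintro (i | i)
      · exact pow_mem (hMN hbM) _
      · exact mul_mem (σN _) (pow_mem (hMN hbM) _)
    refine mul_mem (mul_mem (hl _) (hr _)) ?_
    show (if _ = _ then (1 : G) else gens.s) ∈ N
    split
    · exact one_mem _
    · exact σN _
  have hNcard : Nat.card N = 72 := by
    set K := (M : Subgroup G).subgroupOf N with hK
    have hKc : Nat.card K = 9 := by
      rw [Nat.card_congr (Subgroup.subgroupOfEquivOfLe hMN).toEquiv, hM9]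
    have hSc : Nat.card (S : Subgroup N) = 8 := by
      rw [Nat.card_congr ψ.toEquiv, Nat.card_eq_fintype_card]; rfl
    have hfac : ∀ r : ℕ, r.Prime → r ∣ Nat.card N → r = 2 ∨ r = 3 := by
      intro r hr hdvd
      by_contra hne
      push Not at hne
      haveI : Fact r.Prime := ⟨hr⟩
      obtain ⟨u, hu⟩ := exists_prime_orderOf_dvd_card' r hdvd
      letI act : MulAction (Subgroup.zpowers u) (M : Subgroup G) :=
        { smul := fun x m => ⟨(x : N) * (m : G) * ((x : N) : G)⁻¹, conjM _ (x : N).2 m m.2⟩
          one_smul := fun m => Subtype.ext (by show (1 : G) * m * (1 : G)⁻¹ = m; group)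
          mul_smul := fun x y m => Subtype.ext (by
            show ((x : N) * (y : N) : G) * m * ((x : N) * (y : N) : G)⁻¹ = _
            show _ = (x : N) * ((y : N) * (m : G) * ((y : N) : G)⁻¹) * ((x : N) : G)⁻¹
            group) }
      have hpg : IsPGroup r (Subgroup.zpowers u) :=
        IsPGroup.of_card (n := 1) (by rw [Nat.card_zpowers, hu, pow_one])
      have hmod := hpg.card_modEq_card_fixedPoints (M : Subgroup G)
      let F : Subgroup G :=
        (M : Subgroup G) ⊓ Subgroup.centralizer ({(u : G)} : Set G)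
      have hFeq : Nat.card (MulAction.fixedPoints (Subgroup.zpowers u) (M : Subgroup G)) =
          Nat.card F := by
        refine Nat.card_congr
          { toFun := fun m => ⟨(m.1 : G), m.1.2, ?_⟩
            invFun := fun m => ⟨⟨m.1, m.2.1⟩, ?_⟩
            left_inv := fun _ => rfl
            right_inv := fun _ => rfl }
        · have := congrArg Subtype.val (m.2 ⟨u, Subgroup.mem_zpowers u⟩)
          change (u : G) * m.1 * (u : G)⁻¹ = m.1 at this
          exact Subgroup.mem_centralizer_singleton_iff.mpr (mul_inv_eq_iff_eq_mul.mp this).symm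
        · rintro ⟨x, hx⟩
          obtain ⟨k, rfl⟩ := Subgroup.mem_zpowers_iff.mp hx
          apply Subtype.ext
          show ((u ^ k : N) : G) * m.1 * ((u ^ k : N) : G)⁻¹ = m.1
          have hc : Commute (m.1 : G) (u : G) := Subgroup.mem_centralizer_singleton_iff.mp m.2.2
          rw [Subgroup.coe_zpow, ← (hc.zpow_right k).eq, mul_inv_cancel_right]
      rw [hFeq, hM9] at hmod
      have hFd : Nat.card F ∣ 9 := hM9 ▸ Subgroup.card_dvd_of_le inf_le_left
      have hF9 : Nat.card F ≠ 9 := by
        intro h9
        have hFM : F = (M : Subgroup G) := Subgroup.eq_of_le_of_card_ge inf_le_left (by omega)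
        have huM : (u : G) ∈ (M : Subgroup G) := by
          rw [← hCM, Subgroup.mem_centralizer_iff]
          intro m hm
          rw [← hFM] at hm
          exact Subgroup.mem_centralizer_singleton_iff.mp hm.2
        have h3' : orderOf u ∣ 3 := by
          rw [← Subgroup.orderOf_coe]
          exact orderOf_dvd_of_pow_eq_one (hMel _ huM)
        rw [hu] at h3'
        exact hne.2 ((Nat.prime_dvd_prime_iff_eq hr Nat.prime_three).mp h3')
      have hFle := Nat.le_of_dvd (by norm_num) hFd
      have h8 : r ∣ 9 - Nat.card F := (Nat.modEq_iff_dvd' hFle).mp hmod.symm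
      interval_cases h : Nat.card F <;> try omega
      · exact hne.1 ((Nat.prime_dvd_prime_iff_eq hr Nat.prime_two).mp
          (hr.dvd_of_dvd_pow (show r ∣ 2 ^ 3 by simpa using h8)))
      · rcases (Nat.Prime.dvd_mul hr).mp (show r ∣ 2 * 3 by simpa using h8) with h' | h'
        · exact hne.1 ((Nat.prime_dvd_prime_iff_eq hr Nat.prime_two).mp h')
        · exact hne.2 ((Nat.prime_dvd_prime_iff_eq hr Nat.prime_three).mp h')
    have h3N : ∀ k : ℕ, 3 ^ k ∣ Nat.card N → k ≤ 2 := by
      intro k hk
      have h1 := hk.trans (Subgroup.card_subgroup_dvd_card N)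
      have h2 := M.card_eq_multiplicity
      rw [hM9] at h2
      have h3' : (Nat.card G).factorization 3 = 2 :=
        Nat.pow_right_injective (le_refl 2 |>.trans (by norm_num)) (h2.symm.trans (by norm_num))
      rw [← h3']
      exact (Nat.prime_three.pow_dvd_iff_le_factorization Nat.card_pos.ne').mp h1
    have h2N : (Nat.card N).factorization 2 = 3 := by
      have h2 := S.card_eq_multiplicity
      rw [hSc] at h2
      exact Nat.pow_right_injective (le_refl 2) (h2.symm.trans (by norm_num))
    have h3N' : (Nat.card N).factorization 3 = 2 := by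
      refine le_antisymm (h3N _ (Nat.ordProj_dvd _ _)) ?_
      refine (Nat.prime_three.pow_dvd_iff_le_factorization Nat.card_pos.ne').mp ?_
      exact (show 3 ^ 2 = Nat.card K by rw [hKc]; norm_num) ▸ Subgroup.card_subgroup_dvd_card K
    refine Nat.eq_of_factorization_eq Nat.card_pos.ne' (by norm_num) fun r => ?_
    have h72 : (72 : ℕ) = 2 ^ 3 * 3 ^ 2 := by norm_num
    rw [h72, Nat.factorization_mul (by norm_num) (by norm_num), Finsupp.add_apply,
      Nat.prime_two.factorization_pow, Nat.prime_three.factorization_pow]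
    by_cases r2 : r = 2
    · subst r2; rw [h2N]; simp
    by_cases r3 : r = 3
    · subst r3; rw [h3N']; simp
    rw [Finsupp.single_eq_of_ne r2, Finsupp.single_eq_of_ne r3, add_zero]
    by_cases hr : r.Prime
    · exact Nat.factorization_eq_zero_of_not_dvd fun h => by
        rcases hfac r hr h with h' | h'
        · exact r2 h'
        · exact r3 h'
    · exact Nat.factorization_eq_zero_of_not_prime _ hr
  have hrange : gens.hom.range = N := by
    refine Subgroup.eq_of_le_of_card_ge hrangeN ?_
    set R := gens.hom.range with hR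
    have h9 : 9 ∣ Nat.card R := hM9 ▸ Subgroup.card_dvd_of_le hMr
    have h8 : 8 ∣ Nat.card R := by
      have hσr : σ.range ≤ R := by
        rintro _ ⟨x, rfl⟩
        exact hgen x
      have : Nat.card σ.range = 8 := by
        rw [← Nat.card_congr (MonoidHom.ofInjective σinj).toEquiv, Nat.card_eq_fintype_card]; rfl
      exact this ▸ Subgroup.card_dvd_of_le hσr
    rw [hNcard]
    exact Nat.le_of_dvd Nat.card_pos
      ((show Nat.Coprime 9 8 by norm_num).mul_dvd_of_dvd_of_dvd h9 h8)
  have hinj : Function.Injective gens.hom := by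
    have h1 : Nat.card gens.hom.range = Nat.card W := by rw [hrange, hNcard, W_card]
    have h2 : Function.Bijective gens.hom.rangeRestrict :=
      (Nat.bijective_iff_surjective_and_card _).mpr ⟨gens.hom.rangeRestrict_surjective, h1.symm⟩
    intro x y h
    exact h2.1 (Subtype.ext h)
  refine ⟨hinj, hrange, fun w => ⟨fun h => ?_, fun h => ?_⟩⟩
  · have key : ∀ w : W, w * w * w = 1 → ∃ i j : Fin 3, w = ea ^ (i : ℕ) * eb ^ (j : ℕ) := by
      decide +kernel
    obtain ⟨i, j, rfl⟩ := key w h
    rw [map_mul, map_pow, map_pow, gens.hom_ea, gens.hom_eb]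
    exact mul_mem (pow_mem haM _) (pow_mem hbM _)
  · apply hinj
    rw [map_mul, map_mul, map_one]
    have := hMel _ h
    rwa [pow_succ, pow_two] at this

end exists_equiv

end Cfsg.Agent.Lib.ThreeNine.Setup
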