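import Mathlib.Algebra.BigOperators.Ring.Finset
import Mathlib.Algebra.Order.BigOperators.Group.Finset
import Mathlib.Data.Rat.Cast.Order
import Mathlib.Algebra.Field.Rat
import Mathlib.Data.Fin.VecNotation
import Mathlib.Tactic.FinCases
import Mathlib.Tactic.Linarith
import Mathlib.Tactic.Ring
import Mathlib.Tactic.FieldSimp
import Mathlib.Tactic.Positivity
import Mathlib.Tactic.IntervalCases
import Mathlib.Tactic.LinearCombination

/-!
# The arithmetic of the four generalized characters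
-/

set_option autoImplicit false

namespace Cfsg.Agent.Lib.ThreeNine.Arith

universe u

/-- The abstract data. -/
structure Data (ι : Type u) [Fintype ι] where
  o : ι
  deg : ι → ℤ
  co : Fin 4 → ι → ℤ
  g : ℤ
  deg_pos : ∀ χ, 0 < deg χ
  deg_o : deg o = 1
  lin : ∀ χ, χ ≠ o → deg χ = 1 →
    (co 0 χ = 1 ∧ co 1 χ = 0 ∧ co 2 χ = 0 ∧ co 3 χ = 0) ∨
    (co 0 χ = 0 ∧ co 1 χ = 1 ∧ co 2 χ = 0 ∧ co 3 χ = 0) ∨
    (co 0 χ = 0 ∧ co 1 χ = 0 ∧ co 2 χ = -1 ∧ co 3 χ = -1)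
  co_o : ∀ i, co i o = 1
  norm : ∀ i, ∑ χ, co i χ * co i χ = 4
  i01 : ∑ χ, co 0 χ * co 1 χ = 2
  i02 : ∑ χ, co 0 χ * co 2 χ = 2
  i13 : ∑ χ, co 1 χ * co 3 χ = 2
  i23 : ∑ χ, co 2 χ * co 3 χ = 2
  i03 : ∑ χ, co 0 χ * co 3 χ = 1
  i12 : ∑ χ, co 1 χ * co 2 χ = 1
  deg0 : ∀ i, ∑ χ, co i χ * deg χ = 0
  sign : ∀ (i : Fin 4) (a b c : ι), a ≠ b → a ≠ c → b ≠ c → a ≠ o → b ≠ o → c ≠ o →
    co i a ≠ 0 → co i b ≠ 0 → co i c ≠ 0 →
    (![1, 1, -1, -1] : Fin 4 → ℤ) i *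
      (co i a * deg a * (co i b * deg b) * (co i c * deg c)) < 0
  gdiv : ∃ n : ℤ, g = 72 * n ∧ 10 ≤ n
  degsq : ∑ χ, deg χ * deg χ ≤ g
  eqA : ∑ χ, ((co 0 χ + co 1 χ + co 2 χ - 2 * co 3 χ : ℤ) : ℚ) ^ 2 *
    ((co 0 χ + co 1 χ - 2 * co 2 χ + co 3 χ : ℤ) : ℚ) / (deg χ : ℚ) = 648 / (g : ℚ)
  eqB : ∑ χ, ((co 0 χ + co 1 χ + co 2 χ - 2 * co 3 χ : ℤ) : ℚ) *
    ((co 0 χ + co 1 χ - 2 * co 2 χ + co 3 χ : ℤ) : ℚ) ^ 2 / (deg χ : ℚ) = 648 / (g : ℚ)
  cong : ∀ χ, (9 : ℤ) ∣ deg χ + 4 * (co 0 χ + co 1 χ + co 2 χ - 2 * co 3 χ) +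
    4 * (co 0 χ + co 1 χ - 2 * co 2 χ + co 3 χ)

variable {ι : Type u} [Fintype ι] [DecidableEq ι]

/-- The symmetric data. -/
def Data.swap (D : Data ι) : Data ι where
  o := D.o
  deg := D.deg
  co := fun i => D.co (![1, 0, 3, 2] i)
  g := D.g
  deg_pos := D.deg_pos
  deg_o := D.deg_o
  lin := fun χ h1 h2 => by
    simp only [Matrix.cons_val_zero, Matrix.cons_val_one, Matrix.cons_val]
    rcases D.lin χ h1 h2 with h | h | h
    · exact Or.inr (Or.inl ⟨h.2.1, h.1, h.2.2.2, h.2.2.1⟩)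
    · exact Or.inl ⟨h.2.1, h.1, h.2.2.2, h.2.2.1⟩
    · exact Or.inr (Or.inr ⟨h.2.1, h.1, h.2.2.2, h.2.2.1⟩)
  co_o := fun i => D.co_o _
  norm := fun i => D.norm _
  i01 := by simpa [mul_comm] using D.i01
  i02 := by simpa using D.i13
  i13 := by simpa using D.i02
  i23 := by simpa [mul_comm] using D.i23
  i03 := by simpa using D.i12
  i12 := by simpa using D.i03
  deg0 := fun i => D.deg0 _
  sign := fun i a b c h1 h2 h3 h4 h5 h6 h7 h8 h9 => by
    have := D.sign (![1, 0, 3, 2] i) a b c h1 h2 h3 h4 h5 h6 h7 h8 h9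
    fin_cases i <;> simpa using this
  gdiv := D.gdiv
  degsq := D.degsq
  eqA := by
    refine (Finset.sum_congr rfl fun χ _ => ?_).trans D.eqB
    simp only [Matrix.cons_val_zero, Matrix.cons_val_one, Matrix.cons_val]
    push_cast
    ring
  eqB := by
    refine (Finset.sum_congr rfl fun χ _ => ?_).trans D.eqA
    simp only [Matrix.cons_val_zero, Matrix.cons_val_one, Matrix.cons_val]
    push_cast
    ring
  cong := fun χ => by
    have := D.cong χ
    simp only [Matrix.cons_val_zero, Matrix.cons_val_one, Matrix.cons_val]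
    convert this using 1
    ring

variable (D : Data ι)

/-- The support of one of the four functions. -/
structure Tri (i : Fin 4) (a b c : ι) : Prop where
  ab : a ≠ b
  ac : a ≠ c
  bc : b ≠ c
  ao : a ≠ D.o
  bo : b ≠ D.o
  co' : c ≠ D.o
  sa : D.co i a = 1 ∨ D.co i a = -1
  sb : D.co i b = 1 ∨ D.co i b = -1
  sc : D.co i c = 1 ∨ D.co i c = -1
  zero : ∀ χ, χ ≠ D.o → χ ≠ a → χ ≠ b → χ ≠ c → D.co i χ = 0

variable {D}

theorem Tri.ne_zero {i : Fin 4} {a b c : ι} (T : Tri D i a b c) :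
    D.co i a ≠ 0 ∧ D.co i b ≠ 0 ∧ D.co i c ≠ 0 :=
  ⟨by rcases T.sa with h | h <;> omega, by rcases T.sb with h | h <;> omega,
    by rcases T.sc with h | h <;> omega⟩

theorem Tri.rotate {i : Fin 4} {a b c : ι} (T : Tri D i a b c) : Tri D i b c a :=
  ⟨T.bc, T.ab.symm, T.ac.symm, T.bo, T.co', T.ao, T.sb, T.sc, T.sa,
    fun χ h1 h2 h3 h4 => T.zero χ h1 h4 h2 h3⟩

theorem Tri.swap23 {i : Fin 4} {a b c : ι} (T : Tri D i a b c) : Tri D i a c b :=
  ⟨T.ac, T.ab, T.bc.symm, T.ao, T.co', T.bo, T.sa, T.sc, T.sb,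
    fun χ h1 h2 h3 h4 => T.zero χ h1 h2 h4 h3⟩

theorem Tri.sum {i : Fin 4} {a b c : ι} (T : Tri D i a b c) (f : ι → ℤ) :
    ∑ χ, D.co i χ * f χ = f D.o + D.co i a * f a + D.co i b * f b + D.co i c * f c := by
  rw [← Finset.sum_subset (Finset.subset_univ ({D.o, a, b, c} : Finset ι)) fun χ _ hχ => ?_]
  · rw [Finset.sum_insert (by simp [T.ao.symm, T.bo.symm, T.co'.symm]),
      Finset.sum_insert (by simp [T.ab, T.ac]), Finset.sum_insert (by simp [T.bc]),
      Finset.sum_singleton, D.co_o]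
    ring
  · simp only [Finset.mem_insert, Finset.mem_singleton, not_or] at hχ
    rw [T.zero χ hχ.1 hχ.2.1 hχ.2.2.1 hχ.2.2.2, zero_mul]

theorem exists_tri (D : Data ι) (i : Fin 4) : ∃ a b c, Tri D i a b c := by
  set S := Finset.univ.filter fun χ => χ ≠ D.o ∧ D.co i χ ≠ 0 with hS
  have hsum : ∑ χ ∈ S, D.co i χ * D.co i χ = 3 := by
    have h := D.norm i
    rw [← Finset.sum_erase_add _ _ (Finset.mem_univ D.o), D.co_o] at h
    have h2 : ∑ χ ∈ S, D.co i χ * D.co i χ =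
        ∑ χ ∈ Finset.univ.erase D.o, D.co i χ * D.co i χ := by
      refine Finset.sum_subset (fun χ hχ => ?_) fun χ hχ hn => ?_
      · simp only [hS, Finset.mem_filter] at hχ
        simp [hχ.2.1]
      · simp only [Finset.mem_erase] at hχ
        simp only [hS, Finset.mem_filter, Finset.mem_univ, true_and, not_and, not_not] at hn
        rw [hn hχ.1, mul_zero]
    omega
  have hone : ∀ χ ∈ S, D.co i χ = 1 ∨ D.co i χ = -1 := by
    intro χ hχ
    have h1 := Finset.single_le_sum (f := fun x => D.co i x * D.co i x)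
      (fun x _ => mul_self_nonneg _) hχ
    simp only [hsum] at h1
    simp only [hS, Finset.mem_filter] at hχ
    have h2 : D.co i χ ≤ 1 ∧ -1 ≤ D.co i χ := ⟨by nlinarith, by nlinarith⟩
    omega
  have hcard : S.card = 3 := by
    have h1 : ∑ χ ∈ S, D.co i χ * D.co i χ = ∑ χ ∈ S, (1 : ℤ) :=
      Finset.sum_congr rfl fun χ hχ => by rcases hone χ hχ with h | h <;> rw [h] <;> norm_num
    rw [hsum, Finset.sum_const] at h1
    simp only [nsmul_eq_mul, mul_one] at h1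
    exact_mod_cast h1.symm
  obtain ⟨a, b, c, hab, hac, hbc, hSe⟩ := Finset.card_eq_three.mp hcard
  have hmem : ∀ χ, χ = a ∨ χ = b ∨ χ = c → χ ∈ S := fun χ hχ => by rw [hSe]; simp [hχ]
  have hne : ∀ χ ∈ S, χ ≠ D.o := fun χ hχ => (Finset.mem_filter.mp hχ).2.1
  refine ⟨a, b, c, hab, hac, hbc, hne a (hmem a (by simp)), hne b (hmem b (by simp)),
    hne c (hmem c (by simp)), hone a (hmem a (by simp)), hone b (hmem b (by simp)),
    hone c (hmem c (by simp)), fun χ h1 h2 h3 h4 => ?_⟩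
  by_contra h
  have : χ ∈ S := Finset.mem_filter.mpr ⟨Finset.mem_univ _, h1, h⟩
  rw [hSe] at this
  simp [h2, h3, h4] at this

/-- A support starting with a given element. -/
theorem exists_tri_at (D : Data ι) (i : Fin 4) {a : ι} (ha : a ≠ D.o) (hne : D.co i a ≠ 0) :
    ∃ b c, Tri D i a b c := by
  obtain ⟨x, y, z, T⟩ := exists_tri D i
  by_cases h1 : a = x
  · exact ⟨y, z, h1 ▸ T⟩
  by_cases h2 : a = y
  · exact ⟨z, x, h2 ▸ T.rotate⟩
  by_cases h3 : a = z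
  · exact ⟨x, y, h3 ▸ T.rotate.rotate⟩
  exact absurd (T.zero a ha h1 h2 h3) hne

/-- A support starting with two given elements. -/
theorem exists_tri_at2 (D : Data ι) (i : Fin 4) {a b : ι} (ha : a ≠ D.o) (hb : b ≠ D.o)
    (hab : a ≠ b) (hna : D.co i a ≠ 0) (hnb : D.co i b ≠ 0) : ∃ c, Tri D i a b c := by
  obtain ⟨x, y, T⟩ := exists_tri_at D i ha hna
  by_cases h1 : b = x
  · exact ⟨y, h1 ▸ T⟩
  by_cases h2 : b = y
  · exact ⟨x, h2 ▸ T.swap23⟩
  exact absurd (T.zero b hb hab.symm h1 h2) hnb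

theorem co_range (D : Data ι) (i : Fin 4) (χ : ι) :
    D.co i χ = 0 ∨ D.co i χ = 1 ∨ D.co i χ = -1 := by
  obtain ⟨a, b, c, T⟩ := exists_tri D i
  by_cases h0 : χ = D.o
  · right; left; rw [h0, D.co_o]
  by_cases h1 : χ = a
  · subst h1; exact Or.inr T.sa
  by_cases h2 : χ = b
  · subst h2; exact Or.inr T.sb
  by_cases h3 : χ = c
  · subst h3; exact Or.inr T.sc
  exact Or.inl (T.zero χ h0 h1 h2 h3)

theorem Tri.degree {i : Fin 4} {a b c : ι} (T : Tri D i a b c) :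
    D.co i a * D.deg a + D.co i b * D.deg b + D.co i c * D.deg c = -1 := by
  have := T.sum D.deg
  rw [D.deg0, D.deg_o] at this
  omega

/-- Inner product two: exactly one common constituent, with the same sign. -/
theorem share_two {i j : Fin 4} (hij : ∑ χ, D.co i χ * D.co j χ = 2) {a b c : ι}
    (T : Tri D i a b c) :
    (D.co j a = D.co i a ∧ D.co j b = 0 ∧ D.co j c = 0) ∨
    (D.co j a = 0 ∧ D.co j b = D.co i b ∧ D.co j c = 0) ∨
    (D.co j a = 0 ∧ D.co j b = 0 ∧ D.co j c = D.co i c) := by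
  rw [T.sum, D.co_o] at hij
  have hfull : D.co j a ≠ 0 → D.co j b ≠ 0 → D.co j c ≠ 0 → False := by
    intro ha hb hc
    have T' : Tri D j a b c := by
      obtain ⟨x, T'⟩ := exists_tri_at2 D j T.ao T.bo T.ab ha hb
      by_cases h : c = x
      · exact h ▸ T'
      · exact absurd (T'.zero c T.co' T.ac.symm T.bc.symm h) hc
    have d1 := T.degree
    have d2 := T'.degree
    have pa := D.deg_pos a
    have pb := D.deg_pos b
    have pc := D.deg_pos c
    rcases T.sa with h1 | h1 <;> rcases T.sb with h2 | h2 <;> rcases T.sc with h3 | h3 <;>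
      rcases T'.sa with h4 | h4 <;> rcases T'.sb with h5 | h5 <;> rcases T'.sc with h6 | h6 <;>
      simp only [h1, h2, h3, h4, h5, h6] at d1 d2 hij <;> omega
  rcases T.sa with h1 | h1 <;> rcases T.sb with h2 | h2 <;> rcases T.sc with h3 | h3 <;>
    rcases co_range D j a with h4 | h4 | h4 <;> rcases co_range D j b with h5 | h5 | h5 <;>
    rcases co_range D j c with h6 | h6 | h6 <;>
    simp only [h1, h2, h3, h4, h5, h6] at hij hfull ⊢ <;>
    first
      | omega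
      | exact (hfull (by omega) (by omega) (by omega)).elim
      | simp

/-- Inner product one: the signed products cancel. -/
theorem share_one {i j : Fin 4} (hij : ∑ χ, D.co i χ * D.co j χ = 1) {a b c : ι}
    (T : Tri D i a b c) :
    D.co i a * D.co j a + D.co i b * D.co j b + D.co i c * D.co j c = 0 := by
  rw [T.sum, D.co_o] at hij
  linarith

theorem swap_sum (f g : ι → ℤ) : ∑ χ, f χ * g χ = ∑ χ, g χ * f χ :=
  Finset.sum_congr rfl fun _ _ => mul_comm _ _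

/-- Summing over a list that carries the support of all four functions. -/
theorem sum_eq_list (l : List ι) (hl : l.Nodup) (f : ι → ℚ) (h0 : ∀ χ, χ ∉ l → f χ = 0) :
    ∑ χ, f χ = (l.map f).sum := by
  rw [← Finset.sum_subset (Finset.subset_univ l.toFinset)
    fun χ _ hχ => h0 χ (fun h => hχ (List.mem_toFinset.mpr h)), List.sum_toFinset f hl]

theorem degsq_ge (D : Data ι) (l : List ι) (hl : l.Nodup) :
    (l.map fun χ => D.deg χ * D.deg χ).sum ≤ D.g := by
  refine le_trans ?_ D.degsq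
  rw [← List.sum_toFinset _ hl]
  exact Finset.sum_le_sum_of_subset_of_nonneg (Finset.subset_univ _)
    fun χ _ _ => mul_self_nonneg _

theorem signed_deg {i : Fin 4} {a : ι} (h : D.co i a = 1 ∨ D.co i a = -1) :
    (D.deg a : ℚ)⁻¹ = (D.co i a : ℚ) * ((D.co i a * D.deg a : ℤ) : ℚ)⁻¹ := by
  rcases h with h | h <;> simp [h]

theorem term_eq {s d : ℤ} (hs : s = 1 ∨ s = -1) (k : ℚ) :
    k * (s : ℚ) / (d : ℚ) = k / ((s * d : ℤ) : ℚ) := by
  rcases hs with h | h <;> subst h <;> push_cast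
  · rw [mul_one, one_mul]
  · rw [mul_neg_one, neg_one_mul, div_neg, neg_div]

theorem deg_signed_ne {i : Fin 4} {a : ι} (ha : a ≠ D.o)
    (hs : D.co i a = 1 ∨ D.co i a = -1) :
    D.co i a * D.deg a ≠ 0 := by
  have h2 := D.deg_pos a
  rcases hs with h | h <;> rw [h] <;> omega

/-- A constituent of all four functions is not linear. -/
theorem not_one_of_all {a : ι} (ha : a ≠ D.o) (hs : D.co 0 a = 1 ∨ D.co 0 a = -1)
    (h1 : D.co 1 a = D.co 0 a) : D.deg a ≠ 1 := by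
  intro h
  rcases D.lin a ha h with h' | h' | h' <;> rcases hs with hs | hs <;> omega

theorem sq_signed {i : Fin 4} {a : ι} (hs : D.co i a = 1 ∨ D.co i a = -1) :
    D.deg a * D.deg a = (D.co i a * D.deg a) * (D.co i a * D.deg a) := by
  rcases hs with h | h <;> rw [h] <;> ring

theorem neg_or_pos3 {a b c : ℤ} (h : a * b * c < 0) :
    (a < 0 ∧ 0 < b ∧ 0 < c) ∨ (0 < a ∧ b < 0 ∧ 0 < c) ∨ (0 < a ∧ 0 < b ∧ c < 0) ∨
      (a < 0 ∧ b < 0 ∧ c < 0) := by
  rw [mul_neg_iff, mul_pos_iff, mul_neg_iff] at h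
  tauto

theorem one_neg {a b c : ℤ} (h : a * b * c < 0) (hsum : a + b + c = -1) :
    (a < 0 ∧ 0 < b ∧ 0 < c) ∨ (0 < a ∧ b < 0 ∧ 0 < c) ∨ (0 < a ∧ 0 < b ∧ c < 0) := by
  rcases neg_or_pos3 h with h | h | h | h
  · exact Or.inl h
  · exact Or.inr (Or.inl h)
  · exact Or.inr (Or.inr h)
  · omega

theorem two_neg {a b c : ℤ} (h : 0 < a * b * c) (hsum : a + b + c = -1) :
    (0 < a ∧ b < 0 ∧ c < 0) ∨ (a < 0 ∧ 0 < b ∧ c < 0) ∨ (a < 0 ∧ b < 0 ∧ 0 < c) := by
  have h' : (-a) * (-b) * (-c) < 0 := by linarith [show (-a) * (-b) * (-c) = -(a * b * c) by ring]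
  rcases neg_or_pos3 h' with h | h | h | h
  · exact Or.inl ⟨by omega, by omega, by omega⟩
  · exact Or.inr (Or.inl ⟨by omega, by omega, by omega⟩)
  · exact Or.inr (Or.inr ⟨by omega, by omega, by omega⟩)
  · omega

theorem Tri.prod_neg {i : Fin 4} {a b c : ι} (T : Tri D i a b c) (hi : i = 0 ∨ i = 1) :
    D.co i a * D.deg a * (D.co i b * D.deg b) * (D.co i c * D.deg c) < 0 := by
  have := D.sign i a b c T.ab T.ac T.bc T.ao T.bo T.co' T.ne_zero.1 T.ne_zero.2.1 T.ne_zero.2.2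
  rcases hi with rfl | rfl <;> simpa using this

theorem Tri.prod_pos {i : Fin 4} {a b c : ι} (T : Tri D i a b c) (hi : i = 2 ∨ i = 3) :
    0 < D.co i a * D.deg a * (D.co i b * D.deg b) * (D.co i c * D.deg c) := by
  have := D.sign i a b c T.ab T.ac T.bc T.ao T.bo T.co' T.ne_zero.1 T.ne_zero.2.1 T.ne_zero.2.2
  rcases hi with rfl | rfl <;> simpa using this

end Cfsg.Agent.Lib.ThreeNine.Arith
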