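import Mathlib.Algebra.Order.Field.Basic
import Mathlib.Data.Rat.Cast.Order
import Mathlib.Algebra.Field.Rat
import Mathlib.Tactic.Linarith
import Mathlib.Tactic.Ring
import Mathlib.Tactic.FieldSimp
import Mathlib.Tactic.Positivity
import Mathlib.Tactic.NormNum

/-!
# The numerical contradictions
-/

set_option autoImplicit false

namespace Cfsg.Agent.Lib.ThreeNine.Pure

theorem inv_upper {x : ℤ} {k : ℕ} (hk : 0 < k) (hx : (k : ℤ) ≤ x) :
    0 < (x : ℚ)⁻¹ ∧ (x : ℚ)⁻¹ ≤ (k : ℚ)⁻¹ := by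
  have hk' : (0 : ℚ) < k := by exact_mod_cast hk
  have hx' : (k : ℚ) ≤ x := by exact_mod_cast hx
  exact ⟨inv_pos.mpr (by linarith), inv_anti₀ hk' hx'⟩

theorem inv_lower {x : ℤ} {k : ℕ} (hk : 0 < k) (hx : x ≤ -(k : ℤ)) :
    (x : ℚ)⁻¹ < 0 ∧ -(k : ℚ)⁻¹ ≤ (x : ℚ)⁻¹ := by
  obtain ⟨h1, h2⟩ := inv_upper (x := -x) hk (by omega)
  push_cast at h1 h2
  rw [inv_neg] at h1 h2
  exact ⟨by linarith, by linarith⟩

theorem bound {E : ℚ} {g L : ℤ} (hE : E = 648 / (g : ℚ)) (hL : 0 < L) (hg : L ≤ g) :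
    E * (L : ℚ) ≤ 648 := by
  have hL' : (0 : ℚ) < L := by exact_mod_cast hL
  have hg' : (L : ℚ) ≤ g := by exact_mod_cast hg
  rw [hE, div_mul_eq_mul_div, div_le_iff₀ (by linarith)]
  linarith

theorem le_one {E : ℚ} {g n : ℤ} (hE : E = 648 / (g : ℚ)) (hgn : g = 72 * n) (hn : 10 ≤ n) :
    E < 1 ∧ 0 < E := by
  have hg : (720 : ℚ) ≤ g := by exact_mod_cast (show (720 : ℤ) ≤ g by omega)
  constructor
  · rw [hE, div_lt_one (by linarith)]; linarith
  · rw [hE]; positivity

theorem sq_ge {x : ℤ} {k : ℤ} (hk : 0 ≤ k) (h : k ≤ x ∨ x ≤ -k) : k * k ≤ x * x := by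
  rcases h with h | h <;> nlinarith

theorem case_common {A P Q R S T U g n : ℤ} {EA EB : ℚ}
    (hA0 : A ≠ 1 ∧ A ≠ 0) (hQ0 : Q ≠ 0) (hT0 : T ≠ 0) (hU0 : U ≠ 0)
    (h1 : A + P + Q = -1) (h2 : A + R + S = -1) (h3 : A - R + T = -1) (h4 : A - P + U = -1)
    (s1 : A * P * Q < 0) (s3 : A * R * T < 0)
    (cA : A % 9 = 1) (cP : P % 9 = 6) (cQ : Q % 9 = 1) (cT : T % 9 = 4)
    (hEA : EA = 648 / (g : ℚ)) (hEB : EB = 648 / (g : ℚ))
    (vA : EA = 1 + (A : ℚ)⁻¹ + (Q : ℚ)⁻¹ + (S : ℚ)⁻¹ - 2 * (T : ℚ)⁻¹ + 4 * (U : ℚ)⁻¹)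
    (vB : EB = 1 + (A : ℚ)⁻¹ + (Q : ℚ)⁻¹ + (S : ℚ)⁻¹ + 4 * (T : ℚ)⁻¹ - 2 * (U : ℚ)⁻¹)
    (hgn : g = 72 * n) (hn : 10 ≤ n)
    (hsq : 1 + (A * A + P * P + Q * Q + R * R + S * S + T * T + U * U) ≤ g) : False := by
  have hTU : U = T := by
    have h : (T : ℚ)⁻¹ = (U : ℚ)⁻¹ := by linarith [hEA.trans hEB.symm]
    exact_mod_cast (inv_injective h).symm
  subst U
  have hR : R = P := by omega
  subst R
  have hS : S = Q := by omega
  subst S
  obtain ⟨hlt, -⟩ := le_one hEA hgn hn
  have hQ : Q = -1 - A - P := by omega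
  rcases lt_trichotomy A 0 with hA | hA | hA
  · -- positive contributions exceed the negative one
    have hPQ : 0 < P ∧ 0 < Q := by
      rcases lt_trichotomy P 0 with hP | hP | hP
      · have : 0 < A * P := mul_pos_of_neg_of_neg hA hP
        have hQn : Q < 0 := by nlinarith
        omega
      · omega
      · have : A * P < 0 := mul_neg_of_neg_of_pos hA hP
        exact ⟨hP, by nlinarith⟩
    have hT : 0 < T := by
      have : A * P < 0 := mul_neg_of_neg_of_pos hA hPQ.1
      nlinarith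
    have hQA : Q ≤ -A := by omega
    have i1 : (-A : ℚ)⁻¹ ≤ (Q : ℚ)⁻¹ := by
      apply inv_anti₀ (by exact_mod_cast hPQ.2)
      exact_mod_cast hQA
    rw [inv_neg] at i1
    have i2 : (0 : ℚ) < (T : ℚ)⁻¹ := inv_pos.mpr (by exact_mod_cast hT)
    have i3 : (0 : ℚ) < (Q : ℚ)⁻¹ := inv_pos.mpr (by exact_mod_cast hPQ.2)
    linarith
  · omega
  · have hPT : 0 < P ∧ T < 0 := by
      rcases lt_trichotomy P 0 with hP | hP | hP
      · have hTn : T < 0 := by omega
        have : A * P < 0 := mul_neg_of_pos_of_neg hA hP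
        nlinarith
      · omega
      · have : 0 < A * P := mul_pos hA hP
        exact ⟨hP, by nlinarith⟩
    have hA10 : 10 ≤ A := by omega
    have hP6 : 6 ≤ P := by omega
    have hT5 : T ≤ -5 := by omega
    have hQ17 : Q ≤ -17 := by omega
    obtain ⟨iA, -⟩ := inv_upper (x := A) (k := 10) (by norm_num) (by omega)
    obtain ⟨-, iT⟩ := inv_lower (x := T) (k := 5) (by norm_num) (by omega)
    by_cases hq : Q = -17
    · have hA' : A = 10 := by omega
      have hP' : P = 6 := by omega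
      have hT' : T = -5 := by omega
      subst hA' hP' hT' hq
      have hg0 : (g : ℚ) ≠ 0 := Int.cast_ne_zero.mpr (by omega)
      push_cast at vA
      rw [hEA, eq_comm] at vA
      field_simp at vA
      norm_num at vA
      have : (g * 99 : ℚ) = 110160 := by linarith
      have : g * 99 = 110160 := by exact_mod_cast this
      omega
    · have hQ26 : Q ≤ -26 := by omega
      obtain ⟨-, iQ⟩ := inv_lower (x := Q) (k := 26) (by norm_num) (by omega)
      have e1 := sq_ge (k := 10) (x := A) (by norm_num) (Or.inl hA10)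
      have e2 := sq_ge (k := 6) (x := P) (by norm_num) (Or.inl hP6)
      have e3 := sq_ge (k := 5) (x := T) (by norm_num) (Or.inr hT5)
      have e4 := sq_ge (k := 26) (x := Q) (by norm_num) (Or.inr hQ26)
      have hb := bound hEA (L := 1575) (by norm_num) (by linarith)
      push_cast at iA iT iQ hb
      linarith

theorem case_shared {A P Q R S T U g n : ℤ} {EA : ℚ}
    (hA : A ≠ 0) (hP : P ≠ 0) (hQ : Q ≠ 0) (hS : S ≠ 0) (hU : U ≠ 0)
    (h0 : A + P + Q = -1) (h1 : A + R + S = -1) (h2 : A - R + T = -1) (h3 : S + T + U = -1)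
    (s0 : A * P * Q < 0) (s1 : A * R * S < 0)
    (e : (S : ℚ)⁻¹ + (U : ℚ)⁻¹ = 0) (hEA : EA = 648 / (g : ℚ))
    (vA : EA = 1 + (P : ℚ)⁻¹ + (Q : ℚ)⁻¹ + 2 * (S : ℚ)⁻¹ - (T : ℚ)⁻¹ + 4 * (U : ℚ)⁻¹)
    (hgn : g = 72 * n) (hn : 10 ≤ n) : False := by
  have hSU : S = -U := by
    have : (S : ℚ)⁻¹ = ((-U : ℤ) : ℚ)⁻¹ := by push_cast; rw [inv_neg]; linarith
    exact_mod_cast inv_injective this
  have hT : T = -1 := by omega
  subst hT
  have hR : R = A := by omega
  subst R
  obtain ⟨hlt, -⟩ := le_one hEA hgn hn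
  have hS0 : S < 0 := by nlinarith [mul_self_pos.mpr hA]
  have hA0 : 0 < A := by omega
  have hU0 : 0 < U := by omega
  have iU : (0 : ℚ) < (U : ℚ)⁻¹ := inv_pos.mpr (by exact_mod_cast hU0)
  push_cast at vA
  rcases lt_or_gt_of_ne hP with hP' | hP'
  · have hQ' : 0 < Q := by
      rcases lt_or_gt_of_ne hQ with hQ' | hQ'
      · nlinarith [mul_pos hA0 (mul_pos_of_neg_of_neg hP' hQ')]
      · exact hQ'
    obtain ⟨-, iP⟩ := inv_lower (x := P) (k := 1) (by norm_num) (by omega)
    have iQ : (0 : ℚ) < (Q : ℚ)⁻¹ := inv_pos.mpr (by exact_mod_cast hQ')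
    push_cast at iP
    linarith
  · have hQ' : Q < 0 := by
      rcases lt_or_gt_of_ne hQ with hQ' | hQ'
      · exact hQ'
      · nlinarith [mul_pos hA0 (mul_pos hP' hQ')]
    obtain ⟨-, iQ⟩ := inv_lower (x := Q) (k := 1) (by norm_num) (by omega)
    have iP : (0 : ℚ) < (P : ℚ)⁻¹ := inv_pos.mpr (by exact_mod_cast hP')
    push_cast at iQ
    linarith

theorem case_pair {A P Q R S U V : ℤ}
    (hP : P ≠ 0) (hU : U ≠ 0) (hV : V ≠ 0)
    (h1 : A + P + Q = -1) (h2 : A + R + S = -1) (h3 : P + R - S = -1) (h4 : R + U + V = -1)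
    (s1 : A * P * Q < 0) (s2 : A * R * S < 0) (s3 : P * R * S < 0) (s4 : 0 < R * U * V)
    (e : (U : ℚ)⁻¹ + (V : ℚ)⁻¹ = (P : ℚ)⁻¹) : False := by
  have key : P < 0 → R < 0 → False := by
    intro hP' hR'
    have h : 0 < P * R := mul_pos_of_neg_of_neg hP' hR'
    have hS' : S < 0 := by nlinarith
    have hA' : A < 0 := by nlinarith [mul_pos_of_neg_of_neg hR' hS']
    have hQ' : Q < 0 := by nlinarith [mul_pos_of_neg_of_neg hA' hP']
    omega
  have hRP : R < 0 ∧ 0 < P := by
    rcases lt_trichotomy R 0 with hR | hR | hR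
    · rcases lt_trichotomy P 0 with hP' | hP' | hP'
      · exact (key hP' hR).elim
      · exact absurd hP' hP
      · exact ⟨hR, hP'⟩
    · simp [hR] at s4
    · exfalso
      rcases lt_trichotomy P 0 with hP' | hP' | hP'
      · have h : P * R < 0 := mul_neg_of_neg_of_pos hP' hR
        have hS' : 0 < S := by nlinarith
        have hA' : A < 0 := by nlinarith [mul_pos hR hS']
        have hQ' : Q < 0 := by nlinarith [mul_pos_of_neg_of_neg hA' hP']
        omega
      · exact hP hP'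
      · have h : 0 < P * R := mul_pos hP' hR
        have hS' : S < 0 := by nlinarith
        omega
  have hUV : U * V < 0 := by
    rcases lt_trichotomy (U * V) 0 with h | h | h
    · exact h
    · simp [mul_assoc, h] at s4
    · nlinarith [mul_neg_of_neg_of_pos hRP.1 h]
  have hP' : (P : ℚ) ≠ 0 := by exact_mod_cast hP
  have hU' : (U : ℚ) ≠ 0 := by exact_mod_cast hU
  have hV' : (V : ℚ) ≠ 0 := by exact_mod_cast hV
  field_simp at e
  have e' : P * (U + V) = U * V := by
    have : ((P * (U + V) : ℤ) : ℚ) = ((U * V : ℤ) : ℚ) := by push_cast; linarith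
    exact_mod_cast this
  have : 0 ≤ P * (U + V) := mul_nonneg hRP.2.le (by omega)
  omega

theorem case_separate {A P Q R S T U V g n : ℤ} {EA EB : ℚ}
    (hQ0 : Q ≠ 0) (hT0 : T ≠ 0) (hP0 : P ≠ 0) (hR0 : R ≠ 0)
    (hU0 : U ≠ 0) (hV0 : V ≠ 0)
    (h1 : A + P + Q = -1) (h2 : A + R + S = -1) (h3 : P + T + U = -1) (h4 : R + T + V = -1)
    (s1 : A * P * Q < 0) (s2 : A * R * S < 0) (s3 : 0 < P * T * U)
    (cA : A % 9 = 2) (cP : P % 9 = 5) (cQ : Q % 9 = 1) (cR : R % 9 = 5) (cT : T % 9 = 8)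
    (cU : U % 9 = 4) (cV : V % 9 = 4)
    (hEA : EA = 648 / (g : ℚ)) (hEB : EB = 648 / (g : ℚ))
    (vA : EA = 1 + 8 * (A : ℚ)⁻¹ - 4 * (P : ℚ)⁻¹ + (Q : ℚ)⁻¹ + 2 * (R : ℚ)⁻¹ + (S : ℚ)⁻¹
      - (T : ℚ)⁻¹ - 2 * (U : ℚ)⁻¹ + 4 * (V : ℚ)⁻¹)
    (vB : EB = 1 + 8 * (A : ℚ)⁻¹ + 2 * (P : ℚ)⁻¹ + (Q : ℚ)⁻¹ - 4 * (R : ℚ)⁻¹ + (S : ℚ)⁻¹
      - (T : ℚ)⁻¹ + 4 * (U : ℚ)⁻¹ - 2 * (V : ℚ)⁻¹)
    (hgn : g = 72 * n) (hn : 10 ≤ n)
    (hsq : 1 + (A * A + P * P + Q * Q + R * R + S * S + T * T + U * U + V * V) ≤ g) :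
    g = 720 := by
  have e : (R : ℚ)⁻¹ + (V : ℚ)⁻¹ = (P : ℚ)⁻¹ + (U : ℚ)⁻¹ := by linarith [hEA.trans hEB.symm]
  have hP' : (P : ℚ) ≠ 0 := by exact_mod_cast hP0
  have hR' : (R : ℚ) ≠ 0 := by exact_mod_cast hR0
  have hU' : (U : ℚ) ≠ 0 := by exact_mod_cast hU0
  have hV' : (V : ℚ) ≠ 0 := by exact_mod_cast hV0
  field_simp at e
  have e' : (R + V) * (P * U) = (P + U) * (R * V) := by
    have : (((R + V) * (P * U) : ℤ) : ℚ) = (((P + U) * (R * V) : ℤ) : ℚ) := by
      push_cast; linarith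
    exact_mod_cast this
  by_cases hT1 : T = -1
  · subst hT1
    have hUP : U = -P := by omega
    have hVR : V = -R := by omega
    subst hUP hVR
    push_cast at vA
    simp only [inv_neg, inv_one] at vA
    have hg : (720 : ℚ) ≤ g := by exact_mod_cast (show (720 : ℤ) ≤ g by omega)
    have hE9 : EA ≤ 9 / 10 := by
      rw [hEA, div_le_iff₀ (by linarith)]; linarith
    have sgn : ∀ p q : ℤ, A + p + q = -1 → A * p * q < 0 →
        (A < 0 ∧ 0 < p ∧ 0 < q) ∨ (0 < A ∧ p < 0 ∧ 0 < q) ∨ (0 < A ∧ 0 < p ∧ q < 0) := by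
      intro p q hs hlt
      rw [mul_neg_iff, mul_pos_iff, mul_neg_iff] at hlt
      omega
    rcases lt_trichotomy A 0 with hA | hA | hA
    · have hp : 5 ≤ P ∧ 1 ≤ Q := by rcases sgn P Q h1 s1 with h | h | h <;> omega
      have hr : 5 ≤ R ∧ 0 < S := by rcases sgn R S h2 s2 with h | h | h <;> omega
      obtain ⟨jP, iP⟩ := inv_upper (x := P) (k := 5) (by norm_num) (by omega)
      obtain ⟨jR, iR⟩ := inv_upper (x := R) (k := 5) (by norm_num) (by omega)
      have iQ : (0 : ℚ) < (Q : ℚ)⁻¹ := inv_pos.mpr (by exact_mod_cast hp.2)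
      have iS : (0 : ℚ) < (S : ℚ)⁻¹ := inv_pos.mpr (by exact_mod_cast hr.2)
      push_cast at iP iR
      have hA26 : -26 ≤ A := by
        by_contra hne
        obtain ⟨-, iA⟩ := inv_lower (x := A) (k := 27) (by norm_num) (by omega)
        push_cast at iA
        linarith
      have cases3 : A = -7 ∨ A = -16 ∨ A = -25 := by omega
      have hPc : (P = 5 ∧ Q = -6 - A) ∨ (P = 14 ∧ Q = -15 - A) ∨ (P = 23 ∧ Q = -24 - A) := by
        omega
      have hRc : (R = 5 ∧ S = -6 - A) ∨ (R = 14 ∧ S = -15 - A) ∨ (R = 23 ∧ S = -24 - A) := by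
        omega
      rcases cases3 with rfl | rfl | rfl <;> rcases hPc with ⟨rfl, rfl⟩ | ⟨rfl, rfl⟩ | ⟨rfl, rfl⟩ <;>
        rcases hRc with ⟨rfl, rfl⟩ | ⟨rfl, rfl⟩ | ⟨rfl, rfl⟩ <;>
        first
          | (exfalso; omega)
          | (exfalso; norm_num at vA; linarith)
          | (have hg0 : (g : ℚ) ≠ 0 := by linarith
             norm_num at vA
             rw [hEA] at vA
             field_simp at vA
             have : (g : ℚ) = 720 := by linarith
             exact_mod_cast this)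
    · omega
    · exfalso
      have iA : (0 : ℚ) < (A : ℚ)⁻¹ := inv_pos.mpr (by exact_mod_cast hA)
      have half : ∀ p q : ℤ, A + p + q = -1 → A * p * q < 0 → p % 9 = 5 →
          -(21 : ℚ) / 40 ≤ -2 * (p : ℚ)⁻¹ + (q : ℚ)⁻¹ ∨ (q % 9 ≠ 1 ∧ 0 < p) := by
        intro p q hs hlt hp
        rcases sgn p q hs hlt with ⟨h, -, -⟩ | ⟨-, hp', hq'⟩ | ⟨-, hp', hq'⟩
        · omega
        · left
          have : (p : ℚ)⁻¹ < 0 := inv_lt_zero.mpr (by exact_mod_cast hp')
          have : (0 : ℚ) < (q : ℚ)⁻¹ := inv_pos.mpr (by exact_mod_cast hq')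
          linarith
        · by_cases hq : q % 9 = 1
          · left
            obtain ⟨-, ip⟩ := inv_upper (x := p) (k := 5) (by norm_num) (by omega)
            obtain ⟨-, iq⟩ := inv_lower (x := q) (k := 8) (by norm_num) (by omega)
            push_cast at ip iq
            linarith
          · exact Or.inr ⟨hq, hp'⟩
      rcases half P Q h1 s1 cP with hh | hh
      · rcases half R S h2 s2 cR with hh' | hh'
        · linarith
        · omega
      · omega
  have hsum : P + U = R + V := by omega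
  rw [← hsum] at e'
  have hprod : P * U = R * V := mul_left_cancel₀ (by omega) e'
  have hPR : R = P := by
    have hz : (P - R) * (P - V) = 0 := by
      have : V = P + U - R := by omega
      subst this
      linarith [show (P - R) * (P - (P + U - R)) = P * R - P * U - R * R + R * U by ring,
        show R * (P + U - R) = P * R + U * R - R * R by ring]
    rcases mul_eq_zero.mp hz with h | h <;> omega
  subst R
  have hUV : V = U := by omega
  subst V
  have hS : S = Q := by omega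
  subst S
  obtain ⟨hlt, -⟩ := le_one hEA hgn hn
  have signs : (0 < P ∧ T < 0 ∧ U < 0) ∨ (P < 0 ∧ 0 < T ∧ U < 0) ∨ (P < 0 ∧ T < 0 ∧ 0 < U) := by
    rcases lt_trichotomy P 0 with hP | hP | hP
    · rcases lt_trichotomy T 0 with hT | hT | hT
      · exact Or.inr (Or.inr ⟨hP, hT, by nlinarith [mul_pos_of_neg_of_neg hP hT]⟩)
      · omega
      · exact Or.inr (Or.inl ⟨hP, hT, by nlinarith [mul_neg_of_neg_of_pos hP hT]⟩)
    · omega
    · rcases lt_trichotomy T 0 with hT | hT | hT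
      · exact Or.inl ⟨hP, hT, by nlinarith [mul_neg_of_pos_of_neg hP hT]⟩
      · omega
      · have : 0 < U := by nlinarith [mul_pos hP hT]
        omega
  exfalso
  by_cases hQ1 : Q = 1
  · subst hQ1
    push_cast at vA
    rw [inv_one] at vA
    rcases signs with ⟨hP, hT, hU⟩ | ⟨hP, hT, hU⟩ | ⟨hP, hT, hU⟩
    · obtain ⟨-, iP⟩ := inv_upper (x := P) (k := 5) (by norm_num) (by omega)
      obtain ⟨-, iU⟩ := inv_lower (x := U) (k := 5) (by norm_num) (by omega)
      obtain ⟨-, iA⟩ := inv_lower (x := A) (k := 7) (by norm_num) (by omega)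
      have iT : (T : ℚ)⁻¹ < 0 := inv_lt_zero.mpr (by exact_mod_cast hT)
      push_cast at iP iU iA
      linarith
    · obtain ⟨iP, -⟩ := inv_lower (x := P) (k := 1) (by norm_num) (by omega)
      obtain ⟨-, iU⟩ := inv_lower (x := U) (k := 5) (by norm_num) (by omega)
      obtain ⟨-, iT⟩ := inv_upper (x := T) (k := 8) (by norm_num) (by omega)
      have iA : (0 : ℚ) < (A : ℚ)⁻¹ := inv_pos.mpr (by exact_mod_cast (show 0 < A by omega))
      push_cast at iU iT
      linarith
    · have iA : (0 : ℚ) < (A : ℚ)⁻¹ := inv_pos.mpr (by exact_mod_cast (show 0 < A by omega))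
      have iU : (0 : ℚ) < (U : ℚ)⁻¹ := inv_pos.mpr (by exact_mod_cast hU)
      have iP : (P : ℚ)⁻¹ < 0 := inv_lt_zero.mpr (by exact_mod_cast hP)
      have iT : (T : ℚ)⁻¹ < 0 := inv_lt_zero.mpr (by exact_mod_cast hT)
      linarith
  rcases signs with ⟨hP, hT, hU⟩ | ⟨hP, hT, hU⟩ | ⟨hP, hT, hU⟩
  · have hU5 : U ≤ -5 := by omega
    have hT10 : T ≤ -10 := by omega
    have hP14 : 14 ≤ P := by omega
    obtain ⟨jT, iT⟩ := inv_lower (x := T) (k := 10) (by norm_num) (by omega)
    obtain ⟨jU, iU⟩ := inv_lower (x := U) (k := 5) (by norm_num) (by omega)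
    obtain ⟨jP, iP⟩ := inv_upper (x := P) (k := 14) (by norm_num) (by omega)
    have eU := sq_ge (k := 5) (x := U) (by norm_num) (Or.inr hU5)
    have eT := sq_ge (k := 10) (x := T) (by norm_num) (Or.inr hT10)
    have eP := sq_ge (k := 14) (x := P) (by norm_num) (Or.inl hP14)
    rcases lt_trichotomy A 0 with hA | hA | hA
    · have hQp : 0 < Q := by nlinarith [mul_neg_of_neg_of_pos hA hP]
      have hQ10 : 10 ≤ Q := by omega
      obtain ⟨jQ, iQ⟩ := inv_upper (x := Q) (k := 10) (by norm_num) (by omega)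
      by_cases hb : P = 14
      · have hT' : T = -10 := by omega
        have hU' : U = -5 := by omega
        by_cases hc : Q = 10
        · have hA' : A = -25 := by omega
          subst hA' hT' hU' hb hc
          have hg0 : (g : ℚ) ≠ 0 := Int.cast_ne_zero.mpr (by omega)
          push_cast at vA
          rw [hEA, eq_comm] at vA
          field_simp at vA
          norm_num at vA
          have : (g * 153 : ℚ) = 226800 := by linarith
          have : g * 153 = 226800 := by exact_mod_cast this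
          omega
        · have hQ19 : 19 ≤ Q := by omega
          have hA34 : A ≤ -34 := by omega
          obtain ⟨-, iA⟩ := inv_lower (x := A) (k := 34) (by norm_num) (by omega)
          have eA := sq_ge (k := 34) (x := A) (by norm_num) (Or.inr hA34)
          have eQ := sq_ge (k := 19) (x := Q) (by norm_num) (Or.inl hQ19)
          subst hT' hU' hb
          have hb' := bound hEA (L := 2421) (by norm_num) (by linarith)
          push_cast at iA vA hb'
          linarith
      · have hP23 : 23 ≤ P := by omega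
        have hA34 : A ≤ -34 := by omega
        obtain ⟨-, iP'⟩ := inv_upper (x := P) (k := 23) (by norm_num) (by omega)
        obtain ⟨-, iA⟩ := inv_lower (x := A) (k := 34) (by norm_num) (by omega)
        have eA := sq_ge (k := 34) (x := A) (by norm_num) (Or.inr hA34)
        have eQ := sq_ge (k := 10) (x := Q) (by norm_num) (Or.inl hQ10)
        have eP' := sq_ge (k := 23) (x := P) (by norm_num) (Or.inl hP23)
        have hb' := bound hEA (L := 2565) (by norm_num) (by linarith)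
        push_cast at iA iP' iT iU vA hb'
        linarith
    · omega
    · have hQn : Q < 0 := by nlinarith [mul_pos hA hP]
      have hQ17 : Q ≤ -17 := by omega
      obtain ⟨-, iQ⟩ := inv_lower (x := Q) (k := 17) (by norm_num) (by omega)
      by_cases hA2 : A = 2
      · subst hA2
        push_cast at iP iT iU iQ vA
        linarith
      · have hA11 : 11 ≤ A := by omega
        have hQ26 : Q ≤ -26 := by omega
        obtain ⟨jA, -⟩ := inv_upper (x := A) (k := 11) (by norm_num) (by omega)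
        obtain ⟨-, iQ'⟩ := inv_lower (x := Q) (k := 26) (by norm_num) (by omega)
        have eA := sq_ge (k := 11) (x := A) (by norm_num) (Or.inl hA11)
        have eQ := sq_ge (k := 26) (x := Q) (by norm_num) (Or.inr hQ26)
        have hb' := bound hEA (L := 2016) (by norm_num) (by linarith)
        push_cast at iP iT iU iQ' vA hb'
        linarith
  · have hAQ : 0 < A ∧ 0 < Q := by
      rcases lt_trichotomy A 0 with hA | hA | hA
      · have : Q < 0 := by nlinarith [mul_pos_of_neg_of_neg hA hP]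
        omega
      · omega
      · exact ⟨hA, by nlinarith [mul_neg_of_pos_of_neg hA hP]⟩
    have hQ10 : 10 ≤ Q := by omega
    have hP13 : P ≤ -13 := by omega
    have hU5 : U ≤ -5 := by omega
    have hT17 : 17 ≤ T := by omega
    obtain ⟨jP, -⟩ := inv_lower (x := P) (k := 13) (by norm_num) (by omega)
    obtain ⟨-, iU⟩ := inv_lower (x := U) (k := 5) (by norm_num) (by omega)
    obtain ⟨-, iT⟩ := inv_upper (x := T) (k := 17) (by norm_num) (by omega)
    obtain ⟨jQ, -⟩ := inv_upper (x := Q) (k := 10) (by norm_num) (by omega)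
    by_cases hA2 : A = 2
    · subst hA2
      push_cast at iT iU vA
      linarith
    · have hA11 : 11 ≤ A := by omega
      have hP22 : P ≤ -22 := by omega
      have hT26 : 26 ≤ T := by omega
      obtain ⟨jA, -⟩ := inv_upper (x := A) (k := 11) (by norm_num) (by omega)
      obtain ⟨-, iT'⟩ := inv_upper (x := T) (k := 26) (by norm_num) (by omega)
      have eA := sq_ge (k := 11) (x := A) (by norm_num) (Or.inl hA11)
      have eP := sq_ge (k := 22) (x := P) (by norm_num) (Or.inr hP22)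
      have eQ := sq_ge (k := 10) (x := Q) (by norm_num) (Or.inl hQ10)
      have eT := sq_ge (k := 26) (x := T) (by norm_num) (Or.inl hT26)
      have eU := sq_ge (k := 5) (x := U) (by norm_num) (Or.inr hU5)
      have hb' := bound hEA (L := 2016) (by norm_num) (by linarith)
      push_cast at iT' iU vA hb'
      linarith
  · have hAQ : 0 < A ∧ 0 < Q := by
      rcases lt_trichotomy A 0 with hA | hA | hA
      · have : Q < 0 := by nlinarith [mul_pos_of_neg_of_neg hA hP]
        omega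
      · omega
      · exact ⟨hA, by nlinarith [mul_neg_of_pos_of_neg hA hP]⟩
    have iA : (0 : ℚ) < (A : ℚ)⁻¹ := inv_pos.mpr (by exact_mod_cast hAQ.1)
    have iQ : (0 : ℚ) < (Q : ℚ)⁻¹ := inv_pos.mpr (by exact_mod_cast hAQ.2)
    have iU : (0 : ℚ) < (U : ℚ)⁻¹ := inv_pos.mpr (by exact_mod_cast hU)
    have iP : (P : ℚ)⁻¹ < 0 := inv_lt_zero.mpr (by exact_mod_cast hP)
    have iT : (T : ℚ)⁻¹ < 0 := inv_lt_zero.mpr (by exact_mod_cast hT)
    linarith

end Cfsg.Agent.Lib.ThreeNine.Pure
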