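import Cfsg.Agent.Lib.ThreeNine.Arith
import Cfsg.Agent.Lib.ThreeNine.Pure

/-!
# The possible overlap patterns and their elimination
-/

set_option autoImplicit false

namespace Cfsg.Agent.Lib.ThreeNine.Cases

open Arith

universe u

variable {ι : Type u} [Fintype ι] [DecidableEq ι] {D : Data ι}

/-- The two weights. -/
def wx (D : Data ι) (χ : ι) : ℤ := D.co 0 χ + D.co 1 χ + D.co 2 χ - 2 * D.co 3 χ
def wy (D : Data ι) (χ : ι) : ℤ := D.co 0 χ + D.co 1 χ - 2 * D.co 2 χ + D.co 3 χ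

def termA (D : Data ι) (χ : ι) : ℚ := (wx D χ : ℚ) ^ 2 * (wy D χ : ℚ) / (D.deg χ : ℚ)
def termB (D : Data ι) (χ : ι) : ℚ := (wx D χ : ℚ) * (wy D χ : ℚ) ^ 2 / (D.deg χ : ℚ)

theorem termA_o : termA D D.o = 1 := by
  simp [termA, wx, wy, D.co_o, D.deg_o]

theorem termB_o : termB D D.o = 1 := by
  simp [termB, wx, wy, D.co_o, D.deg_o]

theorem term_val {χ : ι} {s X Y : ℤ} (hs : s = 1 ∨ s = -1) (hx : wx D χ = s * X)
    (hy : wy D χ = s * Y) :
    termA D χ = (X : ℚ) ^ 2 * Y * ((s * D.deg χ : ℤ) : ℚ)⁻¹ ∧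
      termB D χ = (X : ℚ) * (Y : ℚ) ^ 2 * ((s * D.deg χ : ℤ) : ℚ)⁻¹ ∧
      (9 : ℤ) ∣ s * D.deg χ + 4 * X + 4 * Y := by
  have hc : (9 : ℤ) ∣ D.deg χ + 4 * wx D χ + 4 * wy D χ := D.cong χ
  rw [hx, hy] at hc
  rcases hs with rfl | rfl
  · simp only [one_mul] at hx hy hc ⊢
    refine ⟨?_, ?_, hc⟩
    · rw [termA, hx, hy, div_eq_mul_inv]
    · rw [termB, hx, hy, div_eq_mul_inv]
  · refine ⟨?_, ?_, ?_⟩
    · rw [termA, hx, hy]
      push_cast
      rw [neg_one_mul, neg_one_mul, neg_one_mul, inv_neg, div_eq_mul_inv]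
      ring
    · rw [termB, hx, hy]
      push_cast
      rw [neg_one_mul, neg_one_mul, neg_one_mul, inv_neg, div_eq_mul_inv]
      ring
    · omega

theorem term_zero {χ : ι} (h : ∀ i, D.co i χ = 0) : termA D χ = 0 ∧ termB D χ = 0 := by
  simp [termA, termB, wx, h]

theorem eqs_of_list (l : List ι) (hl : l.Nodup) (h0 : ∀ χ, χ ∉ l → ∀ i, D.co i χ = 0) :
    (l.map (termA D)).sum = 648 / (D.g : ℚ) ∧ (l.map (termB D)).sum = 648 / (D.g : ℚ) :=
  ⟨(sum_eq_list l hl (termA D) fun χ h => (term_zero (h0 χ h)).1).symm.trans D.eqA,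
    (sum_eq_list l hl (termB D) fun χ h => (term_zero (h0 χ h)).2).symm.trans D.eqB⟩

theorem ne_of_co {i : Fin 4} {a b : ι} (ha : D.co i a ≠ 0) (hb : D.co i b = 0) : a ≠ b :=
  fun h => ha (h ▸ hb)

theorem zero_all {a0 b0 c0 a1 b1 c1 a2 b2 c2 a3 b3 c3 : ι} (T0 : Tri D 0 a0 b0 c0)
    (T1 : Tri D 1 a1 b1 c1) (T2 : Tri D 2 a2 b2 c2) (T3 : Tri D 3 a3 b3 c3) {χ : ι}
    (h : χ ∉ [D.o, a0, b0, c0, a1, b1, c1, a2, b2, c2, a3, b3, c3]) (i : Fin 4) :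
    D.co i χ = 0 := by
  simp only [List.mem_cons, List.not_mem_nil, or_false, not_or] at h
  obtain ⟨h0, h1, h2, h3, h4, h5, h6, h7, h8, h9, h10, h11, h12⟩ := h
  fin_cases i
  · exact T0.zero χ h0 h1 h2 h3
  · exact T1.zero χ h0 h4 h5 h6
  · exact T2.zero χ h0 h7 h8 h9
  · exact T3.zero χ h0 h10 h11 h12

variable {A P Q R S T U V : ι}

/-- A constituent common to all four. -/
theorem false_common (T0 : Tri D 0 A P Q) (T1 : Tri D 1 A R S) (T2 : Tri D 2 A R T)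
    (T3 : Tri D 3 A P U) (hA1 : D.co 1 A = D.co 0 A) (hA2 : D.co 2 A = D.co 0 A)
    (hA3 : D.co 3 A = D.co 0 A) (hR2 : D.co 2 R = -D.co 1 R) (hP3 : D.co 3 P = -D.co 0 P)
    (hP1 : D.co 1 P = 0) (hP2 : D.co 2 P = 0)
    (hQ1 : D.co 1 Q = 0) (hQ2 : D.co 2 Q = 0) (hQ3 : D.co 3 Q = 0)
    (hR0 : D.co 0 R = 0) (hR3 : D.co 3 R = 0)
    (hS0 : D.co 0 S = 0) (hS2 : D.co 2 S = 0) (hS3 : D.co 3 S = 0)
    (hT0 : D.co 0 T = 0) (hT1 : D.co 1 T = 0) (hT3 : D.co 3 T = 0)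
    (hU0 : D.co 0 U = 0) (hU1 : D.co 1 U = 0) (hU2 : D.co 2 U = 0) : False := by
  obtain ⟨nA, nP, nQ⟩ := T0.ne_zero
  obtain ⟨-, nR, nS⟩ := T1.ne_zero
  obtain ⟨-, -, nT⟩ := T2.ne_zero
  obtain ⟨-, -, nU⟩ := T3.ne_zero
  have hl : [D.o, A, P, Q, R, S, T, U].Nodup := by
    simp only [List.nodup_cons, List.mem_cons, List.not_mem_nil, or_false, not_or,
      List.nodup_nil, and_true, not_false_eq_true]
    exact ⟨⟨T0.ao.symm, T0.bo.symm, T0.co'.symm, T1.bo.symm, T1.co'.symm, T2.co'.symm,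
      T3.co'.symm⟩, ⟨T0.ab, T0.ac, T1.ab, T1.ac, T2.ac, T3.ac⟩,
      ⟨T0.bc, ne_of_co nP hR0, ne_of_co nP hS0, ne_of_co nP hT0, ne_of_co nP hU0⟩,
      ⟨ne_of_co nQ hR0, ne_of_co nQ hS0, ne_of_co nQ hT0, ne_of_co nQ hU0⟩,
      ⟨T1.bc, ne_of_co nR hT1, ne_of_co nR hU1⟩, ⟨ne_of_co nS hT1, ne_of_co nS hU1⟩,
      ne_of_co nT hU2⟩
  obtain ⟨eA, eB⟩ := eqs_of_list _ hl fun χ hχ => zero_all T0 T1 T2 T3 (by
    simp only [List.mem_cons, List.not_mem_nil, or_false, not_or] at hχ ⊢; tauto)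
  obtain ⟨a1, b1, c1⟩ := term_val (D := D) (X := 1) (Y := 1) T0.sa
    (show wx D A = D.co 0 A * 1 by rw [wx, hA1, hA2, hA3]; ring)
    (show wy D A = D.co 0 A * 1 by rw [wy, hA1, hA2, hA3]; ring)
  obtain ⟨a2, b2, c2⟩ := term_val (D := D) (X := 3) (Y := 0) T0.sb
    (show wx D P = D.co 0 P * 3 by rw [wx, hP1, hP2, hP3]; ring)
    (show wy D P = D.co 0 P * 0 by rw [wy, hP1, hP2, hP3]; ring)
  obtain ⟨a3, b3, c3⟩ := term_val (D := D) (X := 1) (Y := 1) T0.sc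
    (show wx D Q = D.co 0 Q * 1 by rw [wx, hQ1, hQ2, hQ3]; ring)
    (show wy D Q = D.co 0 Q * 1 by rw [wy, hQ1, hQ2, hQ3]; ring)
  obtain ⟨a4, b4, -⟩ := term_val (D := D) (X := 0) (Y := 3) T1.sb
    (show wx D R = D.co 1 R * 0 by rw [wx, hR0, hR2, hR3]; ring)
    (show wy D R = D.co 1 R * 3 by rw [wy, hR0, hR2, hR3]; ring)
  obtain ⟨a5, b5, -⟩ := term_val (D := D) (X := 1) (Y := 1) T1.sc
    (show wx D S = D.co 1 S * 1 by rw [wx, hS0, hS2, hS3]; ring)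
    (show wy D S = D.co 1 S * 1 by rw [wy, hS0, hS2, hS3]; ring)
  obtain ⟨a6, b6, c6⟩ := term_val (D := D) (X := 1) (Y := -2) T2.sc
    (show wx D T = D.co 2 T * 1 by rw [wx, hT0, hT1, hT3]; ring)
    (show wy D T = D.co 2 T * -2 by rw [wy, hT0, hT1, hT3]; ring)
  obtain ⟨a7, b7, -⟩ := term_val (D := D) (X := -2) (Y := 1) T3.sc
    (show wx D U = D.co 3 U * -2 by rw [wx, hU0, hU1, hU2]; ring)
    (show wy D U = D.co 3 U * 1 by rw [wy, hU0, hU1, hU2]; ring)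
  obtain ⟨n, hn, hn10⟩ := D.gdiv
  have d0 := T0.degree
  have d1 := T1.degree
  have d2 := T2.degree
  have d3 := T3.degree
  have p0 := T0.prod_neg (Or.inl rfl)
  have p2 := T2.prod_pos (Or.inl rfl)
  rw [hA1] at d1
  rw [hA2, hR2] at d2 p2
  rw [hA3, hP3] at d3
  have hsq := degsq_ge D _ hl
  simp only [List.map_cons, List.map_nil, List.sum_cons, List.sum_nil, D.deg_o,
    sq_signed T0.sa, sq_signed T0.sb, sq_signed T0.sc, sq_signed T1.sb, sq_signed T1.sc,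
    sq_signed T2.sc, sq_signed T3.sc] at hsq
  simp only [List.map_cons, List.map_nil, List.sum_cons, List.sum_nil, termA_o, termB_o,
    a1, a2, a3, a4, a5, a6, a7, b1, b2, b3, b4, b5, b6, b7] at eA eB
  refine Pure.case_common (A := D.co 0 A * D.deg A) (P := D.co 0 P * D.deg P)
    (Q := D.co 0 Q * D.deg Q) (R := D.co 1 R * D.deg R) (S := D.co 1 S * D.deg S)
    (T := D.co 2 T * D.deg T) (U := D.co 3 U * D.deg U)
    ⟨fun h => by
      have h1 := not_one_of_all T0.ao T0.sa hA1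
      have h2 := D.deg_pos A
      rcases T0.sa with hs | hs <;> rw [hs] at h <;> omega, deg_signed_ne T0.ao T0.sa⟩
    (deg_signed_ne T0.co' T0.sc) (deg_signed_ne T2.co' T2.sc)
    (deg_signed_ne T3.co' T3.sc) d0 d1 (by linarith) (by linarith) p0 (by linarith)
    (by omega) (by omega) (by omega) (by omega) eA eB ?_ ?_ hn hn10 (by linarith)
  · push_cast; ring
  · push_cast; ring

/-- A constituent with a forced linear degree. -/
theorem false_shared (T0 : Tri D 0 A P Q) (T1 : Tri D 1 A R S) (T2 : Tri D 2 A R T)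
    (T3 : Tri D 3 S T U) (hA1 : D.co 1 A = D.co 0 A) (hA2 : D.co 2 A = D.co 0 A)
    (hA3 : D.co 3 A = 0) (hR2 : D.co 2 R = -D.co 1 R) (hS3 : D.co 3 S = D.co 1 S)
    (hT3 : D.co 3 T = D.co 2 T)
    (hP1 : D.co 1 P = 0) (hP2 : D.co 2 P = 0) (hP3 : D.co 3 P = 0)
    (hQ1 : D.co 1 Q = 0) (hQ2 : D.co 2 Q = 0) (hQ3 : D.co 3 Q = 0)
    (hR0 : D.co 0 R = 0) (hR3 : D.co 3 R = 0)
    (hS0 : D.co 0 S = 0) (hS2 : D.co 2 S = 0)
    (hT0 : D.co 0 T = 0) (hT1 : D.co 1 T = 0)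
    (hU0 : D.co 0 U = 0) (hU1 : D.co 1 U = 0) (hU2 : D.co 2 U = 0) : False := by
  obtain ⟨nA, nP, nQ⟩ := T0.ne_zero
  obtain ⟨-, nR, nS⟩ := T1.ne_zero
  obtain ⟨-, -, nT⟩ := T2.ne_zero
  obtain ⟨-, -, nU⟩ := T3.ne_zero
  have hl : [D.o, A, P, Q, R, S, T, U].Nodup := by
    simp only [List.nodup_cons, List.mem_cons, List.not_mem_nil, or_false, not_or,
      List.nodup_nil, and_true, not_false_eq_true]
    exact ⟨⟨T0.ao.symm, T0.bo.symm, T0.co'.symm, T1.bo.symm, T1.co'.symm, T2.co'.symm,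
      T3.co'.symm⟩, ⟨T0.ab, T0.ac, T1.ab, T1.ac, T2.ac, ne_of_co nA hU0⟩,
      ⟨T0.bc, ne_of_co nP hR0, ne_of_co nP hS0, ne_of_co nP hT0, ne_of_co nP hU0⟩,
      ⟨ne_of_co nQ hR0, ne_of_co nQ hS0, ne_of_co nQ hT0, ne_of_co nQ hU0⟩,
      ⟨T1.bc, ne_of_co nR hT1, ne_of_co nR hU1⟩, ⟨ne_of_co nS hT1, T3.ac⟩, T3.bc⟩
  obtain ⟨eA, eB⟩ := eqs_of_list _ hl fun χ hχ => zero_all T0 T1 T2 T3 (by
    simp only [List.mem_cons, List.not_mem_nil, or_false, not_or] at hχ ⊢; tauto)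
  obtain ⟨a1, b1, -⟩ := term_val (D := D) (X := 3) (Y := 0) T0.sa
    (show wx D A = D.co 0 A * 3 by rw [wx, hA1, hA2, hA3]; ring)
    (show wy D A = D.co 0 A * 0 by rw [wy, hA1, hA2, hA3]; ring)
  obtain ⟨a2, b2, -⟩ := term_val (D := D) (X := 1) (Y := 1) T0.sb
    (show wx D P = D.co 0 P * 1 by rw [wx, hP1, hP2, hP3]; ring)
    (show wy D P = D.co 0 P * 1 by rw [wy, hP1, hP2, hP3]; ring)
  obtain ⟨a3, b3, -⟩ := term_val (D := D) (X := 1) (Y := 1) T0.sc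
    (show wx D Q = D.co 0 Q * 1 by rw [wx, hQ1, hQ2, hQ3]; ring)
    (show wy D Q = D.co 0 Q * 1 by rw [wy, hQ1, hQ2, hQ3]; ring)
  obtain ⟨a4, b4, -⟩ := term_val (D := D) (X := 0) (Y := 3) T1.sb
    (show wx D R = D.co 1 R * 0 by rw [wx, hR0, hR2, hR3]; ring)
    (show wy D R = D.co 1 R * 3 by rw [wy, hR0, hR2, hR3]; ring)
  obtain ⟨a5, b5, -⟩ := term_val (D := D) (X := -1) (Y := 2) T1.sc
    (show wx D S = D.co 1 S * -1 by rw [wx, hS0, hS2, hS3]; ring)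
    (show wy D S = D.co 1 S * 2 by rw [wy, hS0, hS2, hS3]; ring)
  obtain ⟨a6, b6, -⟩ := term_val (D := D) (X := -1) (Y := -1) T2.sc
    (show wx D T = D.co 2 T * -1 by rw [wx, hT0, hT1, hT3]; ring)
    (show wy D T = D.co 2 T * -1 by rw [wy, hT0, hT1, hT3]; ring)
  obtain ⟨a7, b7, -⟩ := term_val (D := D) (X := -2) (Y := 1) T3.sc
    (show wx D U = D.co 3 U * -2 by rw [wx, hU0, hU1, hU2]; ring)
    (show wy D U = D.co 3 U * 1 by rw [wy, hU0, hU1, hU2]; ring)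
  simp only [List.map_cons, List.map_nil, List.sum_cons, List.sum_nil, termA_o, termB_o,
    a1, a2, a3, a4, a5, a6, a7, b1, b2, b3, b4, b5, b6, b7] at eA eB
  obtain ⟨n, hn, hn10⟩ := D.gdiv
  have d0 := T0.degree
  have d1 := T1.degree
  have d2 := T2.degree
  have d3 := T3.degree
  have p0 := T0.prod_neg (Or.inl rfl)
  have p1 := T1.prod_neg (Or.inr rfl)
  rw [hA1] at d1 p1
  rw [hA2, hR2] at d2
  rw [hS3, hT3] at d3
  push_cast at eA eB
  refine Pure.case_shared (A := D.co 0 A * D.deg A) (P := D.co 0 P * D.deg P)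
    (Q := D.co 0 Q * D.deg Q) (R := D.co 1 R * D.deg R) (S := D.co 1 S * D.deg S)
    (T := D.co 2 T * D.deg T) (U := D.co 3 U * D.deg U) (deg_signed_ne T0.ao T0.sa)
    (deg_signed_ne T0.bo T0.sb) (deg_signed_ne T0.co' T0.sc) (deg_signed_ne T1.co' T1.sc)
    (deg_signed_ne T3.co' T3.sc) d0 d1 (by linarith) d3 p0 p1 ?_ eA ?_ hn hn10
  · push_cast
    linarith [eA.trans eB.symm]
  · push_cast
    ring

/-- A pair with opposite signs. -/
theorem false_pair (T0 : Tri D 0 A P Q) (T1 : Tri D 1 A R S) (T2 : Tri D 2 P R S)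
    (T3 : Tri D 3 R U V) (hA1 : D.co 1 A = D.co 0 A) (hA2 : D.co 2 A = 0) (hA3 : D.co 3 A = 0)
    (hP2 : D.co 2 P = D.co 0 P) (hR2 : D.co 2 R = D.co 1 R) (hR3 : D.co 3 R = D.co 1 R)
    (hS2 : D.co 2 S = -D.co 1 S)
    (hP1 : D.co 1 P = 0) (hP3 : D.co 3 P = 0)
    (hQ1 : D.co 1 Q = 0) (hQ2 : D.co 2 Q = 0) (hQ3 : D.co 3 Q = 0)
    (hR0 : D.co 0 R = 0) (hS0 : D.co 0 S = 0) (hS3 : D.co 3 S = 0)
    (hU0 : D.co 0 U = 0) (hU1 : D.co 1 U = 0) (hU2 : D.co 2 U = 0)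
    (hV0 : D.co 0 V = 0) (hV1 : D.co 1 V = 0) (hV2 : D.co 2 V = 0) : False := by
  obtain ⟨nA, nP, nQ⟩ := T0.ne_zero
  obtain ⟨-, nR, nS⟩ := T1.ne_zero
  have hl : [D.o, A, P, Q, R, S, U, V].Nodup := by
    simp only [List.nodup_cons, List.mem_cons, List.not_mem_nil, or_false, not_or,
      List.nodup_nil, and_true, not_false_eq_true]
    exact ⟨⟨T0.ao.symm, T0.bo.symm, T0.co'.symm, T1.bo.symm, T1.co'.symm, T3.bo.symm,
      T3.co'.symm⟩, ⟨T0.ab, T0.ac, T1.ab, T1.ac, ne_of_co nA hU0, ne_of_co nA hV0⟩,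
      ⟨T0.bc, T2.ab, T2.ac, ne_of_co nP hU0, ne_of_co nP hV0⟩,
      ⟨ne_of_co nQ hR0, ne_of_co nQ hS0, ne_of_co nQ hU0, ne_of_co nQ hV0⟩,
      ⟨T1.bc, T3.ab, T3.ac⟩, ⟨ne_of_co nS hU1, ne_of_co nS hV1⟩, T3.bc⟩
  obtain ⟨eA, eB⟩ := eqs_of_list _ hl fun χ hχ => zero_all T0 T1 T2 T3 (by
    simp only [List.mem_cons, List.not_mem_nil, or_false, not_or] at hχ ⊢; tauto)
  obtain ⟨a1, b1, -⟩ := term_val (D := D) (X := 2) (Y := 2) T0.sa
    (show wx D A = D.co 0 A * 2 by rw [wx, hA1, hA2, hA3]; ring)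
    (show wy D A = D.co 0 A * 2 by rw [wy, hA1, hA2, hA3]; ring)
  obtain ⟨a2, b2, -⟩ := term_val (D := D) (X := 2) (Y := -1) T0.sb
    (show wx D P = D.co 0 P * 2 by rw [wx, hP1, hP2, hP3]; ring)
    (show wy D P = D.co 0 P * -1 by rw [wy, hP1, hP2, hP3]; ring)
  obtain ⟨a3, b3, -⟩ := term_val (D := D) (X := 1) (Y := 1) T0.sc
    (show wx D Q = D.co 0 Q * 1 by rw [wx, hQ1, hQ2, hQ3]; ring)
    (show wy D Q = D.co 0 Q * 1 by rw [wy, hQ1, hQ2, hQ3]; ring)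
  obtain ⟨a4, b4, -⟩ := term_val (D := D) (X := 0) (Y := 0) T1.sb
    (show wx D R = D.co 1 R * 0 by rw [wx, hR0, hR2, hR3]; ring)
    (show wy D R = D.co 1 R * 0 by rw [wy, hR0, hR2, hR3]; ring)
  obtain ⟨a5, b5, -⟩ := term_val (D := D) (X := 0) (Y := 3) T1.sc
    (show wx D S = D.co 1 S * 0 by rw [wx, hS0, hS2, hS3]; ring)
    (show wy D S = D.co 1 S * 3 by rw [wy, hS0, hS2, hS3]; ring)
  obtain ⟨a6, b6, -⟩ := term_val (D := D) (X := -2) (Y := 1) T3.sb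
    (show wx D U = D.co 3 U * -2 by rw [wx, hU0, hU1, hU2]; ring)
    (show wy D U = D.co 3 U * 1 by rw [wy, hU0, hU1, hU2]; ring)
  obtain ⟨a7, b7, -⟩ := term_val (D := D) (X := -2) (Y := 1) T3.sc
    (show wx D V = D.co 3 V * -2 by rw [wx, hV0, hV1, hV2]; ring)
    (show wy D V = D.co 3 V * 1 by rw [wy, hV0, hV1, hV2]; ring)
  simp only [List.map_cons, List.map_nil, List.sum_cons, List.sum_nil, termA_o, termB_o,
    a1, a2, a3, a4, a5, a6, a7, b1, b2, b3, b4, b5, b6, b7] at eA eB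
  have d0 := T0.degree
  have d1 := T1.degree
  have d2 := T2.degree
  have d3 := T3.degree
  have p0 := T0.prod_neg (Or.inl rfl)
  have p1 := T1.prod_neg (Or.inr rfl)
  have p2 := T2.prod_pos (Or.inl rfl)
  have p3 := T3.prod_pos (Or.inr rfl)
  rw [hA1] at d1 p1
  rw [hP2, hR2, hS2] at d2 p2
  rw [hR3] at d3 p3
  push_cast at eA eB
  refine Pure.case_pair (A := D.co 0 A * D.deg A) (P := D.co 0 P * D.deg P)
    (Q := D.co 0 Q * D.deg Q) (R := D.co 1 R * D.deg R) (S := D.co 1 S * D.deg S)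
    (U := D.co 3 U * D.deg U) (V := D.co 3 V * D.deg V) (deg_signed_ne T0.bo T0.sb)
    (deg_signed_ne T3.bo T3.sb) (deg_signed_ne T3.co' T3.sc) d0 d1 (by linarith) d3 p0
    p1 (by linarith) p3 ?_
  push_cast
  linarith [eA.trans eB.symm]

/-- The generic pattern. -/
theorem order_separate (T0 : Tri D 0 A P Q) (T1 : Tri D 1 A R S) (T2 : Tri D 2 P T U)
    (T3 : Tri D 3 R T V) (hA1 : D.co 1 A = D.co 0 A) (hA2 : D.co 2 A = 0) (hA3 : D.co 3 A = 0)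
    (hP2 : D.co 2 P = D.co 0 P) (hR3 : D.co 3 R = D.co 1 R) (hT3 : D.co 3 T = D.co 2 T)
    (hP1 : D.co 1 P = 0) (hP3 : D.co 3 P = 0)
    (hQ1 : D.co 1 Q = 0) (hQ2 : D.co 2 Q = 0) (hQ3 : D.co 3 Q = 0)
    (hR0 : D.co 0 R = 0) (hR2 : D.co 2 R = 0)
    (hS0 : D.co 0 S = 0) (hS2 : D.co 2 S = 0) (hS3 : D.co 3 S = 0)
    (hT0 : D.co 0 T = 0) (hT1 : D.co 1 T = 0)
    (hU0 : D.co 0 U = 0) (hU1 : D.co 1 U = 0) (hU3 : D.co 3 U = 0)
    (hV0 : D.co 0 V = 0) (hV1 : D.co 1 V = 0) (hV2 : D.co 2 V = 0) : D.g = 720 := by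
  obtain ⟨nA, nP, nQ⟩ := T0.ne_zero
  obtain ⟨-, nR, nS⟩ := T1.ne_zero
  obtain ⟨-, nT, nU⟩ := T2.ne_zero
  have hl : [D.o, A, P, Q, R, S, T, U, V].Nodup := by
    simp only [List.nodup_cons, List.mem_cons, List.not_mem_nil, or_false, not_or,
      List.nodup_nil, and_true, not_false_eq_true]
    exact ⟨⟨T0.ao.symm, T0.bo.symm, T0.co'.symm, T1.bo.symm, T1.co'.symm, T2.bo.symm,
      T2.co'.symm, T3.co'.symm⟩,
      ⟨T0.ab, T0.ac, T1.ab, T1.ac, ne_of_co nA hT0, ne_of_co nA hU0, ne_of_co nA hV0⟩,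
      ⟨T0.bc, ne_of_co nP hR0, ne_of_co nP hS0, T2.ab, T2.ac, ne_of_co nP hV0⟩,
      ⟨ne_of_co nQ hR0, ne_of_co nQ hS0, ne_of_co nQ hT0, ne_of_co nQ hU0, ne_of_co nQ hV0⟩,
      ⟨T1.bc, ne_of_co nR hT1, ne_of_co nR hU1, T3.ac⟩,
      ⟨ne_of_co nS hT1, ne_of_co nS hU1, ne_of_co nS hV1⟩,
      ⟨T2.bc, T3.bc⟩, ne_of_co nU hV2⟩
  obtain ⟨eA, eB⟩ := eqs_of_list _ hl fun χ hχ => zero_all T0 T1 T2 T3 (by
    simp only [List.mem_cons, List.not_mem_nil, or_false, not_or] at hχ ⊢; tauto)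
  obtain ⟨a1, b1, c1⟩ := term_val (D := D) (X := 2) (Y := 2) T0.sa
    (show wx D A = D.co 0 A * 2 by rw [wx, hA1, hA2, hA3]; ring)
    (show wy D A = D.co 0 A * 2 by rw [wy, hA1, hA2, hA3]; ring)
  obtain ⟨a2, b2, c2⟩ := term_val (D := D) (X := 2) (Y := -1) T0.sb
    (show wx D P = D.co 0 P * 2 by rw [wx, hP1, hP2, hP3]; ring)
    (show wy D P = D.co 0 P * -1 by rw [wy, hP1, hP2, hP3]; ring)
  obtain ⟨a3, b3, c3⟩ := term_val (D := D) (X := 1) (Y := 1) T0.sc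
    (show wx D Q = D.co 0 Q * 1 by rw [wx, hQ1, hQ2, hQ3]; ring)
    (show wy D Q = D.co 0 Q * 1 by rw [wy, hQ1, hQ2, hQ3]; ring)
  obtain ⟨a4, b4, c4⟩ := term_val (D := D) (X := -1) (Y := 2) T1.sb
    (show wx D R = D.co 1 R * -1 by rw [wx, hR0, hR2, hR3]; ring)
    (show wy D R = D.co 1 R * 2 by rw [wy, hR0, hR2, hR3]; ring)
  obtain ⟨a5, b5, -⟩ := term_val (D := D) (X := 1) (Y := 1) T1.sc
    (show wx D S = D.co 1 S * 1 by rw [wx, hS0, hS2, hS3]; ring)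
    (show wy D S = D.co 1 S * 1 by rw [wy, hS0, hS2, hS3]; ring)
  obtain ⟨a6, b6, c6⟩ := term_val (D := D) (X := -1) (Y := -1) T2.sb
    (show wx D T = D.co 2 T * -1 by rw [wx, hT0, hT1, hT3]; ring)
    (show wy D T = D.co 2 T * -1 by rw [wy, hT0, hT1, hT3]; ring)
  obtain ⟨a7, b7, c7⟩ := term_val (D := D) (X := 1) (Y := -2) T2.sc
    (show wx D U = D.co 2 U * 1 by rw [wx, hU0, hU1, hU3]; ring)
    (show wy D U = D.co 2 U * -2 by rw [wy, hU0, hU1, hU3]; ring)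
  obtain ⟨a8, b8, c8⟩ := term_val (D := D) (X := -2) (Y := 1) T3.sc
    (show wx D V = D.co 3 V * -2 by rw [wx, hV0, hV1, hV2]; ring)
    (show wy D V = D.co 3 V * 1 by rw [wy, hV0, hV1, hV2]; ring)
  obtain ⟨n, hn, hn10⟩ := D.gdiv
  have d0 := T0.degree
  have d1 := T1.degree
  have d2 := T2.degree
  have d3 := T3.degree
  have p0 := T0.prod_neg (Or.inl rfl)
  have p1 := T1.prod_neg (Or.inr rfl)
  have p2 := T2.prod_pos (Or.inl rfl)
  rw [hA1] at d1 p1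
  rw [hP2] at d2 p2
  rw [hR3, hT3] at d3
  have hsq := degsq_ge D _ hl
  simp only [List.map_cons, List.map_nil, List.sum_cons, List.sum_nil, D.deg_o,
    sq_signed T0.sa, sq_signed T0.sb, sq_signed T0.sc, sq_signed T1.sb, sq_signed T1.sc,
    sq_signed T2.sb, sq_signed T2.sc, sq_signed T3.sc] at hsq
  simp only [List.map_cons, List.map_nil, List.sum_cons, List.sum_nil, termA_o, termB_o,
    a1, a2, a3, a4, a5, a6, a7, a8, b1, b2, b3, b4, b5, b6, b7, b8] at eA eB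
  refine Pure.case_separate (A := D.co 0 A * D.deg A) (P := D.co 0 P * D.deg P)
    (Q := D.co 0 Q * D.deg Q) (R := D.co 1 R * D.deg R) (S := D.co 1 S * D.deg S)
    (T := D.co 2 T * D.deg T) (U := D.co 2 U * D.deg U) (V := D.co 3 V * D.deg V)
    (deg_signed_ne T0.co' T0.sc) (deg_signed_ne T2.bo T2.sb) (deg_signed_ne T0.bo T0.sb)
    (deg_signed_ne T1.bo T1.sb) (deg_signed_ne T2.co' T2.sc)
    (deg_signed_ne T3.co' T3.sc) d0 d1 d2 d3 p0 p1 p2 (by omega) (by omega) (by omega)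
    (by omega) (by omega) (by omega) (by omega) eA eB ?_ ?_ hn hn10 (by linarith)
  · push_cast; ring
  · push_cast; ring

theorem neg_zero_of {i j : Fin 4} {a : ι} (h : D.co i a = -D.co j a) (h0 : D.co j a = 0) :
    D.co i a = 0 := by rw [h, h0, neg_zero]

/-- The order is determined. -/
theorem order_data (D : Data ι) : D.g = 720 := by
  obtain ⟨x, y, z, T⟩ := exists_tri D 0
  obtain ⟨A, P, Q, T0, hA1, hP1, hQ1⟩ : ∃ A P Q, Tri D 0 A P Q ∧ D.co 1 A = D.co 0 A ∧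
      D.co 1 P = 0 ∧ D.co 1 Q = 0 := by
    rcases share_two D.i01 T with ⟨h1, h2, h3⟩ | ⟨h1, h2, h3⟩ | ⟨h1, h2, h3⟩
    · exact ⟨x, y, z, T, h1, h2, h3⟩
    · exact ⟨y, z, x, T.rotate, h2, h3, h1⟩
    · exact ⟨z, x, y, T.rotate.rotate, h3, h1, h2⟩
  clear x y z T
  have i10 : ∑ χ, D.co 1 χ * D.co 0 χ = 2 := by rw [swap_sum]; exact D.i01
  have i20 : ∑ χ, D.co 2 χ * D.co 0 χ = 2 := by rw [swap_sum]; exact D.i02
  have i21 : ∑ χ, D.co 2 χ * D.co 1 χ = 1 := by rw [swap_sum]; exact D.i12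
  have i31 : ∑ χ, D.co 3 χ * D.co 1 χ = 2 := by rw [swap_sum]; exact D.i13
  obtain ⟨R, S, T1⟩ := exists_tri_at D 1 T0.ao (by rw [hA1]; exact T0.ne_zero.1)
  obtain ⟨-, hR0, hS0⟩ : D.co 0 A = D.co 1 A ∧ D.co 0 R = 0 ∧ D.co 0 S = 0 := by
    rcases share_two i10 T1 with h | ⟨h1, -, -⟩ | ⟨h1, -, -⟩
    · exact h
    · exact absurd h1 T0.ne_zero.1
    · exact absurd h1 T0.ne_zero.1
  have sA := T0.sa
  -- generic facts about the third function
  rcases share_two D.i02 T0 with ⟨hA2, hP2, hQ2⟩ | h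
  · -- the third function contains `A`
    have e12 := share_one D.i12 T1
    rw [hA1, hA2] at e12
    have hRS : (D.co 2 R = -D.co 1 R ∧ D.co 2 S = 0) ∨ (D.co 2 S = -D.co 1 S ∧ D.co 2 R = 0) := by
      rcases sA with a | a <;> rcases T1.sb with b | b <;> rcases T1.sc with c | c <;>
        rcases co_range D 2 R with r | r | r <;> rcases co_range D 2 S with s | s | s <;>
        simp [a, b, c, r, s] at e12 ⊢
    obtain ⟨R, S, T1, hR0, hS0, hR2, hS2⟩ : ∃ R S, Tri D 1 A R S ∧ D.co 0 R = 0 ∧ D.co 0 S = 0 ∧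
        D.co 2 R = -D.co 1 R ∧ D.co 2 S = 0 := by
      rcases hRS with ⟨h1, h2⟩ | ⟨h1, h2⟩
      · exact ⟨R, S, T1, hR0, hS0, h1, h2⟩
      · exact ⟨S, R, T1.swap23, hS0, hR0, h1, h2⟩
    clear hRS e12
    obtain ⟨T, T2⟩ := exists_tri_at2 D 2 T0.ao T1.bo T1.ab (by rw [hA2]; exact T0.ne_zero.1)
      (by rw [hR2]; exact neg_ne_zero.mpr T1.ne_zero.2.1)
    have hT0 : D.co 0 T = 0 := by
      rcases share_two i20 T2 with ⟨-, -, h⟩ | ⟨h, -, -⟩ | ⟨h, -, -⟩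
      · exact h
      · exact absurd h T0.ne_zero.1
      · exact absurd h T0.ne_zero.1
    have hT1 : D.co 1 T = 0 := by
      have := share_one i21 T2
      rw [hA2, hA1, hR2] at this
      rcases co_range D 1 T with h | h | h
      · exact h
      all_goals
        exfalso
        rcases sA with a | a <;> rcases T1.sb with b | b <;> rcases T2.sc with c | c <;>
          simp [a, b, c, h] at this
    rcases share_two D.i13 T1 with ⟨hA3, hR3, hS3⟩ | ⟨hA3, hR3, -⟩ | ⟨hA3, hR3, hS3⟩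
    · -- common to all four
      rw [hA1] at hA3
      have e03 := share_one D.i03 T0
      rw [hA3] at e03
      have hPQ : (D.co 3 P = -D.co 0 P ∧ D.co 3 Q = 0) ∨
          (D.co 3 Q = -D.co 0 Q ∧ D.co 3 P = 0) := by
        rcases sA with a | a <;> rcases T0.sb with b | b <;> rcases T0.sc with c | c <;>
          rcases co_range D 3 P with r | r | r <;> rcases co_range D 3 Q with s | s | s <;>
          simp [a, b, c, r, s] at e03 ⊢
      obtain ⟨P, Q, T0', hP1, hQ1, hP2, hQ2, hP3, hQ3⟩ : ∃ P Q, Tri D 0 A P Q ∧ D.co 1 P = 0 ∧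
          D.co 1 Q = 0 ∧ D.co 2 P = 0 ∧ D.co 2 Q = 0 ∧ D.co 3 P = -D.co 0 P ∧ D.co 3 Q = 0 := by
        rcases hPQ with ⟨h1, h2⟩ | ⟨h1, h2⟩
        · exact ⟨P, Q, T0, hP1, hQ1, hP2, hQ2, h1, h2⟩
        · exact ⟨Q, P, T0.swap23, hQ1, hP1, hQ2, hP2, h1, h2⟩
      obtain ⟨U, T3⟩ := exists_tri_at2 D 3 T0'.ao T0'.bo T0'.ab
        (by rw [hA3]; exact T0'.ne_zero.1) (by rw [hP3]; exact neg_ne_zero.mpr T0'.ne_zero.2.1)
      have hU1 : D.co 1 U = 0 := by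
        rcases share_two i31 T3 with ⟨-, -, h⟩ | ⟨h, -, -⟩ | ⟨h, -, -⟩
        · exact h
        · exact absurd (hA1 ▸ h) T0'.ne_zero.1
        · exact absurd (hA1 ▸ h) T0'.ne_zero.1
      have hU0 : D.co 0 U = 0 := by
        by_contra h
        exact h (T0'.zero U T3.co' T3.ac.symm T3.bc.symm fun e => T3.ne_zero.2.2 (e ▸ hQ3))
      obtain ⟨hT3, hU2⟩ : D.co 3 T = 0 ∧ D.co 2 U = 0 := by
        have hT : D.co 3 T = 0 := by
          rcases share_two D.i23 T2 with ⟨-, -, h⟩ | ⟨h, -, -⟩ | ⟨h, -, -⟩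
          · exact h
          · exact absurd (hA3 ▸ h) T0'.ne_zero.1
          · exact absurd (hA3 ▸ h) T0'.ne_zero.1
        refine ⟨hT, ?_⟩
        by_contra h
        exact h (T2.zero U T3.co' T3.ac.symm (fun e => T3.ne_zero.2.2 (e ▸ hR3))
          (fun e => T3.ne_zero.2.2 (e ▸ hT)))
      exact False.elim <| false_common T0' T1 T2 T3 hA1 hA2 hA3 hR2 hP3 hP1 hP2 hQ1 hQ2 hQ3 hR0 hR3 hS0 hS2
        hS3 hT0 hT1 hT3 hU0 hU1 hU2
    · -- opposite signs on `R`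
      exfalso
      have hAR : D.co 3 R = -D.co 2 R := by rw [hR3, hR2, neg_neg]
      rcases share_two D.i23 T2 with ⟨h, -, -⟩ | ⟨-, h, -⟩ | ⟨-, h, -⟩
      · rw [hA3, hA2] at h; exact T0.ne_zero.1 h.symm
      · rw [hR3, hR2] at h; have := T1.ne_zero.2.1; omega
      · rw [hR3] at h; exact T1.ne_zero.2.1 h
    · -- the fourth function shares `S` and `T`
      have hT3 : D.co 3 T = D.co 2 T := by
        rcases share_two D.i23 T2 with ⟨h, -, -⟩ | ⟨-, h, -⟩ | ⟨-, -, h⟩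
        · rw [hA3, hA2] at h; exact absurd h.symm T0.ne_zero.1
        · rw [hR3, hR2] at h; exact absurd (neg_eq_zero.mp h.symm) T1.ne_zero.2.1
        · exact h
      obtain ⟨U, T3⟩ := exists_tri_at2 D 3 T1.co' T2.co' (ne_of_co T1.ne_zero.2.2 hT1)
        (by rw [hS3]; exact T1.ne_zero.2.2) (by rw [hT3]; exact T2.ne_zero.2.2)
      have hPQ3 : D.co 3 P = 0 ∧ D.co 3 Q = 0 := by
        have e03 := share_one D.i03 T0
        rw [hA3] at e03
        by_contra hcon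
        have hne : D.co 3 P ≠ 0 ∧ D.co 3 Q ≠ 0 := by
          rcases T0.sb with b | b <;> rcases T0.sc with c | c <;>
            rcases co_range D 3 P with r | r | r <;> rcases co_range D 3 Q with s | s | s <;>
            simp [b, c, r, s] at e03 hcon ⊢
        have hPU : P = U := by
          by_contra h
          exact hne.1 (T3.zero P T0.bo (ne_of_co T0.ne_zero.2.1 hS0)
            (ne_of_co T0.ne_zero.2.1 hT0) h)
        have hQU : Q = U := by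
          by_contra h
          exact hne.2 (T3.zero Q T0.co' (ne_of_co T0.ne_zero.2.2 hS0)
            (ne_of_co T0.ne_zero.2.2 hT0) h)
        exact T0.bc (hPU.trans hQU.symm)
      have nU := T3.ne_zero.2.2
      have hU0 : D.co 0 U = 0 := T0.zero U T3.co' (fun e => nU (e ▸ hA3))
        (fun e => nU (e ▸ hPQ3.1)) (fun e => nU (e ▸ hPQ3.2))
      have hU1 : D.co 1 U = 0 := T1.zero U T3.co' (fun e => nU (e ▸ hA3))
        (fun e => nU (e ▸ hR3)) T3.ac.symm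
      have hU2 : D.co 2 U = 0 := T2.zero U T3.co' (fun e => nU (e ▸ hA3))
        (fun e => nU (e ▸ hR3)) T3.bc.symm
      exact False.elim <| false_shared T0 T1 T2 T3 hA1 hA2 hA3 hR2 hS3 hT3 hP1 hP2 hPQ3.1 hQ1 hQ2 hPQ3.2 hR0
        hR3 hS0 hS2 hT0 hT1 hU0 hU1 hU2
  · -- the third function avoids `A`
    obtain ⟨P, Q, T0, hP1, hQ1, hA2, hP2, hQ2⟩ : ∃ P Q, Tri D 0 A P Q ∧ D.co 1 P = 0 ∧
        D.co 1 Q = 0 ∧ D.co 2 A = 0 ∧ D.co 2 P = D.co 0 P ∧ D.co 2 Q = 0 := by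
      rcases h with ⟨h1, h2, h3⟩ | ⟨h1, h2, h3⟩
      · exact ⟨P, Q, T0, hP1, hQ1, h1, h2, h3⟩
      · exact ⟨Q, P, T0.swap23, hQ1, hP1, h1, h3, h2⟩
    clear h
    have e12 := share_one D.i12 T1
    rw [hA2] at e12
    have hRS : (D.co 2 R = 0 ∧ D.co 2 S = 0) ∨ (D.co 2 R = D.co 1 R ∧ D.co 2 S = -D.co 1 S) ∨
        (D.co 2 S = D.co 1 S ∧ D.co 2 R = -D.co 1 R) := by
      rcases T1.sb with b | b <;> rcases T1.sc with c | c <;>
        rcases co_range D 2 R with r | r | r <;> rcases co_range D 2 S with s | s | s <;>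
        simp [b, c, r, s] at e12 ⊢
    rcases hRS with ⟨hR2, hS2⟩ | hpair
    · -- the third function is `P, T, U`
      obtain ⟨T, U, T2⟩ := exists_tri_at D 2 T0.bo (by rw [hP2]; exact T0.ne_zero.2.1)
      have out : ∀ X, X ≠ D.o → X ≠ P → D.co 2 X ≠ 0 → D.co 0 X = 0 ∧ D.co 1 X = 0 :=
        fun X h1 h2 h3 => ⟨T0.zero X h1 (fun e => h3 (e ▸ hA2)) h2 (fun e => h3 (e ▸ hQ2)),
          T1.zero X h1 (fun e => h3 (e ▸ hA2)) (fun e => h3 (e ▸ hR2)) (fun e => h3 (e ▸ hS2))⟩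
      rcases share_two D.i13 T1 with ⟨hA3, hR3, hS3⟩ | h3
      · -- mirror image of the shared case
        rw [hA1] at hA3
        have e03 := share_one D.i03 T0
        rw [hA3] at e03
        obtain ⟨hP3, hQ3⟩ : D.co 3 P = 0 ∧ D.co 3 Q = -D.co 0 Q := by
          have hnp : D.co 3 P ≠ -D.co 0 P := by
            intro hc
            have hnn := T0.ne_zero.2.1
            rcases share_two D.i23 T2 with ⟨h, -, -⟩ | ⟨h, -, -⟩ | ⟨h, -, -⟩
            · rw [hc, hP2] at h; omega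
            · rw [hc] at h; omega
            · rw [hc] at h; omega
          rcases sA with a | a <;> rcases T0.sb with b | b <;> rcases T0.sc with c | c <;>
            rcases co_range D 3 P with r | r | r <;> rcases co_range D 3 Q with s | s | s <;>
            simp [a, b, c, r, s] at e03 hnp ⊢
        obtain ⟨T, U, T2, hT3, hU3⟩ : ∃ T U, Tri D 2 P T U ∧ D.co 3 T = D.co 2 T ∧
            D.co 3 U = 0 := by
          rcases share_two D.i23 T2 with ⟨h, -, -⟩ | ⟨-, h1, h2⟩ | ⟨-, h1, h2⟩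
          · rw [hP3, hP2] at h; exact absurd h.symm T0.ne_zero.2.1
          · exact ⟨T, U, T2, h1, h2⟩
          · exact ⟨U, T, T2.swap23, h2, h1⟩
        obtain ⟨hT0, hT1⟩ := out T T2.bo T2.ab.symm T2.ne_zero.2.1
        obtain ⟨hU0, hU1⟩ := out U T2.co' T2.ac.symm T2.ne_zero.2.2
        have hQT : Q ≠ T := ne_of_co T0.ne_zero.2.2 hT0
        obtain ⟨x, T3⟩ := exists_tri_at2 D 3 T0.ao T0.co' T0.ac (by rw [hA3]; exact T0.ne_zero.1)
          (by rw [hQ3]; exact neg_ne_zero.mpr T0.ne_zero.2.2)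
        have hxT : x = T := by
          by_contra h
          refine (by rw [hT3]; exact T2.ne_zero.2.1 : D.co 3 T ≠ 0)
            (T3.zero T T2.bo (fun e => T2.ne_zero.2.1 (e ▸ hA2)) hQT.symm (Ne.symm h))
        subst x
        exact False.elim <| false_shared (D := D.swap) (A := A) (P := R) (Q := S) (R := Q) (S := P) (T := T)
          (U := U)
          ⟨T1.ab, T1.ac, T1.bc, T1.ao, T1.bo, T1.co', T1.sa, T1.sb, T1.sc, T1.zero⟩
          ⟨T0.ac, T0.ab, T0.bc.symm, T0.ao, T0.co', T0.bo, T0.sa, T0.sc, T0.sb,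
            fun χ a b c d => T0.zero χ a b d c⟩
          ⟨T3.ab, T3.ac, T3.bc, T3.ao, T3.bo, T3.co', T3.sa, T3.sb, T3.sc, T3.zero⟩
          ⟨T2.ab, T2.ac, T2.bc, T2.ao, T2.bo, T2.co', T2.sa, T2.sb, T2.sc, T2.zero⟩
          hA1.symm (hA3.trans hA1.symm) hA2 hQ3 hP2 hT3.symm hR0 hR3 hR2 hS0 hS3 hS2 hQ1 hQ2
          hP1 hP3 hT1 hT0 hU1 hU0 hU3
      · obtain ⟨R, S, T1, hR0, hS0, hR2, hS2, hA3, hR3, hS3⟩ : ∃ R S, Tri D 1 A R S ∧
            D.co 0 R = 0 ∧ D.co 0 S = 0 ∧ D.co 2 R = 0 ∧ D.co 2 S = 0 ∧ D.co 3 A = 0 ∧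
            D.co 3 R = D.co 1 R ∧ D.co 3 S = 0 := by
          rcases h3 with ⟨h1, h2, h3⟩ | ⟨h1, h2, h3⟩
          · exact ⟨R, S, T1, hR0, hS0, hR2, hS2, h1, h2, h3⟩
          · exact ⟨S, R, T1.swap23, hS0, hR0, hS2, hR2, h1, h3, h2⟩
        have e03 := share_one D.i03 T0
        rw [hA3] at e03
        by_cases hP3 : D.co 3 P = 0
        · have hQ3 : D.co 3 Q = 0 := by
            rw [hP3] at e03
            rcases T0.sc with c | c <;> rw [c] at e03 <;> omega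
          obtain ⟨T, U, T2, hT3, hU3⟩ : ∃ T U, Tri D 2 P T U ∧ D.co 3 T = D.co 2 T ∧
              D.co 3 U = 0 := by
            rcases share_two D.i23 T2 with ⟨h, -, -⟩ | ⟨-, h1, h2⟩ | ⟨-, h1, h2⟩
            · rw [hP3, hP2] at h; exact absurd h.symm T0.ne_zero.2.1
            · exact ⟨T, U, T2, h1, h2⟩
            · exact ⟨U, T, T2.swap23, h2, h1⟩
          obtain ⟨hT0, hT1⟩ := out T T2.bo T2.ab.symm T2.ne_zero.2.1
          obtain ⟨hU0, hU1⟩ := out U T2.co' T2.ac.symm T2.ne_zero.2.2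
          obtain ⟨V, T3⟩ := exists_tri_at2 D 3 T1.bo T2.bo (ne_of_co T1.ne_zero.2.1 hT1)
            (by rw [hR3]; exact T1.ne_zero.2.1) (by rw [hT3]; exact T2.ne_zero.2.1)
          have nV := T3.ne_zero.2.2
          have hV0 : D.co 0 V = 0 := T0.zero V T3.co' (fun e => nV (e ▸ hA3))
            (fun e => nV (e ▸ hP3)) (fun e => nV (e ▸ hQ3))
          have hV1 : D.co 1 V = 0 := T1.zero V T3.co' (fun e => nV (e ▸ hA3)) T3.ac.symm
            (fun e => nV (e ▸ hS3))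
          have hV2 : D.co 2 V = 0 := T2.zero V T3.co' (fun e => nV (e ▸ hP3)) T3.bc.symm
            (fun e => nV (e ▸ hU3))
          exact order_separate T0 T1 T2 T3 hA1 hA2 hA3 hP2 hR3 hT3 hP1 hP3 hQ1 hQ2 hQ3 hR0 hR2
            hS0 hS2 hS3 hT0 hT1 hU0 hU1 hU3 hV0 hV1 hV2
        · -- mirror image of the pair case
          obtain ⟨hP3', hT3, hU3⟩ : D.co 3 P = D.co 2 P ∧ D.co 3 T = 0 ∧ D.co 3 U = 0 := by
            rcases share_two D.i23 T2 with h | ⟨h, -, -⟩ | ⟨h, -, -⟩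
            · exact h
            · exact absurd h hP3
            · exact absurd h hP3
          obtain ⟨hT0, hT1⟩ := out T T2.bo T2.ab.symm T2.ne_zero.2.1
          obtain ⟨hU0, hU1⟩ := out U T2.co' T2.ac.symm T2.ne_zero.2.2
          rw [hP2] at hP3'
          have hQ3 : D.co 3 Q = -D.co 0 Q := by
            rw [hP3'] at e03
            rcases T0.sb with b | b <;> rcases T0.sc with c | c <;>
              rcases co_range D 3 Q with s | s | s <;> simp [b, c, s] at e03 ⊢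
          obtain ⟨x, T3⟩ := exists_tri_at2 D 3 T1.bo T0.bo
            (ne_of_co T0.ne_zero.2.1 hR0).symm (by rw [hR3]; exact T1.ne_zero.2.1)
            (by rw [hP3']; exact T0.ne_zero.2.1)
          have hxQ : x = Q := by
            by_contra h
            exact (by rw [hQ3]; exact neg_ne_zero.mpr T0.ne_zero.2.2 : D.co 3 Q ≠ 0)
              (T3.zero Q T0.co' (ne_of_co T0.ne_zero.2.2 hR0) T0.bc.symm (Ne.symm h))
          subst x
          exact False.elim <| false_pair (D := D.swap) (A := A) (P := R) (Q := S) (R := P) (S := Q) (U := T)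
            (V := U)
            ⟨T1.ab, T1.ac, T1.bc, T1.ao, T1.bo, T1.co', T1.sa, T1.sb, T1.sc, T1.zero⟩
            ⟨T0.ab, T0.ac, T0.bc, T0.ao, T0.bo, T0.co', T0.sa, T0.sb, T0.sc, T0.zero⟩
            ⟨T3.ab, T3.ac, T3.bc, T3.ao, T3.bo, T3.co', T3.sa, T3.sb, T3.sc, T3.zero⟩
            ⟨T2.ab, T2.ac, T2.bc, T2.ao, T2.bo, T2.co', T2.sa, T2.sb, T2.sc, T2.zero⟩
            hA1.symm hA3 hA2 hR3 hP3' hP2 hQ3 hR0 hR2 hS0 hS3 hS2 hP1 hQ1 hQ2 hT1 hT0 hT3 hU1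
            hU0 hU3
    · -- the third function is `P, R, S` with `R` matching
      obtain ⟨R, S, T1, hR0, hS0, hR2, hS2⟩ : ∃ R S, Tri D 1 A R S ∧ D.co 0 R = 0 ∧
          D.co 0 S = 0 ∧ D.co 2 R = D.co 1 R ∧ D.co 2 S = -D.co 1 S := by
        rcases hpair with ⟨h1, h2⟩ | ⟨h1, h2⟩
        · exact ⟨R, S, T1, hR0, hS0, h1, h2⟩
        · exact ⟨S, R, T1.swap23, hS0, hR0, h1, h2⟩
      obtain ⟨x, T2⟩ := exists_tri_at2 D 2 T0.bo T1.bo (ne_of_co T0.ne_zero.2.1 hR0)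
        (by rw [hP2]; exact T0.ne_zero.2.1) (by rw [hR2]; exact T1.ne_zero.2.1)
      have hxS : x = S := by
        by_contra h
        exact (by rw [hS2]; exact neg_ne_zero.mpr T1.ne_zero.2.2 : D.co 2 S ≠ 0)
          (T2.zero S T1.co' (ne_of_co T0.ne_zero.2.1 hS0).symm T1.bc.symm (Ne.symm h))
      subst x
      rcases share_two D.i13 T1 with ⟨hA3, hR3, hS3⟩ | ⟨hA3, hR3, hS3⟩ | ⟨hA3, hR3, hS3⟩
      · exfalso
        rw [hA1] at hA3
        have e03 := share_one D.i03 T0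
        have hP3 : D.co 3 P = D.co 2 P := by
          rcases share_two D.i23 T2 with ⟨h, -, -⟩ | ⟨-, h, -⟩ | ⟨-, -, h⟩
          · exact h
          · rw [hR3, hR2] at h; exact absurd h.symm T1.ne_zero.2.1
          · rw [hS3, hS2] at h; exact absurd (neg_eq_zero.mp h.symm) T1.ne_zero.2.2
        rw [hA3, hP3, hP2] at e03
        rcases sA with a | a <;> rcases T0.sb with b | b <;> rcases T0.sc with c | c <;>
          rcases co_range D 3 Q with s | s | s <;> simp [a, b, c, s] at e03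
      · obtain ⟨hP3, hR32⟩ : D.co 3 P = 0 ∧ D.co 3 R = D.co 2 R := by
          rcases share_two D.i23 T2 with ⟨-, h, -⟩ | ⟨h, h', -⟩ | ⟨-, h, -⟩
          · rw [hR3] at h; exact absurd h T1.ne_zero.2.1
          · exact ⟨h, h'⟩
          · rw [hR3] at h; exact absurd h T1.ne_zero.2.1
        have hQ3 : D.co 3 Q = 0 := by
          have e03 := share_one D.i03 T0
          rw [hA3, hP3] at e03
          rcases T0.sc with c | c <;> rw [c] at e03 <;> omega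
        obtain ⟨U, V, T3⟩ := exists_tri_at D 3 T1.bo (by rw [hR3]; exact T1.ne_zero.2.1)
        have out : ∀ X, X ≠ D.o → X ≠ R → D.co 3 X ≠ 0 →
            D.co 0 X = 0 ∧ D.co 1 X = 0 ∧ D.co 2 X = 0 := fun X h1 h2 h3 =>
          ⟨T0.zero X h1 (fun e => h3 (e ▸ hA3)) (fun e => h3 (e ▸ hP3)) (fun e => h3 (e ▸ hQ3)),
            T1.zero X h1 (fun e => h3 (e ▸ hA3)) h2 (fun e => h3 (e ▸ hS3)),
            T2.zero X h1 (fun e => h3 (e ▸ hP3)) h2 (fun e => h3 (e ▸ hS3))⟩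
        obtain ⟨hU0, hU1, hU2⟩ := out U T3.bo T3.ab.symm T3.ne_zero.2.1
        obtain ⟨hV0, hV1, hV2⟩ := out V T3.co' T3.ac.symm T3.ne_zero.2.2
        exact False.elim <| false_pair T0 T1 T2 T3 hA1 hA2 hA3 hP2 hR2 hR3 hS2 hP1 hP3 hQ1 hQ2 hQ3 hR0 hS0
          hS3 hU0 hU1 hU2 hV0 hV1 hV2
      · exfalso
        rcases share_two D.i23 T2 with ⟨-, -, h⟩ | ⟨-, -, h⟩ | ⟨-, -, h⟩
        · rw [hS3] at h; exact T1.ne_zero.2.2 h
        · rw [hS3] at h; exact T1.ne_zero.2.2 h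
        · rw [hS3, hS2] at h; have := T1.ne_zero.2.2; omega

end Cfsg.Agent.Lib.ThreeNine.Cases
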