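import Cfsg.Agent.Lib.ThreeNine.Model
import Cfsg.Agent.Lib.H80.ClassMult

/-!
# The induced class functions and the involution pair sums
-/

set_option autoImplicit false

namespace Cfsg.Agent.Lib.ThreeNine.Chars

open Model Cfsg.Agent.Lib.Induced.Basic Cfsg.Agent.Lib.Induced.Generalized
  Cfsg.Agent.Lib.Characters.Basic
open scoped ComplexConjugate Classical

universe u

variable {G : Type u} [Group G]

/-- The support of the model is a trivial intersection set with normaliser the model. -/
def IsTI (e : W →* G) : Prop :=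
  Function.Injective e ∧
    ∀ (w w' : W) (g : G), supp w → supp w' → g * e w * g⁻¹ = e w' → g ∈ e.range

variable {e : W →* G}

/-- The class function on the image. -/
noncomputable def psi (he : IsTI e) (i : Fin 4) : e.range → ℂ :=
  fun x => (fn i ((MonoidHom.ofInjective he.1).symm x) : ℂ)

theorem psi_apply (he : IsTI e) (i : Fin 4) (w : W) (h : e w ∈ e.range) :
    psi he i ⟨e w, h⟩ = (fn i w : ℂ) := by
  have : (⟨e w, h⟩ : e.range) = MonoidHom.ofInjective he.1 w := Subtype.ext rfl
  rw [psi, this, MulEquiv.symm_apply_apply]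

theorem psi_eq (he : IsTI e) (i : Fin 4) {y : G} (h : y ∈ e.range) {w : W} (hw : e w = y) :
    psi he i ⟨y, h⟩ = (fn i w : ℂ) := by
  subst hw
  exact psi_apply he i w h

theorem isGen_psi (he : IsTI e) (i : Fin 4) :
    Cfsg.IsGeneralizedCharacter e.range (psi he i) :=
  isGen_comp (MonoidHom.ofInjective he.1).symm.toMonoidHom (isGen_fn i)

variable [Fintype G]

/-- The induced function. -/
noncomputable def F (he : IsTI e) (i : Fin 4) : G → ℂ := Cfsg.indFun e.range (psi he i)

theorem isGen_F (he : IsTI e) (i : Fin 4) : Cfsg.IsGeneralizedCharacter G (F he i) :=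
  Induced.Character.isGeneralizedCharacter_indFun _ (isGen_psi he i)

theorem card_range (he : IsTI e) : (Nat.card e.range : ℂ) = 72 := by
  rw [← Nat.card_congr (MonoidHom.ofInjective he.1).toEquiv, Nat.card_eq_fintype_card,
    show Fintype.card W = 72 by decide +kernel]
  norm_num

theorem sum_range (he : IsTI e) [Fintype e.range] (h : e.range → ℂ) :
    ∑ x : e.range, h x = ∑ w : W, h ⟨e w, ⟨w, rfl⟩⟩ :=
  (Fintype.sum_equiv (MonoidHom.ofInjective he.1).toEquiv _ _ fun _ => rfl).symm

/-- The value outside the conjugates of the support. -/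
theorem F_eq_zero (he : IsTI e) (i : Fin 4) {x : G}
    (hx : ∀ (g : G) (w : W), supp w → g⁻¹ * x * g ≠ e w) : F he i x = 0 := by
  rw [F, indFun_apply, Finset.sum_eq_zero, mul_zero]
  intro g _
  by_cases hg : g⁻¹ * x * g ∈ e.range
  · rw [dif_pos hg]
    obtain ⟨w, hw⟩ := id hg
    rw [psi_eq he i hg hw, fn_eq_zero i w (fun hs => hx g w hs hw.symm), Int.cast_zero]
  · rw [dif_neg hg]

theorem F_one (he : IsTI e) (i : Fin 4) : F he i 1 = 0 := by
  refine F_eq_zero he i fun g w hw h => ?_
  rw [mul_one, inv_mul_cancel] at h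
  exact hw.1 (by rw [he.1 (h.symm.trans (map_one e).symm), mul_one])

theorem F_sq (he : IsTI e) (i : Fin 4) {x : G} (hx : x * x = 1) : F he i x = 0 := by
  refine F_eq_zero he i fun g w hw h => hw.1 (he.1 ?_)
  rw [map_mul, ← h, map_one]
  calc g⁻¹ * x * g * (g⁻¹ * x * g) = g⁻¹ * (x * x) * g := by group
    _ = 1 := by rw [hx]; group

theorem F_supp (he : IsTI e) (i : Fin 4) {w : W} (hw : supp w) :
    F he i (e w) = (fn i w : ℂ) := by
  have key : ∀ g : G, (if hg : g⁻¹ * e w * g ∈ e.range then psi he i ⟨_, hg⟩ else 0) =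
      if g ∈ e.range then (fn i w : ℂ) else 0 := by
    intro g
    by_cases hg : g ∈ e.range
    · obtain ⟨c, rfl⟩ := hg
      have h1 : (e c)⁻¹ * e w * e c = e (c⁻¹ * w * c) := by rw [map_mul, map_mul, map_inv]
      rw [dif_pos (MonoidHom.mem_range.mpr ⟨_, h1.symm⟩), if_pos (MonoidHom.mem_range.mpr ⟨c, rfl⟩)]
      rw [psi_eq he i _ h1.symm]
      exact isClassFunction_of_isGen (isGen_fn i) w c⁻¹ |> fun h => by
        simpa using h
    · rw [if_neg hg]
      by_cases hg' : g⁻¹ * e w * g ∈ e.range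
      · rw [dif_pos hg']
        obtain ⟨w', hw'⟩ := id hg'
        rw [psi_eq he i hg' hw', fn_eq_zero i w' fun hs => hg ?_, Int.cast_zero]
        exact inv_mem_iff.mp (he.2 w w' g⁻¹ hw hs (by rw [inv_inv]; exact hw'.symm))
      · rw [dif_neg hg']
  rw [F, indFun_apply]
  simp only [key]
  rw [← Finset.sum_filter, Finset.sum_const, nsmul_eq_mul, ← Fintype.card_subtype,
    ← Nat.card_eq_fintype_card, ← mul_assoc]
  erw [inv_mul_cancel₀ (subgroup_card_ne_zero e.range)]
  rw [one_mul]

/-- The product with a class function. -/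
theorem inner_F (he : IsTI e) (i : Fin 4) {χ : G → ℂ} (hχ : Cfsg.IsClassFunction G χ) :
    Cfsg.classInner (F he i) χ =
      (72 : ℂ)⁻¹ * ∑ w : W, (fn i w : ℂ) * conj (χ (e w)) := by
  rw [F, frobenius_reciprocity _ (psi he i) hχ, Cfsg.classInner, card_range he]
  refine congrArg _ ((sum_range he _).trans ?_)
  exact Finset.sum_congr rfl fun w _ =>
    congrArg (· * conj (χ (e w))) (psi_apply he i w _)

theorem inner_FF (he : IsTI e) (i j : Fin 4) :
    Cfsg.classInner (F he i) (F he j) = (gram i j : ℂ) := by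
  show Cfsg.classInner (F he i) (Cfsg.indFun e.range (psi he j)) = _
  rw [inner_F he i (isClassFunction_indFun _ _), ← F]
  have h : ∀ w : W, (fn i w : ℂ) * conj (F he j (e w)) = ((fn i w * fn j w : ℤ) : ℂ) := by
    intro w
    by_cases hw : supp w
    · rw [F_supp he j hw, Int.cast_mul, map_intCast]
    · rw [fn_eq_zero i w hw]; simp
  simp only [h]
  rw [← Int.cast_sum, fn_inner]
  push_cast
  ring

theorem inner_F_one (he : IsTI e) (i : Fin 4) :
    Cfsg.classInner (F he i) (oneChar G : G → ℂ) = 1 := by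
  rw [inner_F he i (isClassFunction_irr _)]
  simp only [oneChar_apply, map_one, mul_one]
  rw [← Int.cast_sum, fn_sum]
  norm_num

theorem card_fibre (j : G) (h : G → ℂ) :
    ∑ g : G, h (g⁻¹ * j * g) =
      (Nat.card (Subgroup.centralizer ({j} : Set G)) : ℂ) *
        ∑ s : G, if IsConj j s then h s else 0 := by
  rw [← Finset.sum_fiberwise Finset.univ (fun g : G => g⁻¹ * j * g) (fun g => h (g⁻¹ * j * g)),
    Finset.mul_sum]
  refine Finset.sum_congr rfl fun s _ => ?_
  rw [Finset.sum_congr rfl (g := fun _ => h s) (fun g hg => by rw [(Finset.mem_filter.mp hg).2]),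
    Finset.sum_const, nsmul_eq_mul]
  by_cases hs : IsConj j s
  · rw [if_pos hs]
    congr 1
    obtain ⟨c, hc⟩ := isConj_iff.mp hs
    rw [← Fintype.card_subtype, ← Nat.card_eq_fintype_card]
    norm_cast
    refine Nat.card_congr
      { toFun := fun g => ⟨(g : G) * c, ?_⟩
        invFun := fun z => ⟨(z : G) * c⁻¹, ?_⟩
        left_inv := fun g => Subtype.ext (mul_inv_cancel_right _ _)
        right_inv := fun z => Subtype.ext (inv_mul_cancel_right _ _) }
    · rw [Subgroup.mem_centralizer_singleton_iff]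
      have hg : (g : G)⁻¹ * j * (g : G) = c * j * c⁻¹ := g.2.trans hc.symm
      calc (g : G) * c * j = g * (c * j * c⁻¹) * c := by group
        _ = g * ((g : G)⁻¹ * j * g) * c := by rw [hg]
        _ = j * (g * c) := by group
    · have hz := Subgroup.mem_centralizer_singleton_iff.mp z.2
      show ((z : G) * c⁻¹)⁻¹ * j * ((z : G) * c⁻¹) = s
      calc ((z : G) * c⁻¹)⁻¹ * j * ((z : G) * c⁻¹) = c * (z : G)⁻¹ * (j * z) * c⁻¹ := by group
        _ = c * (z : G)⁻¹ * (z * j) * c⁻¹ := by rw [← hz]
        _ = c * j * c⁻¹ := by group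
        _ = s := hc
  · rw [if_neg hs, Finset.filter_eq_empty_iff.mpr, Finset.card_empty]
    · simp
    · intro g _ hg
      exact hs (isConj_iff.mpr ⟨g⁻¹, by rw [inv_inv]; exact hg⟩)

/-- The membership predicate of a class, pulled back. -/
noncomputable def inClass (e : W →* G) (j : G) (w : W) : Bool := decide (IsConj j (e w))

/-- The pair sum formula. -/
theorem sum_F_mul_conj (he : IsTI e) (i : Fin 4) {j k : G} (hj : j * j = 1) (hk : k * k = 1) :
    ∑ a : G, F he i (j * (a * k * a⁻¹)) =
      (72 : ℂ)⁻¹ * Nat.card (Subgroup.centralizer ({j} : Set G)) *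
        Nat.card (Subgroup.centralizer ({k} : Set G)) *
          (pairSum i (inClass e j) (inClass e k) : ℂ) := by
  set f : G → ℂ := fun y => if hy : y ∈ e.range then psi he i ⟨y, hy⟩ else 0 with hf
  have hFf : ∀ x, F he i x = (72 : ℂ)⁻¹ * ∑ g : G, f (g⁻¹ * x * g) := fun x => by
    rw [F, indFun_apply, card_range he]
  simp only [hFf, ← Finset.mul_sum]
  rw [mul_assoc, mul_assoc]
  congr 1
  have h1 : ∑ a : G, ∑ g : G, f (g⁻¹ * (j * (a * k * a⁻¹)) * g) =
      ∑ g : G, ∑ b : G, f (g⁻¹ * j * g * (b⁻¹ * k * b)) := by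
    rw [Finset.sum_comm]
    refine Finset.sum_congr rfl fun g _ =>
      Fintype.sum_equiv ((Equiv.inv G).trans (Equiv.mulRight g)) _ _ fun a => ?_
    simp only [Equiv.trans_apply, Equiv.inv_apply, Equiv.coe_mulRight]
    congr 1
    group
  rw [h1]
  have h2 : ∀ g : G, ∑ b : G, f (g⁻¹ * j * g * (b⁻¹ * k * b)) =
      (Nat.card (Subgroup.centralizer ({k} : Set G)) : ℂ) *
        ∑ t : G, if IsConj k t then f (g⁻¹ * j * g * t) else 0 := fun g =>
    card_fibre k fun t => f (g⁻¹ * j * g * t)
  simp only [h2, ← Finset.mul_sum]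
  rw [card_fibre j (fun s => ∑ t : G, if IsConj k t then f (s * t) else 0)]
  rw [mul_left_comm]
  congr 1
  congr 1
  have hsq : ∀ s : G, IsConj j s → s * s = 1 := by
    rintro s hs
    obtain ⟨c, rfl⟩ := isConj_iff.mp hs
    calc c * j * c⁻¹ * (c * j * c⁻¹) = c * (j * j) * c⁻¹ := by group
      _ = 1 := by rw [hj]; group
  have htq : ∀ t : G, IsConj k t → t * t = 1 := by
    rintro t ht
    obtain ⟨c, rfl⟩ := isConj_iff.mp ht
    calc c * k * c⁻¹ * (c * k * c⁻¹) = c * (k * k) * c⁻¹ := by group
      _ = 1 := by rw [hk]; group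
  have hzero : ∀ s t : G, IsConj j s → IsConj k t → f (s * t) ≠ 0 →
      s ∈ e.range ∧ t ∈ e.range := by
    intro s t hs ht hne
    by_cases hy : s * t ∈ e.range
    · obtain ⟨w, hw⟩ := hy
      have hsupp : supp w := by
        by_contra hns
        apply hne
        simp only [hf]
        rw [dif_pos (MonoidHom.mem_range.mpr ⟨w, hw⟩), psi_eq he i _ hw, fn_eq_zero i w hns, Int.cast_zero]
      have hsupp' : supp w⁻¹ := supp_inv w hsupp
      have hsi : s⁻¹ = s := inv_eq_of_mul_eq_one_right (hsq s hs)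
      have hti : t⁻¹ = t := inv_eq_of_mul_eq_one_right (htq t ht)
      have hs' : s ∈ e.range := he.2 w w⁻¹ s hsupp hsupp' (by
        rw [map_inv, hw, mul_inv_rev, hti, hsi]
        calc s * (s * t) * s = (s * s) * t * s := by group
          _ = t * s := by rw [hsq s hs, one_mul])
      refine ⟨hs', ?_⟩
      have : t = s * (s * t) := by rw [← mul_assoc, hsq s hs, one_mul]
      rw [this]
      exact mul_mem hs' ⟨w, hw⟩
    · exact absurd (by simp only [hf]; rw [dif_neg hy]) hne
  have himage : ∀ h : G → ℂ, (∀ s, h s ≠ 0 → s ∈ e.range) → ∑ s : G, h s = ∑ w : W, h (e w) := by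
    intro h hh
    rw [← Finset.sum_image (f := h) fun x _ y _ hxy => he.1 hxy]
    refine (Finset.sum_subset (Finset.subset_univ _) fun s _ hs => ?_).symm
    by_contra hne
    obtain ⟨w, hw⟩ := hh s hne
    exact hs (Finset.mem_image.mpr ⟨w, Finset.mem_univ _, hw⟩)
  rw [himage]
  · simp only [pairSum, Int.cast_sum]
    refine Finset.sum_congr rfl fun w _ => ?_
    by_cases hw : IsConj j (e w)
    · rw [if_pos hw, himage]
      · refine Finset.sum_congr rfl fun w' _ => ?_
        by_cases hw' : IsConj k (e w')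
        · rw [if_pos hw', if_pos ⟨decide_eq_true hw, decide_eq_true hw'⟩]
          simp only [hf]
          rw [dif_pos (MonoidHom.mem_range.mpr ⟨w * w', map_mul e w w'⟩), psi_eq he i _ (map_mul e w w')]
        · rw [if_neg hw', if_neg fun h => hw' (of_decide_eq_true h.2), Int.cast_zero]
      · intro t ht
        by_cases hkt : IsConj k t
        · rw [if_pos hkt] at ht
          exact (hzero _ t hw hkt ht).2
        · rw [if_neg hkt] at ht; exact absurd rfl ht
    · rw [if_neg hw]
      refine (Finset.sum_eq_zero fun w' _ => ?_).symm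
      rw [if_neg fun h => hw (of_decide_eq_true h.1), Int.cast_zero]
  · intro s hs
    by_cases hjs : IsConj j s
    · rw [if_pos hjs] at hs
      obtain ⟨t, -, ht⟩ := Finset.exists_ne_zero_of_sum_ne_zero hs
      by_cases hkt : IsConj k t
      · rw [if_pos hkt] at ht
        exact (hzero s t hjs hkt ht).1
      · rw [if_neg hkt] at ht; exact absurd rfl ht
    · rw [if_neg hjs] at hs; exact absurd rfl hs

end Cfsg.Agent.Lib.ThreeNine.Chars
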