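import Cfsg.Agent.Lib.ThreeNine.Setup
import Cfsg.Agent.Lib.ThreeNine.Triangle
import Cfsg.Agent.Lib.ThreeNine.Chars
import Cfsg.Agent.Lib.ThreeNine.Cases
import Cfsg.Agent.Lib.Characters.Kernel
import Cfsg.Agent.Lib.Characters.Linear
import Cfsg.Agent.Lib.Classif.Order720
import Mathlib.GroupTheory.PGroup

/-!
# No simple group has a self-centralising Sylow `3`-subgroup of order nine with dihedral
automizer of order eight and centralisers of its elements inside the normaliser
-/

set_option autoImplicit false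

namespace Cfsg.Agent.Lib.ThreeNine.Main

open Model Cfsg.Agent.Lib.Induced.Generalized Cfsg.Agent.Lib.Characters.Basic
  Cfsg.Agent.Lib.Characters.Complete
open scoped ComplexConjugate Classical

universe u

variable {G : Type u} [Group G] [Fintype G]

/-- The local hypotheses. -/
structure Local (e : W →* G) (M : Sylow 3 G) : Prop where
  inj : Function.Injective e
  range : e.range = Subgroup.normalizer ((M : Subgroup G) : Set G)
  mem : ∀ w : W, w * w * w = 1 ↔ e w ∈ (M : Subgroup G)
  cent : ∀ m ∈ (M : Subgroup G), m ≠ 1 → Subgroup.centralizer ({m} : Set G) ≤ e.range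

variable {e : W →* G} {M : Sylow 3 G}

theorem Local.M_le (L : Local e M) : (M : Subgroup G) ≤ e.range :=
  L.range ▸ Subgroup.le_normalizer

theorem Local.mem_of_pow (L : Local e M) {x : G} (hx : x ∈ e.range) (h3 : x ^ 3 = 1) :
    x ∈ (M : Subgroup G) := by
  obtain ⟨w, rfl⟩ := hx
  refine (L.mem w).mp (L.inj ?_)
  rw [map_mul, map_mul, map_one, ← pow_two, ← pow_succ, h3]

theorem Local.pow_three (L : Local e M) {x : G} (hx : x ∈ (M : Subgroup G)) : x ^ 3 = 1 := by
  obtain ⟨w, rfl⟩ := L.M_le hx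
  rw [← map_pow, pow_succ, pow_two, (L.mem w).mpr hx, map_one]

theorem Local.comm (L : Local e M) {x y : G} (hx : x ∈ (M : Subgroup G))
    (hy : y ∈ (M : Subgroup G)) : x * y = y * x := by
  obtain ⟨v, rfl⟩ := L.M_le hx
  obtain ⟨w, rfl⟩ := L.M_le hy
  rw [← map_mul, ← map_mul]
  congr 1
  have : ∀ v w : W, v * v * v = 1 → w * w * w = 1 → v * w = w * v := by decide +kernel
  exact this v w ((L.mem v).mpr hx) ((L.mem w).mpr hy)

/-- The Sylow subgroup is a trivial intersection set. -/
theorem Local.ti_M (L : Local e M) {m g : G} (hm : m ∈ (M : Subgroup G)) (hm1 : m ≠ 1)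
    (hg : g * m * g⁻¹ ∈ (M : Subgroup G)) : g ∈ e.range := by
  set φ : G →* G := (MulAut.conj g⁻¹).toMonoidHom
  have hle : ((M : Subgroup G).map φ) ≤ (M : Subgroup G) := by
    rintro _ ⟨x, hx, rfl⟩
    show g⁻¹ * x * g⁻¹⁻¹ ∈ (M : Subgroup G)
    rw [inv_inv]
    apply L.mem_of_pow
    · apply L.cent m hm hm1
      rw [Subgroup.mem_centralizer_singleton_iff]
      have h := L.comm hx hg
      calc g⁻¹ * x * g * m = g⁻¹ * (x * (g * m * g⁻¹)) * g := by group
        _ = g⁻¹ * (g * m * g⁻¹ * x) * g := by rw [h]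
        _ = m * (g⁻¹ * x * g) := by group
    · rw [show g⁻¹ * x * g = g⁻¹ * x * g⁻¹⁻¹ by rw [inv_inv], conj_pow, L.pow_three hx]
      group
  have heq : (M : Subgroup G).map φ = (M : Subgroup G) := Subgroup.eq_of_le_of_card_ge hle (by
    rw [Nat.card_congr ((M : Subgroup G).equivMapOfInjective φ
      (MulAut.conj g⁻¹).injective).toEquiv.symm])
  rw [L.range, ← inv_mem_iff, Subgroup.mem_normalizer_iff]
  intro x
  constructor
  · exact fun hx => heq ▸ ⟨x, hx, rfl⟩
  · intro hx
    rw [← heq] at hx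
    obtain ⟨y, hy, hxy⟩ := hx
    exact (MulAut.conj g⁻¹).injective hxy ▸ hy

/-- Every element of order three is conjugate into the Sylow subgroup. -/
theorem exists_conj_mem (M : Sylow 3 G) {a : G} (ha : a ^ 3 = 1) :
    ∃ g : G, g * a * g⁻¹ ∈ (M : Subgroup G) := by
  have : Fact (Nat.Prime 3) := ⟨Nat.prime_three⟩
  have hp : IsPGroup 3 (Subgroup.zpowers a) := by
    rintro ⟨x, k, rfl⟩
    refine ⟨1, Subtype.ext ?_⟩
    show (a ^ k) ^ (3 ^ 1) = 1
    rw [pow_one, ← zpow_natCast, ← zpow_mul, mul_comm, zpow_mul, zpow_natCast, ha, one_zpow]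
  obtain ⟨P, hP⟩ := hp.exists_le_sylow
  obtain ⟨g, hg⟩ := MulAction.exists_smul_eq G P M
  refine ⟨g, hg ▸ ?_⟩
  exact ⟨a, hP (Subgroup.mem_zpowers a), rfl⟩

theorem Local.triangle (L : Local e M) :
    ∀ a x y : G, a ^ 3 = 1 → a ≠ 1 → Commute x a → Commute y a → x ^ 3 = 1 → y ^ 3 = 1 →
      Commute x y := by
  intro a x y ha ha1 hxa hya hx hy
  obtain ⟨g, hg⟩ := exists_conj_mem M ha
  have key : ∀ z : G, Commute z a → z ^ 3 = 1 → g * z * g⁻¹ ∈ (M : Subgroup G) := by
    intro z hz hz3
    refine L.mem_of_pow (L.cent _ hg ?_ ?_) (by rw [conj_pow, hz3]; group)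
    · intro h
      apply ha1
      have := congrArg (fun t => g⁻¹ * t * g) h
      simpa [mul_assoc] using this
    · rw [Subgroup.mem_centralizer_singleton_iff]
      calc g * z * g⁻¹ * (g * a * g⁻¹) = g * (z * a) * g⁻¹ := by group
        _ = g * (a * z) * g⁻¹ := by rw [hz.eq]
        _ = _ := by group
  have := L.comm (key x hxa hx) (key y hya hy)
  have h2 : g * (x * y) * g⁻¹ = g * (y * x) * g⁻¹ := by
    calc g * (x * y) * g⁻¹ = g * x * g⁻¹ * (g * y * g⁻¹) := by group
      _ = g * y * g⁻¹ * (g * x * g⁻¹) := this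
      _ = g * (y * x) * g⁻¹ := by group
  exact mul_left_cancel (mul_right_cancel h2)

theorem Local.isTI (L : Local e M) : Chars.IsTI e := by
  refine ⟨L.inj, fun w w' g hw _ hg => ?_⟩
  obtain ⟨n, h1, h2⟩ := supp_three w hw
  refine L.ti_M (m := e (w ^ (n : ℕ))) ((L.mem _).mp h1) (fun h => h2 (L.inj (by
    rw [h, map_one]))) ?_
  have hc : g * e (w ^ (n : ℕ)) * g⁻¹ = e (w' ^ (n : ℕ)) := by
    rw [map_pow, map_pow, ← conj_pow, hg]
  rw [hc]
  refine (L.mem _).mp (L.inj ?_)
  rw [map_mul, map_mul, ← hc, map_one]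
  calc g * e (w ^ (n : ℕ)) * g⁻¹ * (g * e (w ^ (n : ℕ)) * g⁻¹) * (g * e (w ^ (n : ℕ)) * g⁻¹)
      = g * (e (w ^ (n : ℕ)) * e (w ^ (n : ℕ)) * e (w ^ (n : ℕ))) * g⁻¹ := by group
    _ = 1 := by rw [← map_mul, ← map_mul, h1, map_one]; group

/-- Fusion inside the Sylow subgroup is controlled by the normaliser. -/
theorem Local.conjW_of_isConj (L : Local e M) {v w : W} (hv : v * v * v = 1) (hv1 : v ≠ 1)
    (hw : w * w * w = 1) (h : IsConj (e v) (e w)) : conjW v w := by
  obtain ⟨c, hc⟩ := isConj_iff.mp h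
  obtain ⟨d, rfl⟩ := L.ti_M ((L.mem v).mp hv) (fun h => hv1 (L.inj (by rw [h, map_one])))
    (by rw [hc]; exact (L.mem w).mp hw)
  exact ⟨d, L.inj (by rw [map_mul, map_mul, map_inv]; exact hc)⟩

theorem isConj_of_conjW (e : W →* G) {v w : W} (h : conjW v w) : IsConj (e v) (e w) := by
  obtain ⟨d, hd⟩ := h
  exact isConj_iff.mpr ⟨e d, by rw [← map_inv, ← map_mul, ← map_mul, hd]⟩

/-- The two involution classes are distinct. -/
theorem Local.not_isConj (L : Local e M) (hM9 : Nat.card (M : Subgroup G) = 9) :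
    ¬ IsConj (e tb) (e sw) := by
  intro h
  obtain ⟨g, hg⟩ := isConj_iff.mp h
  have : Fact (Nat.Prime 3) := ⟨Nat.prime_three⟩
  set C := Subgroup.centralizer ({e sw} : Set G) with hC
  set x := g * e ea * g⁻¹ with hx
  set y := e (ea * eb) with hy
  have hxC : x ∈ C := by
    rw [hC, Subgroup.mem_centralizer_singleton_iff, hx, ← hg]
    calc g * e ea * g⁻¹ * (g * e tb * g⁻¹) = g * e (ea * tb) * g⁻¹ := by rw [map_mul]; group
      _ = g * e (tb * ea) * g⁻¹ := by rw [tb_ea]
      _ = _ := by rw [map_mul]; group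
  have hyC : y ∈ C := by
    rw [hC, Subgroup.mem_centralizer_singleton_iff, hy, ← map_mul, ← map_mul, sw_eaeb]
  obtain ⟨-, hs2, -, -, hs1, ha3, ha1, hb3, hb1⟩ := basic_orders
  have hx3 : x ^ 3 = 1 := by
    rw [hx, conj_pow, pow_succ, pow_two, ← map_mul, ← map_mul, ha3, map_one]; group
  have hy3 : y ^ 3 = 1 := by
    rw [hy, pow_succ, pow_two, ← map_mul, ← map_mul, hb3, map_one]
  have hy1 : y ≠ 1 := fun hh => hb1 (L.inj (by rw [map_one]; exact hh))
  have hx1 : x ≠ 1 := fun hh => ha1 (L.inj (by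
    rw [map_one]
    have := congrArg (fun t => g⁻¹ * t * g) hh
    simpa [hx, mul_assoc] using this))
  obtain ⟨P, hP⟩ := (IsPGroup.of_card (G := Subgroup.zpowers (⟨y, hyC⟩ : C)) (n := 1) (by
    rw [Nat.card_zpowers, Subgroup.orderOf_mk, orderOf_eq_prime hy3 hy1, pow_one])).exists_le_sylow
  obtain ⟨Q, hQ⟩ := (IsPGroup.of_card (G := Subgroup.zpowers (⟨x, hxC⟩ : C)) (n := 1) (by
    rw [Nat.card_zpowers, Subgroup.orderOf_mk, orderOf_eq_prime hx3 hx1, pow_one])).exists_le_sylow
  -- the Sylow subgroups of `C` have order three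
  obtain ⟨k, hk⟩ := IsPGroup.iff_card.mp P.isPGroup'
  have hk1 : k ≤ 1 := by
    by_contra hk2
    obtain ⟨S, hS⟩ := (P.isPGroup'.map C.subtype).exists_le_sylow
    have hcard : Nat.card ((P : Subgroup C).map C.subtype) = 3 ^ k := by
      rw [← Nat.card_congr ((P : Subgroup C).equivMapOfInjective _ C.subtype_injective).toEquiv, hk]
    have hS9 : Nat.card (S : Subgroup G) = 9 := by
      rw [S.card_eq_multiplicity, ← M.card_eq_multiplicity, hM9]
    have h9 : (P : Subgroup C).map C.subtype = (S : Subgroup G) :=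
      Subgroup.eq_of_le_of_card_ge hS (by
        rw [hcard, hS9]
        exact le_trans (by norm_num) (Nat.pow_le_pow_right (by norm_num) (not_le.mp hk2)))
    obtain ⟨c, hc⟩ := MulAction.exists_smul_eq G S M
    -- the involution centralises the whole Sylow subgroup
    set t := c * e sw * c⁻¹ with ht
    have htc : ∀ m ∈ (M : Subgroup G), t * m = m * t := by
      intro m hm
      rw [← hc] at hm
      obtain ⟨s, hs, rfl⟩ := hm
      change s ∈ (S : Subgroup G) at hs
      rw [← h9] at hs
      obtain ⟨q, -, rfl⟩ := hs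
      have h0 := Subgroup.mem_centralizer_singleton_iff.mp q.2
      show t * (c * (q : G) * c⁻¹) = c * (q : G) * c⁻¹ * t
      rw [ht]
      calc c * e sw * c⁻¹ * (c * q * c⁻¹) = c * (e sw * q) * c⁻¹ := by group
        _ = c * (q * e sw) * c⁻¹ := by rw [h0]
        _ = _ := by group
    have haM := (L.mem ea).mp ha3
    have htN : t ∈ e.range := L.cent _ haM (fun hh => ha1 (L.inj (by rw [hh, map_one])))
      (Subgroup.mem_centralizer_singleton_iff.mpr (htc _ haM))
    obtain ⟨w, hw⟩ := htN
    have hcomm : ∀ v : W, v * v * v = 1 → w * v = v * w := fun v hv => L.inj (by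
      rw [map_mul, map_mul, hw]; exact htc _ ((L.mem v).mp hv))
    have : ∀ w : W, (∀ v : W, v * v * v = 1 → w * v = v * w) → w * w = 1 → w = 1 := by
      decide +kernel
    have hww : w * w = 1 := L.inj (by
      rw [map_mul, hw, ht, map_one]
      calc c * e sw * c⁻¹ * (c * e sw * c⁻¹) = c * (e sw * e sw) * c⁻¹ := by group
        _ = 1 := by rw [← map_mul, hs2, map_one]; group)
    rw [this w hcomm hww, map_one, ht] at hw
    refine hs1 (L.inj ?_)
    rw [map_one]
    have := congrArg (fun z => c⁻¹ * z * c) hw.symm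
    simpa [mul_assoc] using this
  have hPy : (P : Subgroup C) = Subgroup.zpowers (⟨y, hyC⟩ : C) :=
    (Subgroup.eq_of_le_of_card_ge hP (by
      rw [Nat.card_zpowers, Subgroup.orderOf_mk, orderOf_eq_prime hy3 hy1, hk]
      exact le_trans (Nat.pow_le_pow_right (by norm_num) hk1) (by norm_num))).symm
  obtain ⟨c, hc⟩ := MulAction.exists_smul_eq C Q P
  have hmem : (MulAut.conj c) ⟨x, hxC⟩ ∈ (P : Subgroup C) := by
    rw [← hc]
    exact ⟨_, hQ (Subgroup.mem_zpowers _), rfl⟩
  rw [hPy] at hmem
  obtain ⟨i, hi⟩ := Subgroup.mem_zpowers_iff.mp hmem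
  have hi' : y ^ i = (c : G) * x * (c : G)⁻¹ := by
    have := congrArg Subtype.val hi
    simpa using this
  have hi2 : y ^ i = y ^ (i % 3) := by
    conv_lhs => rw [← Int.mul_ediv_add_emod i 3]
    rw [zpow_add, zpow_mul, show y ^ (3 : ℤ) = 1 by exact_mod_cast hy3, one_zpow, one_mul]
  rcases (show i % 3 = 0 ∨ i % 3 = 1 ∨ i % 3 = 2 by omega) with h' | h' | h' <;> rw [h'] at hi2
  · rw [zpow_zero] at hi2
    rw [hi2] at hi'
    apply hx1
    have := congrArg (fun z => (c : G)⁻¹ * z * c) hi'.symm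
    simpa [mul_assoc] using this
  · rw [zpow_one] at hi2
    refine not_conj_classes.1 (L.conjW_of_isConj ha3 ha1 hb3 (isConj_iff.mpr ⟨(c : G) * g, ?_⟩))
    rw [← hy, ← hi2, hi', hx]; group
  · rw [zpow_two] at hi2
    have hb3' : (ea * eb) * (ea * eb) * ((ea * eb) * (ea * eb)) * ((ea * eb) * (ea * eb)) = 1 := by
      decide +kernel
    refine not_conj_classes.2 (L.conjW_of_isConj ha3 ha1 hb3' (isConj_iff.mpr ⟨(c : G) * g, ?_⟩))
    rw [map_mul e (ea * eb), ← hy, ← hi2, hi', hx]; group

/-- The pointwise description of the classes of the two involutions. -/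
theorem Local.classes (L : Local e M) (hM9 : Nat.card (M : Subgroup G) = 9) (i : Fin 4) :
    0 < detSign i * pairDet i (Chars.inClass e (e tb)) (Chars.inClass e (e sw)) := by
  have hjk := L.not_isConj hM9
  obtain ⟨hA, hB, hZ⟩ := invA_tb
  have hsq : ∀ (v w : W), v * v = 1 → IsConj (e v) (e w) → w * w = 1 ∧ (v ≠ 1 → w ≠ 1) := by
    intro v w hv h
    obtain ⟨c, hc⟩ := isConj_iff.mp h
    refine ⟨L.inj ?_, fun h1 hw => h1 (L.inj ?_)⟩
    · rw [map_mul, ← hc, map_one]
      calc c * e v * c⁻¹ * (c * e v * c⁻¹) = c * e (v * v) * c⁻¹ := by rw [map_mul]; group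
        _ = 1 := by rw [hv, map_one]; group
    · rw [hw, map_one] at hc
      rw [map_one]
      have := congrArg (fun z => c⁻¹ * z * c) hc
      simpa [mul_assoc] using this
  obtain ⟨ht2, hs2, hz2, ht1, hs1, -⟩ := basic_orders
  have key : ∀ (v : W) (w : W), v * v = 1 → v ≠ 1 →
      (IsConj (e v) (e w) ↔ (IsConj (e v) (e tb) ∧ invA w = true) ∨
        (IsConj (e v) (e sw) ∧ invB w = true) ∨
        (IsConj (e v) (e (ta * tb)) ∧ invC w = true)) := by
    intro v w hv hv1
    constructor
    · intro h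
      obtain ⟨h2, h1⟩ := hsq v w hv h
      rcases invol_cases w h2 (h1 hv1) with hw | hw | hw
      · exact Or.inl ⟨h.trans (isConj_of_conjW e (of_decide_eq_true hw)).symm, hw⟩
      · exact Or.inr (Or.inl ⟨h.trans (isConj_of_conjW e (of_decide_eq_true hw)).symm, hw⟩)
      · exact Or.inr (Or.inr ⟨h.trans (isConj_of_conjW e (of_decide_eq_true hw)).symm, hw⟩)
    · rintro (⟨h, hw⟩ | ⟨h, hw⟩ | ⟨h, hw⟩) <;>
        exact h.trans (isConj_of_conjW e (of_decide_eq_true hw))
  have eqJ : ∀ (v : W) (f : W → Bool), v * v = 1 → v ≠ 1 →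
      (∀ w, IsConj (e v) (e w) ↔ f w = true) → Chars.inClass e (e v) = f := by
    intro v f _ _ hf
    funext w
    rw [Bool.eq_iff_iff, ← hf w]
    exact decide_eq_true_iff
  by_cases hzA : IsConj (e tb) (e (ta * tb))
  · have hzB : ¬ IsConj (e sw) (e (ta * tb)) := fun h => hjk (hzA.trans h.symm)
    rw [eqJ tb (fun w => invA w || invC w) ht2 ht1 fun w => by
        rw [key tb w ht2 ht1, Bool.or_eq_true]
        simp only [IsConj.refl, hjk, hzA, true_and, false_and, false_or, or_false],
      eqJ sw invB hs2 hs1 fun w => by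
        rw [key sw w hs2 hs1]
        simp only [IsConj.refl, mt IsConj.symm hjk, hzB, true_and, false_and, false_or, or_false]]
    exact det_fuseA i
  by_cases hzB : IsConj (e sw) (e (ta * tb))
  · rw [eqJ tb invA ht2 ht1 fun w => by
        rw [key tb w ht2 ht1]
        simp only [IsConj.refl, hjk, hzA, true_and, false_and, false_or, or_false],
      eqJ sw (fun w => invB w || invC w) hs2 hs1 fun w => by
        rw [key sw w hs2 hs1, Bool.or_eq_true]
        simp only [IsConj.refl, mt IsConj.symm hjk, hzB, true_and, false_and, false_or, or_false]]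
    exact det_fuseB i
  · rw [eqJ tb invA ht2 ht1 fun w => by
        rw [key tb w ht2 ht1]
        simp only [IsConj.refl, hjk, hzA, true_and, false_and, false_or, or_false],
      eqJ sw invB hs2 hs1 fun w => by
        rw [key sw w hs2 hs1]
        simp only [IsConj.refl, mt IsConj.symm hjk, hzB, true_and, false_and, false_or, or_false]]
    exact det_plain i

/-- The algebra behind the sign of the product. -/
theorem sign_of_det {X₁ X₂ X₃ a₁ a₂ a₃ b₁ b₂ b₃ σ : ℝ} (h1 : X₁ ≠ 0) (h2 : X₂ ≠ 0) (h3 : X₃ ≠ 0)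
    (hX : X₁ + X₂ + X₃ = -1) (ha : a₁ + a₂ + a₃ = -1) (hb : b₁ + b₂ + b₃ = -1)
    (h : 0 < σ * ((1 + a₁ * a₁ / X₁ + a₂ * a₂ / X₂ + a₃ * a₃ / X₃) *
      (1 + b₁ * b₁ / X₁ + b₂ * b₂ / X₂ + b₃ * b₃ / X₃) -
      (1 + a₁ * b₁ / X₁ + a₂ * b₂ / X₂ + a₃ * b₃ / X₃) ^ 2)) :
    σ * (X₁ * X₂ * X₃) < 0 := by
  have e : ((1 + a₁ * a₁ / X₁ + a₂ * a₂ / X₂ + a₃ * a₃ / X₃) *
      (1 + b₁ * b₁ / X₁ + b₂ * b₂ / X₂ + b₃ * b₃ / X₃) -
      (1 + a₁ * b₁ / X₁ + a₂ * b₂ / X₂ + a₃ * b₃ / X₃) ^ 2) * (X₁ * X₂ * X₃) =
      -((a₁ - X₁) * (b₂ - X₂) - (a₂ - X₂) * (b₁ - X₁)) ^ 2 := by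
    have e3 : X₃ = -1 - X₁ - X₂ := by linarith
    have ea' : a₃ = -1 - a₁ - a₂ := by linarith
    have eb' : b₃ = -1 - b₁ - b₂ := by linarith
    subst e3 ea' eb'
    field_simp
    ring
  set d := ((1 + a₁ * a₁ / X₁ + a₂ * a₂ / X₂ + a₃ * a₃ / X₃) *
      (1 + b₁ * b₁ / X₁ + b₂ * b₂ / X₂ + b₃ * b₃ / X₃) -
      (1 + a₁ * b₁ / X₁ + a₂ * b₂ / X₂ + a₃ * b₃ / X₃) ^ 2)
  set p := X₁ * X₂ * X₃
  have hp : p ≠ 0 := mul_ne_zero (mul_ne_zero h1 h2) h3
  have hd : d * p < 0 := by
    refine lt_of_le_of_ne (by rw [e]; exact neg_nonpos.mpr (sq_nonneg _)) ?_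
    intro h0
    rcases mul_eq_zero.mp h0 with h0 | h0
    · rw [h0, mul_zero] at h; exact lt_irrefl 0 h
    · exact hp h0
  rcases mul_pos_iff.mp h with ⟨hs, hd'⟩ | ⟨hs, hd'⟩
  · exact mul_neg_of_pos_of_neg hs (neg_of_mul_neg_right hd hd'.le)
  · exact mul_neg_of_neg_of_pos hs (pos_of_mul_neg_right hd hd'.le)

theorem card_centralizer_map (hi : Function.Injective e) {u : W}
    (hc : Subgroup.centralizer ({e u} : Set G) ≤ e.range)
    (h18 : (Finset.univ.filter fun w : W => w * u = u * w).card = 18) :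
    Nat.card (Subgroup.centralizer ({e u} : Set G)) = 18 := by
  rw [← h18, ← Fintype.card_subtype, ← Nat.card_eq_fintype_card]
  refine (Nat.card_congr (Equiv.ofBijective
    (fun w : {w : W // w * u = u * w} => (⟨e w, Subgroup.mem_centralizer_singleton_iff.mpr
      (by rw [← map_mul, ← map_mul, w.2])⟩ : Subgroup.centralizer ({e u} : Set G)))
    ⟨fun v w h => Subtype.ext (hi (congrArg Subtype.val h)), ?_⟩)).symm
  rintro ⟨x, hx⟩
  obtain ⟨w, rfl⟩ := hc hx
  exact ⟨⟨w, hi (by
    rw [map_mul, map_mul]; exact Subgroup.mem_centralizer_singleton_iff.mp hx)⟩, rfl⟩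

/-- The structure constant. -/
theorem Local.structure_constant (L : Local e M) [Fintype (Cfsg.IrrCharacter G)] {u v : W}
    (hu3 : u * u * u = 1) (hu1 : u ≠ 1) (hv3 : v * v * v = 1) (hv1 : v ≠ 1)
    (hinv : conjW u (u * u)) (huv : ¬ conjW u v)
    (hu18 : (Finset.univ.filter fun w : W => w * u = u * w).card = 18)
    (hv18 : (Finset.univ.filter fun w : W => w * v = v * w).card = 18)
    (hcount : (Finset.univ.filter fun w : W => conjW u w ∧ conjW v (u * w)).card = 2) :
    ∑ χ : Cfsg.IrrCharacter G,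
      (χ : G → ℂ) (e u) ^ 2 * conj ((χ : G → ℂ) (e v)) / (χ : G → ℂ) 1 =
      648 / (Nat.card G : ℂ) := by
  have huM : e u ∈ (M : Subgroup G) := (L.mem u).mp hu3
  have hvM : e v ∈ (M : Subgroup G) := (L.mem v).mp hv3
  have heu : e u ≠ 1 := fun h => hu1 (L.inj (by rw [h, map_one]))
  have hev : e v ≠ 1 := fun h => hv1 (L.inj (by rw [h, map_one]))
  have cu := card_centralizer_map L.inj (L.cent _ huM heu) hu18
  have cv := card_centralizer_map L.inj (L.cent _ hvM hev) hv18
  have hiff : ∀ a : G, IsConj (e v) (e u * (a * e u * a⁻¹)) ↔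
      ∃ w, (conjW u w ∧ conjW v (u * w)) ∧ a * e u * a⁻¹ = e w := by
    intro a
    constructor
    · intro h
      set y := a * e u * a⁻¹ with hy
      have hu3' : e u ^ 3 = 1 := L.pow_three huM
      have hy3 : y ^ 3 = 1 := by rw [hy, conj_pow, hu3']; group
      have hp3 : (e u * y) ^ 3 = 1 := by
        obtain ⟨c, hc⟩ := isConj_iff.mp h
        rw [← hc, conj_pow, L.pow_three hvM]; group
      rcases Triangle.commute_or_conj L.triangle hu3' hy3 hp3 with hcm | ⟨-, hsq⟩
      · have hyN : y ∈ e.range :=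
          L.cent _ huM heu (Subgroup.mem_centralizer_singleton_iff.mpr hcm.eq.symm)
        have hyM := L.mem_of_pow hyN hy3
        obtain ⟨w, hw⟩ := hyN
        have hw3 : w * w * w = 1 := (L.mem w).mpr (hw ▸ hyM)
        have huw : conjW u w :=
          L.conjW_of_isConj hu3 hu1 hw3 (isConj_iff.mpr ⟨a, by rw [hw]⟩)
        have huw3 : u * w * (u * w) * (u * w) = 1 := L.inj (by
          rw [map_mul, map_mul, map_mul, hw, map_one, ← pow_two, ← pow_succ, hp3])
        exact ⟨w, ⟨huw, L.conjW_of_isConj hv3 hv1 huw3 (by rw [map_mul, hw]; exact h)⟩, hw.symm⟩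
      · exfalso
        refine huv (L.conjW_of_isConj hu3 hu1 hv3 ?_)
        exact ((isConj_of_conjW e hinv).trans ((map_mul e u u).symm ▸ hsq)).trans h.symm
    · rintro ⟨w, ⟨-, h2⟩, hw⟩
      rw [hw, ← map_mul]
      exact isConj_of_conjW e h2
  have hcardA : (Finset.univ.filter fun a : G => IsConj (e v) (e u * (a * e u * a⁻¹))).card =
      36 := by
    have heq : (Finset.univ.filter fun a : G => IsConj (e v) (e u * (a * e u * a⁻¹))) =
        (Finset.univ.filter fun w : W => conjW u w ∧ conjW v (u * w)).biUnion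
          fun w => Finset.univ.filter fun a : G => a * e u * a⁻¹ = e w := by
      ext a
      simp only [Finset.mem_filter, Finset.mem_univ, true_and, Finset.mem_biUnion, hiff]
    rw [heq, Finset.card_biUnion]
    · have hf : ∀ w ∈ (Finset.univ.filter fun w : W => conjW u w ∧ conjW v (u * w)),
          (Finset.univ.filter fun a : G => a * e u * a⁻¹ = e w).card = 18 := by
        intro w hw
        obtain ⟨d, hd⟩ := (Finset.mem_filter.mp hw).2.1
        rw [← cu, ← Fintype.card_subtype, ← Nat.card_eq_fintype_card]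
        have hd' : e d * e u * (e d)⁻¹ = e w := by rw [← map_inv, ← map_mul, ← map_mul, hd]
        refine Nat.card_congr
          { toFun := fun a => ⟨(e d)⁻¹ * a, ?_⟩
            invFun := fun c => ⟨e d * (c : G), ?_⟩
            left_inv := fun a => Subtype.ext (mul_inv_cancel_left _ _)
            right_inv := fun c => Subtype.ext (inv_mul_cancel_left _ _) }
        · rw [Subgroup.mem_centralizer_singleton_iff]
          have h := a.2.trans hd'.symm
          calc (e d)⁻¹ * (a : G) * e u = (e d)⁻¹ * ((a : G) * e u * (a : G)⁻¹) * a := by group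
            _ = (e d)⁻¹ * (e d * e u * (e d)⁻¹) * a := by rw [h]
            _ = _ := by group
        · have h := Subgroup.mem_centralizer_singleton_iff.mp c.2
          show e d * (c : G) * e u * (e d * (c : G))⁻¹ = e w
          rw [mul_assoc (e d), h, ← hd']
          group
      rw [Finset.sum_congr rfl hf, Finset.sum_const, hcount, smul_eq_mul]
    · intro w _ w' _ hne
      rw [Function.onFun, Finset.disjoint_left]
      intro a ha ha'
      rw [Finset.mem_filter] at ha ha'
      exact hne (L.inj (ha.2.symm.trans ha'.2))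
  have h : ∑ a : G, ∑ χ : Cfsg.IrrCharacter G,
      (χ : G → ℂ) (e u * (a * e u * a⁻¹)) * conj ((χ : G → ℂ) (e v)) =
      (Nat.card G : ℂ) * ∑ χ : Cfsg.IrrCharacter G,
        (χ : G → ℂ) (e u) ^ 2 * conj ((χ : G → ℂ) (e v)) / (χ : G → ℂ) 1 := by
    rw [Finset.sum_comm, Finset.mul_sum]
    refine Finset.sum_congr rfl fun χ _ => ?_
    rw [← Finset.sum_mul, H80.ClassMult.sum_apply_mul_conj]
    ring
  have h2 : ∀ a : G, ∑ χ : Cfsg.IrrCharacter G,
      (χ : G → ℂ) (e u * (a * e u * a⁻¹)) * conj ((χ : G → ℂ) (e v)) =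
      if IsConj (e v) (e u * (a * e u * a⁻¹)) then 18 else 0 := by
    intro a
    rw [sum_irr_mul_conj]
    by_cases hh : IsConj (e v) (e u * (a * e u * a⁻¹))
    · rw [if_pos hh, if_pos hh.symm]
      obtain ⟨c, hc⟩ := isConj_iff.mp hh
      have h18 : Nat.card (Subgroup.centralizer ({e u * (a * e u * a⁻¹)} : Set G)) = 18 := by
        rw [← cv]
        have : Subgroup.centralizer ({e u * (a * e u * a⁻¹)} : Set G) =
            (Subgroup.centralizer ({e v} : Set G)).map (MulAut.conj c).toMonoidHom := by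
          ext z
          simp only [Subgroup.mem_map, MulEquiv.coe_toMonoidHom, MulAut.conj_apply,
            Subgroup.mem_centralizer_singleton_iff, ← hc]
          constructor
          · intro hz
            refine ⟨c⁻¹ * z * c, ?_, by group⟩
            calc c⁻¹ * z * c * e v = c⁻¹ * (z * (c * e v * c⁻¹)) * c := by group
              _ = c⁻¹ * (c * e v * c⁻¹ * z) * c := by rw [hz]
              _ = _ := by group
          · rintro ⟨y, hy, rfl⟩
            calc c * y * c⁻¹ * (c * e v * c⁻¹) = c * (y * e v) * c⁻¹ := by group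
              _ = c * (e v * y) * c⁻¹ := by rw [hy]
              _ = _ := by group
        rw [this]
        exact (Nat.card_congr ((Subgroup.centralizer ({e v} : Set G)).equivMapOfInjective _
          (MulAut.conj c).injective).toEquiv).symm
      rw [h18]; norm_num
    · rw [if_neg hh, if_neg fun hh' => hh hh'.symm]
  simp only [h2] at h
  rw [← Finset.sum_filter, Finset.sum_const, hcardA, nsmul_eq_mul] at h
  rw [eq_div_iff (Induced.Basic.natCard_ne_zero)]
  push_cast at h
  linear_combination -h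

theorem hom_values {f : W → ℂ} (h1 : f 1 = 1) (hm : ∀ v w, f (v * w) = f v * f w) :
    (∀ w, f w = 1) ∨ (∀ w, f w = (flipSign w : ℂ)) ∨ (∀ w, f w = (swapSign w : ℂ)) ∨
      (∀ w, f w = ((flipSign w * swapSign w : ℤ) : ℂ)) := by
  have hpow : ∀ (w : W) (n : ℕ), f (w ^ n) = f w ^ n := by
    intro w n
    induction n with
    | zero => simp [h1]
    | succ n ih => rw [pow_succ, hm, ih, pow_succ]
  have h0 : ∀ w, f w ≠ 0 := fun w hw => one_ne_zero (α := ℂ) (by
    rw [← h1, ← mul_inv_cancel w, hm, hw, zero_mul])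
  have hconj : ∀ g w, f (g * w * g⁻¹) = f w := fun g w => by
    rw [hm, hm, mul_comm (f g), mul_assoc, ← hm, mul_inv_cancel, h1, mul_one]
  have hpm : ∀ w : W, w * w = 1 → f w = 1 ∨ f w = -1 := fun w hw =>
    sq_eq_one_iff.mp (by rw [← hpow, pow_two, hw, h1])
  have e1 : f ea = 1 := by
    have hinv : ta * ea * ta⁻¹ = ea * ea := by decide +kernel
    have := hconj ta ea
    rw [hinv, hm] at this
    exact (mul_eq_left₀ (h0 ea)).mp this
  have e2 : f eb = 1 := by rw [show eb = sw * ea * sw⁻¹ by decide +kernel, hconj, e1]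
  have e3 : f tb = f ta := by rw [show tb = sw * ta * sw⁻¹ by decide +kernel, hconj]
  have dec : ∀ w : W, ∃ i j : Fin 3, ∃ k l m : Fin 2,
      w = ea ^ (i : ℕ) * eb ^ (j : ℕ) * ta ^ (k : ℕ) * tb ^ (l : ℕ) * sw ^ (m : ℕ) ∧
        flipSign w = (-1) ^ ((k : ℕ) + (l : ℕ)) ∧ swapSign w = (-1) ^ (m : ℕ) := by
    decide +kernel
  have hval : ∀ w, ∃ k l m : ℕ, f w = f ta ^ (k + l) * f sw ^ m ∧
      flipSign w = (-1) ^ (k + l) ∧ swapSign w = (-1) ^ m := by
    intro w
    obtain ⟨i, j, k, l, m, hw, hF, hS⟩ := dec w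
    exact ⟨k, l, m, by rw [hw]; simp only [hm, hpow, e1, e2, e3, one_pow, one_mul, pow_add],
      hF, hS⟩
  rcases hpm ta (by decide +kernel) with a | a <;> rcases hpm sw (by decide +kernel) with b | b
  · left; intro w; obtain ⟨k, l, m, h, -, -⟩ := hval w; rw [h, a, b]; simp
  · right; right; left; intro w; obtain ⟨k, l, m, h, -, hS⟩ := hval w
    rw [h, a, b, hS]; simp
  · right; left; intro w; obtain ⟨k, l, m, h, hF, -⟩ := hval w
    rw [h, a, b, hF]; simp
  · right; right; right; intro w; obtain ⟨k, l, m, h, hF, hS⟩ := hval w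
    rw [h, a, b, hF, hS]; simp

theorem fn_sum_signs :
    (∀ i : Fin 4, ∑ w : W, fn i w * flipSign w = 72 * ![1, 0, 0, 0] i) ∧
    (∀ i : Fin 4, ∑ w : W, fn i w * swapSign w = 72 * ![0, 1, 0, 0] i) ∧
    (∀ i : Fin 4, ∑ w : W, fn i w * (flipSign w * swapSign w) = 72 * ![0, 0, -1, -1] i) := by
  decide +kernel

/-- The order. -/
theorem order_of_local (L : Local e M) (hM9 : Nat.card (M : Subgroup G) = 9)
    (hnn : ¬ (M : Subgroup G).Normal) : Nat.card G = 720 := by
  letI := Fintype.ofFinite (Cfsg.IrrCharacter G)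
  have he := L.isTI
  obtain ⟨ht2, hs2, -, -, -, ha3, ha1, hb3, hb1⟩ := basic_orders
  choose co hco using fun i => exists_coeff (Chars.isGen_F he i)
  -- coefficients
  have hexp : ∀ i x, Chars.F he i x =
      ∑ χ : Cfsg.IrrCharacter G, (co i χ : ℂ) * (χ : G → ℂ) x := fun i x => by
    rw [(hco i).2.1]
    simp [Finset.sum_apply]
  have hinner : ∀ i (χ : Cfsg.IrrCharacter G),
      (co i χ : ℂ) = Cfsg.classInner (Chars.F he i) (χ : G → ℂ) := fun i χ => ((hco i).1 χ).symm
  have hgram : ∀ i j, ∑ χ, co i χ * co j χ = gram i j := by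
    intro i j
    have h := Chars.inner_FF he i j
    rw [classInner_eq_sum (Chars.isGen_F he i)] at h
    simp only [← hinner, map_intCast] at h
    exact_mod_cast h
  have hco1 : ∀ i, co i (oneChar G) = 1 := fun i => by
    have h := Chars.inner_F_one he i
    rw [← hinner] at h
    exact_mod_cast h
  set deg : Cfsg.IrrCharacter G → ℤ := fun χ => (Cfsg.charDegree (χ : G → ℂ) : ℤ) with hdeg
  have hdegC : ∀ χ : Cfsg.IrrCharacter G, (χ : G → ℂ) 1 = (deg χ : ℂ) := fun χ => by
    rw [(H80.ClassMult.deg_spec χ).2, hdeg]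
    simp
  have hdpos : ∀ χ, 0 < deg χ := fun χ => by
    simp only [hdeg]; exact_mod_cast (H80.ClassMult.deg_spec χ).1
  have hdo : deg (oneChar G) = 1 := by
    have h := hdegC (oneChar G)
    rw [oneChar_apply] at h
    exact_mod_cast h.symm
  have hdeg0 : ∀ i, ∑ χ, co i χ * deg χ = 0 := fun i => by
    have h := (hexp i 1).symm.trans (Chars.F_one he i)
    simp only [hdegC] at h
    exact_mod_cast h
  -- the values on the two classes of elements of order three
  have hval : ∀ (u : W) (f : W → ℤ), (∀ w, f w = if conjW u w then 18 else 0) →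
      (Finset.univ.filter fun w : W => conjW u w).card = 4 → ∀ χ : Cfsg.IrrCharacter G,
      (72 : ℂ)⁻¹ * ∑ w : W, (f w : ℂ) * conj ((χ : G → ℂ) (e w)) =
        conj ((χ : G → ℂ) (e u)) := by
    intro u f hf h4 χ
    have : ∀ w : W, (f w : ℂ) * conj ((χ : G → ℂ) (e w)) =
        if conjW u w then 18 * conj ((χ : G → ℂ) (e u)) else 0 := by
      intro w
      rw [hf]
      split
      · rename_i h
        rw [classFunction_apply_of_isConj (isClassFunction_irr χ) (isConj_of_conjW e h)]
        push_cast; ring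
      · simp
    simp only [this]
    rw [← Finset.sum_filter, Finset.sum_const, h4, nsmul_eq_mul]
    push_cast; ring
  have hxa : ∀ χ : Cfsg.IrrCharacter G, (χ : G → ℂ) (e ea) =
      ((co 0 χ + co 1 χ + co 2 χ - 2 * co 3 χ : ℤ) : ℂ) := by
    intro χ
    have h := hval ea (fun w => fn 0 w + fn 1 w + fn 2 w - 2 * fn 3 w) fn_combination_a
      card_class.1 χ
    have h' : ((co 0 χ + co 1 χ + co 2 χ - 2 * co 3 χ : ℤ) : ℂ) =
        conj ((χ : G → ℂ) (e ea)) := by
      rw [← h]
      push_cast
      simp only [hinner, Chars.inner_F he _ (isClassFunction_irr χ), add_mul, sub_mul,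
        Finset.sum_add_distrib, Finset.sum_sub_distrib, mul_assoc, ← Finset.mul_sum]
      ring
    have h2 := congrArg conj h'
    rw [Complex.conj_conj, map_intCast] at h2
    exact h2.symm
  have hxb : ∀ χ : Cfsg.IrrCharacter G, (χ : G → ℂ) (e (ea * eb)) =
      ((co 0 χ + co 1 χ - 2 * co 2 χ + co 3 χ : ℤ) : ℂ) := by
    intro χ
    have h := hval (ea * eb) (fun w => fn 0 w + fn 1 w - 2 * fn 2 w + fn 3 w)
      fn_combination_ab card_class.2 χ
    have h' : ((co 0 χ + co 1 χ - 2 * co 2 χ + co 3 χ : ℤ) : ℂ) =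
        conj ((χ : G → ℂ) (e (ea * eb))) := by
      rw [← h]
      push_cast
      simp only [hinner, Chars.inner_F he _ (isClassFunction_irr χ), add_mul, sub_mul,
        Finset.sum_add_distrib, Finset.sum_sub_distrib, mul_assoc, ← Finset.mul_sum]
      ring
    have h2 := congrArg conj h'
    rw [Complex.conj_conj, map_intCast] at h2
    exact h2.symm
  -- the two equations
  have hgC : ((Nat.card G : ℤ) : ℂ) = (Nat.card G : ℂ) := by simp
  have eqA := L.structure_constant ha3 ha1 hb3 hb1 conj_inv_classes.1 not_conj_classes.1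
    card_commutant.1 card_commutant.2 count_pairs
  have hsym : ∀ a b : W, conjW a b → conjW b a := by
    rintro a b ⟨g, rfl⟩
    exact ⟨g⁻¹, by group⟩
  have eqB := L.structure_constant hb3 hb1 ha3 ha1 conj_inv_classes.2
    (fun h => not_conj_classes.1 (hsym _ _ h))
    card_commutant.2 card_commutant.1 count_pairs'
  simp only [hxa, hxb, hdegC, map_intCast] at eqA eqB
  -- congruences
  have hcong : ∀ χ, (9 : ℤ) ∣ deg χ + 4 * (co 0 χ + co 1 χ + co 2 χ - 2 * co 3 χ) +
      4 * (co 0 χ + co 1 χ - 2 * co 2 χ + co 3 χ) := by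
    intro χ
    letI := Fintype.ofFinite (M : Subgroup G)
    obtain ⟨n, hn⟩ := H80.ClassMult.exists_sum_subgroup χ (M : Subgroup G)
    rw [hM9] at hn
    have hs : ∑ x : (M : Subgroup G), (χ : G → ℂ) x =
        ∑ w : W, if w * w * w = 1 then (χ : G → ℂ) (e w) else 0 := by
      rw [← Finset.sum_filter]
      refine (Finset.sum_bij (fun w hw => (⟨e w, (L.mem w).mp (Finset.mem_filter.mp hw).2⟩ :
        (M : Subgroup G))) (fun _ _ => Finset.mem_univ _)
        (fun a _ b _ h => L.inj (congrArg Subtype.val h)) ?_ fun _ _ => rfl).symm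
      rintro ⟨x, hx⟩ -
      obtain ⟨w, rfl⟩ := L.M_le hx
      exact ⟨w, Finset.mem_filter.mpr ⟨Finset.mem_univ _, (L.mem w).mpr hx⟩, rfl⟩
    have hcl : ∀ u w : W, conjW u w → (χ : G → ℂ) (e w) = (χ : G → ℂ) (e u) := fun u w h =>
      (classFunction_apply_of_isConj (isClassFunction_irr χ) (isConj_of_conjW e h)).symm
    have hsplit : ∀ w : W, (if w * w * w = 1 then (χ : G → ℂ) (e w) else 0) =
        (if w = 1 then (χ : G → ℂ) 1 else 0) +
        (if conjW ea w then (χ : G → ℂ) (e ea) else 0) +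
        (if conjW (ea * eb) w then (χ : G → ℂ) (e (ea * eb)) else 0) := by
      intro w
      have h := three_classes w
      by_cases h1 : w = 1
      · subst h1
        by_cases c1 : conjW ea 1 <;> by_cases c2 : conjW (ea * eb) 1 <;> simp [c1, c2] at h ⊢
      by_cases h3 : w * w * w = 1 <;> by_cases c1 : conjW ea w <;>
        by_cases c2 : conjW (ea * eb) w <;> simp [h1, h3, c1, c2] at h ⊢
      · exact hcl _ _ c1
      · simpa using hcl _ _ c2
    simp only [hsplit, Finset.sum_add_distrib] at hs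
    rw [Finset.sum_ite_eq' Finset.univ (1 : W), ← Finset.sum_filter, ← Finset.sum_filter,
      Finset.sum_const, Finset.sum_const, card_class.1, card_class.2, hn, hxa, hxb, hdegC] at hs
    simp only [Finset.mem_univ, if_true, nsmul_eq_mul] at hs
    refine ⟨(n : ℤ), ?_⟩
    have h' : ((9 * (n : ℤ) : ℤ) : ℂ) = ((deg χ + 4 * (co 0 χ + co 1 χ + co 2 χ - 2 * co 3 χ) +
      4 * (co 0 χ + co 1 χ - 2 * co 2 χ + co 3 χ) : ℤ) : ℂ) := by
      push_cast at hs ⊢
      linear_combination hs
    exact (Int.cast_injective h').symm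
  -- the order
  have hdvd : ∃ n : ℤ, (Nat.card G : ℤ) = 72 * n ∧ 10 ≤ n := by
    refine ⟨(Nat.card (Sylow 3 G) : ℤ), ?_, ?_⟩
    · have h1 : Nat.card e.range = 72 := by
        rw [← Nat.card_congr (MonoidHom.ofInjective L.inj).toEquiv, Setup.W_card]
      have h2 := Subgroup.card_mul_index e.range
      have h3 : Nat.card (Sylow 3 G) = e.range.index := by
        rw [L.range, M.card_eq_index_normalizer]
        rfl
      rw [h1, ← h3] at h2
      exact_mod_cast h2.symm
    · have : Fact (Nat.Prime 3) := ⟨Nat.prime_three⟩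
      obtain ⟨Q, hQ⟩ : ∃ Q : Sylow 3 G, Q ≠ M := by
        by_contra hcon
        push Not at hcon
        have hnormal : (M : Subgroup G).Normal := by
          rw [← Subgroup.normalizer_eq_top_iff, eq_top_iff]
          intro g _
          exact Sylow.smul_eq_iff_mem_normalizer.mp (hcon (g • M))
        exact hnn hnormal
      have hinj : Function.Injective fun o : Option (M : Subgroup G) =>
          o.elim M (fun m => (m : G) • Q) := by
        have hne : ∀ m : (M : Subgroup G), (m : G) • Q ≠ M := fun m h => hQ (by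
          have hmM : ((m : G))⁻¹ • M = M :=
            Sylow.smul_eq_iff_mem_normalizer.mpr (Subgroup.le_normalizer (inv_mem m.2))
          have h3 := congrArg (((m : G))⁻¹ • ·) h
          simp only [inv_smul_smul] at h3
          exact h3.trans hmM)
        rintro (_ | m) (_ | m') h
        · rfl
        · exact absurd h.symm (hne m')
        · exact absurd h (hne m)
        · simp only [Option.elim] at h
          congr 1
          by_contra hne'
          set z : G := ((m' : G))⁻¹ * m with hz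
          have hzM : z ∈ (M : Subgroup G) := mul_mem (inv_mem m'.2) m.2
          have hz1 : z ≠ 1 := fun h1 => hne' (Subtype.ext (inv_mul_eq_one.mp h1).symm)
          have hfix : z • Q = Q := by rw [hz, mul_smul, h, inv_smul_smul]
          obtain ⟨g, hg⟩ := MulAction.exists_smul_eq G Q M
          have hzN := Sylow.smul_eq_iff_mem_normalizer.mp hfix
          have hzQ : z ∈ (Q : Subgroup G) := by
            have hgz : g * z * g⁻¹ ∈ (M : Subgroup G) := by
              refine L.mem_of_pow (L.range ▸ ?_) (by rw [conj_pow, L.pow_three hzM]; group)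
              refine Sylow.smul_eq_iff_mem_normalizer.mp ?_
              rw [mul_smul, mul_smul, ← hg, inv_smul_smul, hfix]
            rw [← hg] at hgz
            obtain ⟨q, hq, hq'⟩ := hgz
            change g * q * g⁻¹ = g * z * g⁻¹ at hq'
            exact mul_left_cancel (mul_right_cancel hq') ▸ hq
          have hgzM : g * z * g⁻¹ ∈ (M : Subgroup G) := hg ▸ ⟨z, hzQ, rfl⟩
          have hgN : g ∈ e.range := L.ti_M hzM hz1 hgzM
          rw [L.range] at hgN
          exact hQ (by
            rw [← inv_smul_eq_iff.mpr hg.symm]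
            exact Sylow.smul_eq_iff_mem_normalizer.mpr (inv_mem hgN))
      have hc := Nat.card_le_card_of_injective _ hinj
      rw [Finite.card_option, hM9] at hc
      omega
  -- linear characters
  have hlin : ∀ χ : Cfsg.IrrCharacter G, χ ≠ oneChar G → deg χ = 1 →
      (co 0 χ = 1 ∧ co 1 χ = 0 ∧ co 2 χ = 0 ∧ co 3 χ = 0) ∨
      (co 0 χ = 0 ∧ co 1 χ = 1 ∧ co 2 χ = 0 ∧ co 3 χ = 0) ∨
      (co 0 χ = 0 ∧ co 1 χ = 0 ∧ co 2 χ = -1 ∧ co 3 χ = -1) := by
    intro χ hχ h1
    have h1' : (χ : G → ℂ) 1 = 1 := by rw [hdegC, h1]; simp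
    have hmul := Characters.Linear.apply_mul_of_degree_one (isCharacter_irr χ) h1'
    have hcoef : ∀ f : W → ℤ, (∀ w, (χ : G → ℂ) (e w) = (f w : ℂ)) → ∀ (c : Fin 4 → ℤ),
        (∀ i, ∑ w : W, fn i w * f w = 72 * c i) → ∀ i, co i χ = c i := by
      intro f hf c hc i
      have h := hinner i χ
      rw [Chars.inner_F he _ (isClassFunction_irr χ)] at h
      simp only [hf, map_intCast, ← Int.cast_mul] at h
      rw [← Int.cast_sum, hc i] at h
      push_cast at h
      have h' : (co i χ : ℂ) = (c i : ℂ) := by rw [h]; ring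
      exact_mod_cast h'
    rcases hom_values (f := fun w => (χ : G → ℂ) (e w)) (by simp [h1'])
      (fun v w => by simp [hmul]) with h | h | h | h
    · exfalso
      set K := Characters.Kernel.charKer (isCharacter_irr χ) with hK
      have := Characters.Kernel.charKer_normal (isCharacter_irr χ)
      have hN : e.range ≤ K := by
        rintro _ ⟨w, rfl⟩
        exact (Characters.Kernel.mem_charKer _ _).mpr ((h w).trans h1'.symm)
      have : Fact (Nat.Prime 3) := ⟨Nat.prime_three⟩
      have htop : K = ⊤ := by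
        rw [← Sylow.normalizer_sup_eq_top' M (L.M_le.trans hN), sup_eq_right.mpr (L.range ▸ hN)]
      refine hχ (Subtype.ext (funext fun g => ?_))
      rw [oneChar_apply, (Characters.Kernel.mem_charKer (isCharacter_irr χ) g).mp
        (htop ▸ Subgroup.mem_top g : g ∈ K), h1']
    · have := hcoef _ h _ fn_sum_signs.1
      exact Or.inl ⟨this 0, this 1, this 2, this 3⟩
    · have := hcoef _ h _ fn_sum_signs.2.1
      exact Or.inr (Or.inl ⟨this 0, this 1, this 2, this 3⟩)
    · have := hcoef _ h _ fn_sum_signs.2.2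
      exact Or.inr (Or.inr ⟨this 0, this 1, this 2, this 3⟩)
  -- the signs
  have hsign : ∀ (i : Fin 4) (a b c : Cfsg.IrrCharacter G), a ≠ b → a ≠ c → b ≠ c →
      a ≠ oneChar G → b ≠ oneChar G → c ≠ oneChar G → co i a ≠ 0 → co i b ≠ 0 → co i c ≠ 0 →
      (![1, 1, -1, -1] : Fin 4 → ℤ) i * (co i a * deg a * (co i b * deg b) * (co i c * deg c))
        < 0 := by
    intro i a b c hab hac hbc hao hbo hco' hna hnb hnc
    have hnorm : co i a * co i a + co i b * co i b + co i c * co i c + 1 ≤ 4 := by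
      have h4 : ∑ χ, co i χ * co i χ = 4 := by rw [hgram]; fin_cases i <;> rfl
      rw [← h4]
      refine le_trans (le_of_eq ?_) (Finset.sum_le_sum_of_subset_of_nonneg
        (Finset.subset_univ ({oneChar G, a, b, c} : Finset (Cfsg.IrrCharacter G)))
        fun χ _ _ => mul_self_nonneg _)
      rw [Finset.sum_insert (by simp [hao.symm, hbo.symm, hco'.symm]),
        Finset.sum_insert (by simp [hab, hac]), Finset.sum_insert (by simp [hbc]),
        Finset.sum_singleton, hco1]
      ring
    have sq1 : ∀ x : ℤ, x ≠ 0 → 1 ≤ x * x := fun x hx => mul_self_pos.mpr hx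
    have ha1' : co i a * co i a = 1 := by
      have := sq1 _ hna; have := sq1 _ hnb; have := sq1 _ hnc; omega
    have hb1' : co i b * co i b = 1 := by
      have := sq1 _ hna; have := sq1 _ hnb; have := sq1 _ hnc; omega
    have hc1' : co i c * co i c = 1 := by
      have := sq1 _ hna; have := sq1 _ hnb; have := sq1 _ hnc; omega
    have hzero : ∀ χ, χ ∉ ({oneChar G, a, b, c} : Finset (Cfsg.IrrCharacter G)) →
        co i χ = 0 := by
      intro χ hχ
      by_contra hne
      have h4 : ∑ χ, co i χ * co i χ = 4 := by rw [hgram]; fin_cases i <;> rfl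
      have hle := Finset.sum_le_sum_of_subset_of_nonneg
        (Finset.subset_univ (insert χ ({oneChar G, a, b, c} : Finset (Cfsg.IrrCharacter G))))
        (f := fun χ => co i χ * co i χ) fun χ _ _ => mul_self_nonneg _
      rw [h4, Finset.sum_insert hχ,
        Finset.sum_insert (by simp [hao.symm, hbo.symm, hco'.symm]),
        Finset.sum_insert (by simp [hab, hac]), Finset.sum_insert (by simp [hbc]),
        Finset.sum_singleton, hco1, ha1', hb1', hc1'] at hle
      have := sq1 _ hne
      omega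
    have hsum : ∀ f : Cfsg.IrrCharacter G → ℂ, ∑ χ, (co i χ : ℂ) * f χ =
        f (oneChar G) + co i a * f a + co i b * f b + co i c * f c := by
      intro f
      rw [← Finset.sum_subset (Finset.subset_univ
        ({oneChar G, a, b, c} : Finset (Cfsg.IrrCharacter G)))
        fun χ _ hχ => by rw [hzero χ hχ, Int.cast_zero, zero_mul],
        Finset.sum_insert (by simp [hao.symm, hbo.symm, hco'.symm]),
        Finset.sum_insert (by simp [hab, hac]), Finset.sum_insert (by simp [hbc]),
        Finset.sum_singleton, hco1]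
      push_cast
      ring
    have hj : e tb * e tb = 1 := by rw [← map_mul, ht2, map_one]
    have hk : e sw * e sw = 1 := by rw [← map_mul, hs2, map_one]
    set r : G → Cfsg.IrrCharacter G → ℝ := fun g χ => (co i χ : ℝ) * ((χ : G → ℂ) g).re
    have hreal : ∀ g : G, g * g = 1 → ∀ χ : Cfsg.IrrCharacter G,
        (co i χ : ℂ) * (χ : G → ℂ) g = (r g χ : ℂ) := by
      intro g hg χ
      have h := apply_inv (isCharacter_irr χ) g
      rw [inv_eq_of_mul_eq_one_right hg] at h
      have h2 : (((χ : G → ℂ) g).re : ℂ) = (χ : G → ℂ) g := Complex.conj_eq_iff_re.mp h.symm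
      simp only [r]
      push_cast
      rw [h2]
    set X : Cfsg.IrrCharacter G → ℝ := fun χ => ((co i χ * deg χ : ℤ) : ℝ)
    have hX : X a + X b + X c = -1 := by
      have h := (hexp i 1).symm.trans (Chars.F_one he i)
      rw [hsum (fun χ => (χ : G → ℂ) 1), hdegC, hdegC, hdegC, hdegC, hdo] at h
      have h' : ((1 + co i a * deg a + co i b * deg b + co i c * deg c : ℤ) : ℂ) = 0 := by
        push_cast; exact_mod_cast h
      have h'' : (1 + co i a * deg a + co i b * deg b + co i c * deg c : ℤ) = 0 := by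
        exact_mod_cast h'
      have : ((1 + co i a * deg a + co i b * deg b + co i c * deg c : ℤ) : ℝ) = 0 := by
        exact_mod_cast h''
      simp only [X]
      push_cast at this ⊢
      linarith
    have hR : ∀ g : G, g * g = 1 → r g a + r g b + r g c = -1 := by
      intro g hg
      have h := (hexp i g).symm.trans (Chars.F_sq he i hg)
      rw [hsum (fun χ => (χ : G → ℂ) g), hreal g hg a, hreal g hg b, hreal g hg c,
        oneChar_apply] at h
      have h' : ((1 + r g a + r g b + r g c : ℝ) : ℂ) = 0 := by push_cast; exact h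
      have : (1 + r g a + r g b + r g c : ℝ) = 0 := by exact_mod_cast h'
      linarith
    have hQ : ∀ g g' : G, g * g = 1 → g' * g' = 1 →
        1 + r g a * r g' a / X a + r g b * r g' b / X b + r g c * r g' c / X c =
          ((Nat.card G : ℝ))⁻¹ * ((72 : ℝ)⁻¹ * Nat.card (Subgroup.centralizer ({g} : Set G)) *
            Nat.card (Subgroup.centralizer ({g'} : Set G))) *
            (pairSum i (Chars.inClass e g) (Chars.inClass e g') : ℝ) := by
      intro g g' hg hg'
      have h := Chars.sum_F_mul_conj he i hg hg'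
      simp only [hexp] at h
      rw [Finset.sum_comm] at h
      simp only [← Finset.mul_sum, H80.ClassMult.sum_apply_mul_conj] at h
      rw [hsum, oneChar_apply, oneChar_apply, oneChar_apply] at h
      have hterm : ∀ χ, co i χ * co i χ = 1 →
          (co i χ : ℂ) * ((Nat.card G : ℂ) * (χ : G → ℂ) g * (χ : G → ℂ) g' / (χ : G → ℂ) 1) =
            (Nat.card G : ℂ) * ((r g χ * r g' χ / X χ : ℝ) : ℂ) := by
        intro χ hχ
        simp only [X]
        push_cast
        rw [← hreal g hg, ← hreal g' hg', hdegC]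
        have hd : (deg χ : ℂ) ≠ 0 := Int.cast_ne_zero.mpr (hdpos χ).ne'
        have hc : (co i χ : ℂ) * (co i χ : ℂ) = 1 := by exact_mod_cast hχ
        have hc0 : (co i χ : ℂ) ≠ 0 := fun h0 => by rw [h0, zero_mul] at hc; exact zero_ne_one hc
        field_simp
      rw [hterm a ha1', hterm b hb1', hterm c hc1'] at h
      have hG : (Nat.card G : ℂ) ≠ 0 := Induced.Basic.natCard_ne_zero
      apply Complex.ofReal_injective
      push_cast at h ⊢
      apply mul_left_cancel₀ hG
      rw [← mul_assoc (Nat.card G : ℂ), ← mul_assoc (Nat.card G : ℂ), mul_inv_cancel₀ hG, one_mul]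
      rw [← h]
      ring
    have hdet := L.classes hM9 i
    have hne : ∀ χ, co i χ ≠ 0 → X χ ≠ 0 := fun χ h =>
      Int.cast_ne_zero.mpr (mul_ne_zero h (hdpos χ).ne')
    have hσ : (detSign i : ℝ) * (X a * X b * X c) < 0 := by
      refine sign_of_det (hne a hna) (hne b hnb) (hne c hnc) hX (hR _ hj) (hR _ hk) ?_
      rw [hQ _ _ hj hj, hQ _ _ hk hk, hQ _ _ hj hk]
      have hpos : (0 : ℝ) < (Nat.card G : ℝ)⁻¹ * ((72 : ℝ)⁻¹ *
          Nat.card (Subgroup.centralizer ({e tb} : Set G)) *
          Nat.card (Subgroup.centralizer ({e sw} : Set G))) := by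
        have : (0 : ℝ) < Nat.card G := Nat.cast_pos.mpr Nat.card_pos
        have : (0 : ℝ) < Nat.card (Subgroup.centralizer ({e tb} : Set G)) :=
          Nat.cast_pos.mpr Nat.card_pos
        have : (0 : ℝ) < Nat.card (Subgroup.centralizer ({e sw} : Set G)) :=
          Nat.cast_pos.mpr Nat.card_pos
        positivity
      have hd : (0 : ℝ) < ((detSign i * pairDet i (Chars.inClass e (e tb))
          (Chars.inClass e (e sw)) : ℤ) : ℝ) := by exact_mod_cast hdet
      have := mul_pos (pow_pos hpos 2) hd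
      simp only [pairDet] at this
      push_cast at this
      calc (0 : ℝ) < _ := this
        _ = _ := by ring
    have : ((detSign i * (co i a * deg a * (co i b * deg b) * (co i c * deg c)) : ℤ) : ℝ) < 0 := by
      push_cast
      simpa [X] using hσ
    exact_mod_cast this
  have hgne : (Nat.card G : ℤ) ≠ 0 := by exact_mod_cast Nat.card_pos.ne'
  have key := Cases.order_data
    { o := oneChar G
      deg := deg
      co := co
      g := (Nat.card G : ℤ)
      deg_pos := hdpos
      deg_o := hdo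
      lin := hlin
      co_o := hco1
      norm := fun i => by rw [hgram]; fin_cases i <;> rfl
      i01 := by rw [hgram]; rfl
      i02 := by rw [hgram]; rfl
      i13 := by rw [hgram]; rfl
      i23 := by rw [hgram]; rfl
      i03 := by rw [hgram]; rfl
      i12 := by rw [hgram]; rfl
      deg0 := hdeg0
      sign := hsign
      gdiv := hdvd
      degsq := by
        have h := finsum_degree_sq (G := G)
        rw [finsum_eq_sum_of_fintype] at h
        simp only [hdegC, sq] at h
        exact le_of_eq (by exact_mod_cast h)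
      eqA := by
        apply Rat.cast_injective (α := ℂ)
        push_cast at eqA ⊢
        exact eqA
      eqB := by
        apply Rat.cast_injective (α := ℂ)
        push_cast at eqB ⊢
        rw [← eqB]
        exact Finset.sum_congr rfl fun χ _ => by ring
      cong := hcong }
  simp only at key
  exact_mod_cast key

/-- No such group is simple. -/
theorem false_of_local (L : Local e M) (hM9 : Nat.card (M : Subgroup G) = 9) [IsSimpleGroup G] :
    False := by
  have hcomm : ¬ IsMulCommutative G := fun h => not_comm (L.inj (by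
    rw [map_mul, map_mul]; exact h.is_comm.comm _ _))
  have hnn : ¬ (M : Subgroup G).Normal := fun hn => by
    rcases hn.eq_bot_or_eq_top with h | h
    · rw [h, Subgroup.card_bot] at hM9; omega
    · exact absurd ((L.mem tb).mpr (h ▸ Subgroup.mem_top _)) (by decide +kernel)
  exact Classif.Order720.card_ne_720 hcomm (order_of_local L hM9 hnn)

end Cfsg.Agent.Lib.ThreeNine.Main
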