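import Cfsg.Agent.Lib.Induced.Generalized
import Cfsg.Agent.Lib.Induced.Character
import Mathlib.GroupTheory.SpecificGroups.Dihedral
import Mathlib.GroupTheory.SemidirectProduct

/-!
# The wreath product of the dihedral group of order six by a group of order two

This is the model of the normaliser of a self-centralising Sylow `3`-subgroup of order nine with
dihedral quotient of order eight, with the class functions used for induction.
-/

set_option autoImplicit false

namespace Cfsg.Agent.Lib.ThreeNine.Model

open Cfsg.Agent.Lib.Induced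

abbrev D := DihedralGroup 3

def flipHom : Multiplicative (ZMod 2) →* MulAut (D × D) where
  toFun e := if e = 1 then 1 else MulEquiv.prodComm
  map_one' := by simp
  map_mul' := by
    intro a b
    fin_cases a <;> fin_cases b <;> first | rfl | (ext x <;> rfl)

abbrev W := (D × D) ⋊[flipHom] Multiplicative (ZMod 2)

instance instDecidableEqW : DecidableEq W :=
  fun a b => decidable_of_iff _ SemidirectProduct.equivProd.injective.eq_iff

instance instFintypeW : Fintype W :=
  Fintype.ofEquiv _ SemidirectProduct.equivProd.symm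

def mk (x y : D) (e : Multiplicative (ZMod 2)) : W := ⟨(x, y), e⟩

/-- Generators: two elements of order three, two reflections, the exchange. -/
def ea : W := mk (.r 1) (.r 0) 1
def eb : W := mk (.r 0) (.r 1) 1
def ta : W := mk (.sr 0) (.r 0) 1
def tb : W := mk (.r 0) (.sr 0) 1
def sw : W := mk (.r 0) (.r 0) (Multiplicative.ofAdd 1)

def IsRot : D → Bool
  | .r _ => true
  | .sr _ => false

def fixD : D → ℤ
  | .r i => if i = 0 then 3 else 0
  | .sr _ => 1

def rotSign (d : D) : ℤ := if IsRot d then 1 else -1

def flipSign (w : W) : ℤ := rotSign w.left.1 * rotSign w.left.2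

def swapSign (w : W) : ℤ := if w.right = 1 then 1 else -1

theorem flipSign_mul : ∀ v w : W, flipSign (v * w) = flipSign v * flipSign w := by decide +kernel

theorem swapSign_mul : ∀ v w : W, swapSign (v * w) = swapSign v * swapSign w := by decide +kernel

def perm6 (w : W) : ℤ := if w.right = 1 then fixD w.left.1 + fixD w.left.2 else 0

def perm9 (w : W) : ℤ :=
  if w.right = 1 then fixD w.left.1 * fixD w.left.2 else fixD (w.left.1 * w.left.2)

def perm4 (w : W) : ℤ :=
  if w.right = 1 then
    (if IsRot w.left.1 then 2 else 0) + (if IsRot w.left.2 then 2 else 0)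
  else 0

def sub6 : Subgroup W where
  carrier := {w | w.right = 1 ∧ (w.left.1 = .r 0 ∨ w.left.1 = .sr 0)}
  one_mem' := by decide
  mul_mem' := by
    intro a b ha hb
    revert ha hb
    revert a b
    decide +kernel
  inv_mem' := by
    intro a ha
    revert ha
    revert a
    decide +kernel

def sub9 : Subgroup W where
  carrier := {w | (w.left.1 = .r 0 ∨ w.left.1 = .sr 0) ∧ (w.left.2 = .r 0 ∨ w.left.2 = .sr 0)}
  one_mem' := by decide
  mul_mem' := by
    intro a b ha hb
    revert ha hb
    revert a b
    decide +kernel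
  inv_mem' := by
    intro a ha
    revert ha
    revert a
    decide +kernel

def sub4 : Subgroup W where
  carrier := {w | w.right = 1 ∧ IsRot w.left.1}
  one_mem' := by decide
  mul_mem' := by
    intro a b ha hb
    revert ha hb
    revert a b
    decide +kernel
  inv_mem' := by
    intro a ha
    revert ha
    revert a
    decide +kernel

instance decSub6 : DecidablePred (· ∈ sub6) :=
  fun w => inferInstanceAs (Decidable (w.right = 1 ∧ (w.left.1 = .r 0 ∨ w.left.1 = .sr 0)))

instance decSub9 : DecidablePred (· ∈ sub9) :=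
  fun w => inferInstanceAs
    (Decidable ((w.left.1 = .r 0 ∨ w.left.1 = .sr 0) ∧ (w.left.2 = .r 0 ∨ w.left.2 = .sr 0)))

instance decSub4 : DecidablePred (· ∈ sub4) :=
  fun w => inferInstanceAs (Decidable (w.right = 1 ∧ IsRot w.left.1))

theorem indFun_one_eq (H : Subgroup W) [DecidablePred (· ∈ H)] (c : ℕ) (f : W → ℤ)
    (hH : (Finset.univ.filter (· ∈ H)).card = c)
    (hf : ∀ w : W, ((Finset.univ.filter fun x : W => x⁻¹ * w * x ∈ H).card : ℤ) = c * f w) :
    Cfsg.indFun H (1 : H → ℂ) = fun w => (f w : ℂ) := by
  funext w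
  have hc : Nat.card H = c := by
    rw [← hH, Nat.card_eq_fintype_card, Fintype.card_subtype]
  rw [Induced.Basic.indFun_apply, hc]
  have h1 : (∑ x : W, if hx : x⁻¹ * w * x ∈ H then
      (1 : H → ℂ) ⟨x⁻¹ * w * x, hx⟩ else 0) = (c : ℂ) * (f w : ℂ) := by
    simp only [Pi.one_apply, dite_eq_ite, Finset.sum_boole]
    exact_mod_cast hf w
  have hc0 : (c : ℂ) ≠ 0 := by
    rw [← hc]
    exact Nat.cast_ne_zero.mpr Nat.card_pos.ne'
  rw [h1, inv_mul_cancel_left₀ hc0]

theorem isGen_perm (H : Subgroup W) [DecidablePred (· ∈ H)] (c : ℕ) (f : W → ℤ)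
    (hH : (Finset.univ.filter (· ∈ H)).card = c)
    (hf : ∀ w : W, ((Finset.univ.filter fun x : W => x⁻¹ * w * x ∈ H).card : ℤ) = c * f w) :
    Cfsg.IsGeneralizedCharacter W (fun w => (f w : ℂ)) := by
  rw [← indFun_one_eq H c f hH hf]
  exact Induced.Character.isGeneralizedCharacter_indFun H
    (Generalized.of_isCharacter Characters.Basic.isCharacter_one)

theorem isGen_perm6 : Cfsg.IsGeneralizedCharacter W (fun w => (perm6 w : ℂ)) :=
  isGen_perm sub6 12 perm6 (by decide +kernel) (by decide +kernel)

theorem isGen_perm9 : Cfsg.IsGeneralizedCharacter W (fun w => (perm9 w : ℂ)) :=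
  isGen_perm sub9 8 perm9 (by decide +kernel) (by decide +kernel)

theorem isGen_perm4 : Cfsg.IsGeneralizedCharacter W (fun w => (perm4 w : ℂ)) :=
  isGen_perm sub4 18 perm4 (by decide +kernel) (by decide +kernel)

theorem isGen_sign (f : W → ℤ) (h1 : f 1 = 1) (hm : ∀ v w, f (v * w) = f v * f w) :
    Cfsg.IsGeneralizedCharacter W (fun w => (f w : ℂ)) := by
  let φ : W →* ℂ :=
    { toFun := fun w => (f w : ℂ)
      map_one' := by simp [h1]
      map_mul' := fun v w => by simp [hm v w] }
  exact Generalized.of_isCharacter (Induced.Character.isCharacter_hom φ.toHomUnits)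

theorem isGen_flipSign : Cfsg.IsGeneralizedCharacter W (fun w => (flipSign w : ℂ)) :=
  isGen_sign flipSign (by decide) flipSign_mul

theorem isGen_swapSign : Cfsg.IsGeneralizedCharacter W (fun w => (swapSign w : ℂ)) :=
  isGen_sign swapSign (by decide) swapSign_mul

/-- The four class functions vanishing off the elements with nontrivial `3`-part. -/
def fn : Fin 4 → W → ℤ
  | 0, w => 1 + flipSign w + (perm4 w - 1 - swapSign w) - (perm9 w - perm6 w + swapSign w)
  | 1, w => perm4 w - perm6 w + 1 + swapSign w
  | 2, w => 1 - flipSign w * swapSign w + flipSign w * (perm6 w - 1 - swapSign w)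
      - (perm9 w - perm6 w + swapSign w)
  | 3, w => 1 - flipSign w * swapSign w - (perm6 w - 1 - swapSign w)
      + (swapSign w * perm9 w - swapSign w * perm6 w + 1)

theorem isGen_fn (i : Fin 4) : Cfsg.IsGeneralizedCharacter W (fun w => (fn i w : ℂ)) := by
  have h1 : Cfsg.IsGeneralizedCharacter W (fun _ => (1 : ℂ)) := by
    simpa using Generalized.isGen_const (G := W) 1
  have A := isGen_flipSign
  have B := isGen_swapSign
  have P6 := isGen_perm6
  have P9 := isGen_perm9
  have P4 := isGen_perm4
  open Generalized in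
  fin_cases i <;> simp only [fn, Int.cast_add, Int.cast_sub, Int.cast_mul, Int.cast_one]
  · exact isGen_sub (isGen_add (isGen_add h1 A) (isGen_sub (isGen_sub P4 h1) B))
      (isGen_add (isGen_sub P9 P6) B)
  · exact isGen_add (isGen_add (isGen_sub P4 P6) h1) B
  · exact isGen_sub (isGen_add (isGen_sub h1 (isGen_mul A B))
      (isGen_mul A (isGen_sub (isGen_sub P6 h1) B))) (isGen_add (isGen_sub P9 P6) B)
  · exact isGen_add (isGen_sub (isGen_sub h1 (isGen_mul A B)) (isGen_sub (isGen_sub P6 h1) B))
      (isGen_add (isGen_sub (isGen_mul B P9) (isGen_mul B P6)) h1)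

/-- Conjugacy in the model. -/
def conjW (u v : W) : Prop := ∃ g : W, g * u * g⁻¹ = v

instance decConjW (u v : W) : Decidable (conjW u v) :=
  inferInstanceAs (Decidable (∃ g : W, g * u * g⁻¹ = v))

/-- The support: elements whose `3`-part is nontrivial. -/
def supp (w : W) : Prop := w * w ≠ 1 ∧ w * w * w * w ≠ 1

instance decSupp (w : W) : Decidable (supp w) :=
  inferInstanceAs (Decidable (w * w ≠ 1 ∧ w * w * w * w ≠ 1))

theorem supp_inv : ∀ w : W, supp w → supp w⁻¹ := by decide +kernel

theorem fn_eq_zero : ∀ (i : Fin 4) (w : W), ¬ supp w → fn i w = 0 := by decide +kernel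

theorem fn_one : ∀ i : Fin 4, fn i 1 = 0 := by decide +kernel

/-- The Gram matrix. -/
def gram : Fin 4 → Fin 4 → ℤ :=
  ![![4, 2, 2, 1], ![2, 4, 1, 2], ![2, 1, 4, 2], ![1, 2, 2, 4]]

theorem fn_inner : ∀ i j : Fin 4, ∑ w : W, fn i w * fn j w = 72 * gram i j := by decide +kernel

theorem fn_sum : ∀ i : Fin 4, ∑ w : W, fn i w = 72 := by decide +kernel

/-- The element `ea`'s class and the class of `ea * eb` are read off by combinations. -/
theorem fn_combination_a : ∀ w : W,
    fn 0 w + fn 1 w + fn 2 w - 2 * fn 3 w = if conjW ea w then 18 else 0 := by decide +kernel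

theorem fn_combination_ab : ∀ w : W,
    fn 0 w + fn 1 w - 2 * fn 2 w + fn 3 w = if conjW (ea * eb) w then 18 else 0 := by
  decide +kernel

/-- Involution classes. -/
def invA (w : W) : Bool := decide (conjW tb w)
def invB (w : W) : Bool := decide (conjW sw w)
def invC (w : W) : Bool := decide (conjW (ta * tb) w)

/-- Weighted pair sum over two sets of involutions. -/
def pairSum (i : Fin 4) (J K : W → Bool) : ℤ :=
  ∑ s : W, ∑ t : W, if J s ∧ K t then fn i (s * t) else 0

def pairDet (i : Fin 4) (J K : W → Bool) : ℤ :=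
  pairSum i J J * pairSum i K K - pairSum i J K * pairSum i J K

/-- The sign of the determinant: negative for the last two functions. -/
def detSign : Fin 4 → ℤ := ![1, 1, -1, -1]

theorem det_plain : ∀ i : Fin 4, 0 < detSign i * pairDet i invA invB := by decide +kernel

theorem det_fuseA : ∀ i : Fin 4,
    0 < detSign i * pairDet i (fun w => invA w || invC w) invB := by decide +kernel

theorem det_fuseB : ∀ i : Fin 4,
    0 < detSign i * pairDet i invA (fun w => invB w || invC w) := by decide +kernel

theorem invol_cases : ∀ w : W, w * w = 1 → w ≠ 1 →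
    invA w = true ∨ invB w = true ∨ invC w = true := by decide +kernel

/-- Facts about the elements of order three. -/
theorem three_supp : ∀ w : W, w * w * w = 1 → w ≠ 1 → supp w := by decide +kernel

theorem supp_three : ∀ w : W, supp w → ∃ n : Fin 4, (w ^ (n : ℕ)) * (w ^ (n : ℕ)) * (w ^ (n : ℕ)) = 1 ∧
    w ^ (n : ℕ) ≠ 1 := by decide +kernel

theorem not_conj_classes : ¬ conjW ea (ea * eb) ∧ ¬ conjW ea ((ea * eb) * (ea * eb)) := by
  decide +kernel

theorem conj_inv_classes : conjW ea (ea * ea) ∧ conjW (ea * eb) ((ea * eb) * (ea * eb)) := by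
  decide +kernel

theorem count_pairs :
    (Finset.univ.filter fun w : W => conjW ea w ∧ conjW (ea * eb) (ea * w)).card = 2 := by
  decide +kernel

theorem tb_ea : tb * ea = ea * tb := by decide +kernel

theorem sw_eaeb : sw * (ea * eb) = (ea * eb) * sw := by decide +kernel

theorem basic_orders : tb * tb = 1 ∧ sw * sw = 1 ∧ ta * tb * (ta * tb) = 1 ∧ tb ≠ 1 ∧ sw ≠ 1 ∧
    ea * ea * ea = 1 ∧ ea ≠ 1 ∧ (ea * eb) * (ea * eb) * (ea * eb) = 1 ∧ ea * eb ≠ 1 := by
  decide +kernel

theorem invA_tb : invA tb = true ∧ invB sw = true ∧ invC (ta * tb) = true := by decide +kernel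

theorem invol_of : ∀ w : W, invA w = true ∨ invB w = true ∨ invC w = true → w * w = 1 := by
  decide +kernel

theorem count_pairs' :
    (Finset.univ.filter fun w : W => conjW (ea * eb) w ∧ conjW ea ((ea * eb) * w)).card = 2 := by
  decide +kernel

theorem card_class :
    (Finset.univ.filter fun w : W => conjW ea w).card = 4 ∧
      (Finset.univ.filter fun w : W => conjW (ea * eb) w).card = 4 := by
  decide +kernel

theorem three_classes : ∀ w : W,
    (if w * w * w = 1 then (1 : ℕ) else 0) =
      (if w = 1 then 1 else 0) + (if conjW ea w then 1 else 0) +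
        (if conjW (ea * eb) w then 1 else 0) := by
  decide +kernel

theorem card_commutant :
    (Finset.univ.filter fun w : W => w * ea = ea * w).card = 18 ∧
      (Finset.univ.filter fun w : W => w * (ea * eb) = ea * eb * w).card = 18 := by
  decide +kernel

theorem not_comm : tb * sw ≠ sw * tb := by decide +kernel

end Cfsg.Agent.Lib.ThreeNine.Model
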